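import Mathlib

/-!
# Relative traces between a group and a local subgroup

For a ring `R` receiving a finite group `G`, an idempotent `f` fixed by a subgroup `I` which is a
relative trace from a subgroup `P` meeting its conjugates outside a larger subgroup trivially, an
element commuting with `I` and cut by `f` is, up to traces from the trivial subgroup, cut out of an
element commuting with all of `G`.
-/

set_option autoImplicit false

namespace Cfsg.Agent.Lib.CyclicDefect

open Finset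

universe u v

variable {G : Type u} [Group G] {R : Type v} [Ring R] (γ : G →* R)

/-- Conjugation by a group element inside the ring. -/
def cj (g : G) (r : R) : R := γ g * r * γ g⁻¹

@[simp] theorem cj_one (r : R) : cj γ 1 r = r := by simp [cj]

theorem map_mul_inv_self (g : G) : γ g * γ g⁻¹ = 1 := by rw [← map_mul, mul_inv_cancel, map_one]

theorem map_inv_mul_self (g : G) : γ g⁻¹ * γ g = 1 := by rw [← map_mul, inv_mul_cancel, map_one]

theorem cj_mul (g h : G) (r : R) : cj γ (g * h) r = cj γ g (cj γ h r) := by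
  simp only [cj, map_mul, mul_inv_rev, mul_assoc]

theorem cj_mul_right (g : G) (r s : R) : cj γ g (r * s) = cj γ g r * cj γ g s := by
  simp only [cj, mul_assoc]
  rw [← mul_assoc (γ g⁻¹) (γ g), map_inv_mul_self, one_mul]

theorem cj_sum {ι : Type*} (t : Finset ι) (g : G) (r : ι → R) :
    cj γ g (∑ i ∈ t, r i) = ∑ i ∈ t, cj γ g (r i) := by
  simp only [cj, Finset.mul_sum, Finset.sum_mul]

theorem cj_eq_self_iff {g : G} {r : R} : cj γ g r = r ↔ γ g * r = r * γ g := by
  constructor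
  · intro h
    conv_rhs => rw [← h]
    rw [cj, mul_assoc (γ g * r), map_inv_mul_self, mul_one]
  · intro h
    rw [cj, h, mul_assoc, map_mul_inv_self, mul_one]

/-- An element of `R` which is a trace from the trivial subgroup of `I`. -/
def IsNull (I : Subgroup G) [Fintype I] (r : R) : Prop := ∃ ψ, r = ∑ h : I, cj γ (h : G) ψ

namespace IsNull

variable {γ} {I : Subgroup G} [Fintype I] {r s : R}

theorem zero : IsNull γ I (0 : R) := ⟨0, by simp [cj]⟩

theorem add (hr : IsNull γ I r) (hs : IsNull γ I s) : IsNull γ I (r + s) := by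
  obtain ⟨a, rfl⟩ := hr
  obtain ⟨b, rfl⟩ := hs
  exact ⟨a + b, by simp only [cj, mul_add, add_mul, Finset.sum_add_distrib]⟩

theorem neg (hr : IsNull γ I r) : IsNull γ I (-r) := by
  obtain ⟨a, rfl⟩ := hr
  exact ⟨-a, by simp only [cj, mul_neg, neg_mul, Finset.sum_neg_distrib]⟩

theorem sub (hr : IsNull γ I r) (hs : IsNull γ I s) : IsNull γ I (r - s) :=
  sub_eq_add_neg r s ▸ hr.add hs.neg

theorem mul_left (hr : IsNull γ I r) (hs : ∀ h ∈ I, cj γ h s = s) : IsNull γ I (s * r) := by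
  obtain ⟨a, rfl⟩ := hr
  refine ⟨s * a, ?_⟩
  rw [Finset.mul_sum]
  exact Finset.sum_congr rfl fun h _ => by rw [cj_mul_right, hs h h.2]

theorem mul_right (hr : IsNull γ I r) (hs : ∀ h ∈ I, cj γ h s = s) : IsNull γ I (r * s) := by
  obtain ⟨a, rfl⟩ := hr
  refine ⟨a * s, ?_⟩
  rw [Finset.sum_mul]
  exact Finset.sum_congr rfl fun h _ => by rw [cj_mul_right, hs h h.2]

end IsNull

/-- Transitivity: the trace from `P` of a trace from the trivial subgroup. -/
theorem sum_quotient_sum {H : Subgroup G} [Fintype H] (P : Subgroup H) [Fintype P]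
    [Fintype (H ⧸ P)] (ξ : R) :
    ∑ c : H ⧸ P, cj γ ((c.out : H) : G) (∑ w : P, cj γ ((w : H) : G) ξ) =
      ∑ h : H, cj γ (h : G) ξ := by
  simp only [cj_sum, ← cj_mul, ← Subgroup.coe_mul]
  rw [← Fintype.sum_prod_type']
  refine Fintype.sum_bijective (fun x : (H ⧸ P) × P => x.1.out * (x.2 : H)) ⟨fun a b h => ?_,
    fun y => ?_⟩ _ _ fun _ => rfl
  · have h1 : a.1 = b.1 := by
      have := congrArg (fun z : H => (z : H ⧸ P)) h
      simpa [QuotientGroup.mk_mul_of_mem _ a.2.2, QuotientGroup.mk_mul_of_mem _ b.2.2] using this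
    refine Prod.ext h1 (Subtype.ext ?_)
    have h' : a.1.out * (a.2 : H) = b.1.out * (b.2 : H) := h
    rw [h1] at h'
    exact mul_left_cancel h'
  · refine ⟨((y : H ⧸ P), ⟨(y : H ⧸ P).out⁻¹ * y, ?_⟩), mul_inv_cancel_left _ _⟩
    exact QuotientGroup.eq.1 (QuotientGroup.out_eq' _)

variable [Finite G]

/-- The descent of an element commuting with `I` from one commuting with `G`. -/
theorem exists_descent (P I N : Subgroup G) [Fintype I] (hPI : P ≤ I) (hIN : I ≤ N)
    [Fintype (I ⧸ P.subgroupOf I)] {f x φ : R} (hfI : ∀ h ∈ I, cj γ h f = f)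
    (hf : ∀ g ∈ N, g ∉ I → f * cj γ g f = 0)
    (hx : ∀ d ∈ P, cj γ d x = x)
    (htr : ∑ c : I ⧸ P.subgroupOf I, cj γ ((c.out : I) : G) x = f)
    (hdisj : ∀ g ∉ N, ∀ d ∈ P, g⁻¹ * d * g ∈ P → d = 1)
    (hφI : ∀ h ∈ I, cj γ h φ = φ) (hfφ : f * φ = φ) (hφf : φ * f = φ) :
    ∃ Φ : R, (∀ g, cj γ g Φ = Φ) ∧ IsNull γ I (f * Φ * f - φ) := by
  classical
  haveI : Fintype G := Fintype.ofFinite G
  set ψ := f * (φ * x) * f with hψ
  have hψP : ∀ d ∈ P, cj γ d ψ = ψ := fun d hd => by
    simp only [hψ, cj_mul_right, hfI d (hPI hd), hφI d (hPI hd), hx d hd]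
  have hψtr : ∑ c : I ⧸ P.subgroupOf I, cj γ ((c.out : I) : G) ψ = φ := by
    have h1 : ∀ c : I ⧸ P.subgroupOf I, cj γ ((c.out : I) : G) ψ =
        f * φ * cj γ ((c.out : I) : G) x * f := fun c => by
      simp only [hψ, cj_mul_right, hfI _ (c.out : I).2, hφI _ (c.out : I).2, mul_assoc]
    rw [Finset.sum_congr rfl fun c _ => h1 c, ← Finset.sum_mul, ← Finset.mul_sum, htr, hfφ, hφf,
      hφf]
  let F : G ⧸ P → R := fun c => cj γ c.out ψ
  have hF : ∀ g : G, F (g : G ⧸ P) = cj γ g ψ := fun g => by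
    obtain ⟨d, hd⟩ := QuotientGroup.mk_out_eq_mul P g
    show cj γ ((g : G ⧸ P)).out ψ = _
    rw [hd, cj_mul, hψP _ d.2]
  have hFsmul : ∀ (g : G) (c : G ⧸ P), cj γ g (F c) = F (g • c) := fun g c => by
    conv_rhs => rw [← QuotientGroup.out_eq' c, MulAction.Quotient.smul_coe, smul_eq_mul, hF]
    exact (cj_mul γ g c.out ψ).symm
  refine ⟨∑ c : G ⧸ P, F c, fun g => ?_, ?_⟩
  · rw [cj_sum]
    exact Fintype.sum_equiv (MulAction.toPerm g) _ _ fun c => hFsmul g c
  -- three kinds of cosets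
  have hfFf : f * (∑ c : G ⧸ P, F c) * f = ∑ c : G ⧸ P, f * F c * f := by
    rw [Finset.mul_sum, Finset.sum_mul]
  rw [hfFf, ← Finset.sum_filter_add_sum_filter_not Finset.univ (fun c : G ⧸ P => c.out ∈ N)]
  have hin : ∑ c ∈ Finset.univ.filter (fun c : G ⧸ P => c.out ∈ N), f * F c * f = φ := by
    rw [← Finset.sum_filter_add_sum_filter_not (Finset.univ.filter fun c : G ⧸ P => c.out ∈ N)
      (fun c : G ⧸ P => c.out ∈ I)]
    have h0 : ∑ c ∈ (Finset.univ.filter fun c : G ⧸ P => c.out ∈ N).filter (fun c => ¬ c.out ∈ I),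
        f * F c * f = 0 := by
      refine Finset.sum_eq_zero fun c hc => ?_
      simp only [Finset.mem_filter, Finset.mem_univ, true_and] at hc
      show f * cj γ c.out ψ * f = 0
      rw [hψ, cj_mul_right, cj_mul_right, ← mul_assoc f, ← mul_assoc f, hf _ hc.1 hc.2]
      simp
    rw [h0, add_zero]
    calc _ = ∑ c : I ⧸ P.subgroupOf I, f * cj γ ((c.out : I) : G) ψ * f := by
          refine (Finset.sum_nbij (fun c : I ⧸ P.subgroupOf I => (((c.out : I) : G) : G ⧸ P))
            (fun c _ => ?_) (fun c _ c' _ h => ?_) (fun q hq => ?_) fun c _ => ?_).symm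
          · obtain ⟨d, hd⟩ := QuotientGroup.mk_out_eq_mul P ((c.out : I) : G)
            have : ((((c.out : I) : G) : G ⧸ P)).out ∈ I := hd ▸ mul_mem (c.out : I).2 (hPI d.2)
            simp only [Finset.coe_filter, Finset.mem_filter, Finset.mem_univ, true_and,
              Set.mem_setOf_eq]
            exact ⟨hIN this, this⟩
          · rw [← c.out_eq', ← c'.out_eq']
            refine QuotientGroup.eq.2 (Subgroup.mem_subgroupOf.2 ?_)
            simpa using QuotientGroup.eq.1 h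
          · simp only [Finset.coe_filter, Finset.mem_filter, Finset.mem_univ, true_and,
              Set.mem_setOf_eq] at hq
            refine ⟨((⟨q.out, hq.2⟩ : I) : I ⧸ P.subgroupOf I), Finset.mem_univ _, ?_⟩
            obtain ⟨d, hd⟩ := QuotientGroup.mk_out_eq_mul (P.subgroupOf I) (⟨q.out, hq.2⟩ : I)
            simp only [hd, Subgroup.coe_mul]
            rw [QuotientGroup.mk_mul_of_mem _ (Subgroup.mem_subgroupOf.1 d.2), QuotientGroup.out_eq']
          · rw [hF]
      _ = φ := by rw [← Finset.sum_mul, ← Finset.mul_sum, hψtr, hfφ, hφf]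
  rw [hin, add_sub_cancel_left]
  -- the free cosets
  set X := Finset.univ.filter (fun c : G ⧸ P => ¬ c.out ∈ N) with hX
  have hmem : ∀ {g : G}, (g : G ⧸ P) ∈ X ↔ g ∉ N := fun {g} => by
    simp only [hX, Finset.mem_filter, Finset.mem_univ, true_and]
    obtain ⟨d, hd⟩ := QuotientGroup.mk_out_eq_mul P g
    rw [hd, Subgroup.mul_mem_cancel_right _ (hIN (hPI d.2))]
  have hXI : ∀ h ∈ N, ∀ c : G ⧸ P, h • c ∈ X ↔ c ∈ X := fun h hh c => by
    conv_lhs => rw [← QuotientGroup.out_eq' c, MulAction.Quotient.smul_coe, smul_eq_mul, hmem,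
      Subgroup.mul_mem_cancel_left _ hh]
    simp [hX]
  set S := ∑ c ∈ X, F c with hS
  have hSI : ∀ h ∈ I, cj γ h S = S := fun h hh => by
    rw [hS, cj_sum]
    refine Finset.sum_equiv (MulAction.toPerm h) (fun c => ?_) fun c _ => hFsmul h c
    exact (hXI h (hIN hh) c).symm
  have hsum : ∑ c ∈ X, f * F c * f = f * S * f := by
    rw [hS, Finset.mul_sum, Finset.sum_mul]
  rw [hsum]
  haveI : Fintype P := Fintype.ofFinite P
  -- free action of `P`
  let Xt := {c : G ⧸ P // c ∈ X}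
  letI : MulAction P Xt :=
    { smul := fun d c => ⟨(d : G) • c.1, (hXI _ (hIN (hPI d.2)) c.1).2 c.2⟩
      one_smul := fun c => Subtype.ext (one_smul G c.1)
      mul_smul := fun a b c => Subtype.ext (mul_smul (a : G) (b : G) c.1) }
  have hfree : ∀ (d : P) (c : Xt), d • c = c → d = 1 := fun d c h => by
    have h' : (d : G) • c.1 = c.1 := congrArg Subtype.val h
    rw [← QuotientGroup.out_eq' c.1, MulAction.Quotient.smul_coe, smul_eq_mul] at h'
    have h2 := inv_mem (QuotientGroup.eq.1 h')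
    rw [show ((d : G) * c.1.out)⁻¹ * c.1.out = (c.1.out⁻¹ * (d : G) * c.1.out)⁻¹ by group,
      inv_inv] at h2
    exact Subtype.ext (hdisj _ (Finset.mem_filter.1 c.2).2 _ d.2 h2)
  let Ω := MulAction.orbitRel.Quotient P Xt
  haveI : Fintype Ω := Fintype.ofFinite Ω
  set ξ := ∑ ω : Ω, F (Quotient.out ω : Xt).1 with hξ
  have hSξ : S = ∑ d : P, cj γ (d : G) ξ := by
    simp only [hξ, cj_sum, hFsmul]
    rw [hS, ← Finset.sum_coe_sort X, ← Fintype.sum_prod_type']
    refine (Fintype.sum_bijective (fun y : P × Ω => y.1 • (Quotient.out y.2 : Xt)) ⟨?_, ?_⟩ _ _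
      fun _ => rfl).symm
    · rintro ⟨d, ω⟩ ⟨d', ω'⟩ h
      have h1 : ω = ω' := by
        rw [← ω.out_eq, ← ω'.out_eq]
        refine Quotient.sound ⟨d⁻¹ * d', ?_⟩
        show (d⁻¹ * d') • (Quotient.out ω' : Xt) = Quotient.out ω
        have h' : d • (Quotient.out ω : Xt) = d' • (Quotient.out ω' : Xt) := h
        rw [mul_smul, ← h', inv_smul_smul]
      subst h1
      refine Prod.ext ?_ rfl
      have h' : d • (Quotient.out ω : Xt) = d' • (Quotient.out ω : Xt) := h
      have := hfree (d'⁻¹ * d) (Quotient.out ω) (by rw [mul_smul]; exact inv_smul_eq_iff.2 h')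
      exact (inv_mul_eq_one.1 this).symm
    · intro c
      obtain ⟨d, hd⟩ := Quotient.exact (Quotient.out_eq (Quotient.mk'' c : Ω))
      refine ⟨(d⁻¹, Quotient.mk'' c), ?_⟩
      show d⁻¹ • (Quotient.out (Quotient.mk'' c : Ω) : Xt) = c
      rw [← hd, inv_smul_smul]
  -- `f` is a trace from `P`
  refine ⟨x * ξ * f, ?_⟩
  haveI : Fintype (P.subgroupOf I) := Fintype.ofFinite _
  rw [← sum_quotient_sum γ (P.subgroupOf I) (x * ξ * f)]
  have h2 : ∀ w : P.subgroupOf I, cj γ (((w : I) : G)) (x * ξ * f) = x * cj γ ((w : I) : G) ξ * f := by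
    intro w
    rw [cj_mul_right, cj_mul_right, hx _ (Subgroup.mem_subgroupOf.1 w.2), hfI _ (w : I).2]
  have h3 : ∑ w : P.subgroupOf I, cj γ ((w : I) : G) ξ = S := by
    rw [hSξ]
    exact Fintype.sum_equiv (Subgroup.subgroupOfEquivOfLe hPI).toEquiv _ _ fun w => rfl
  rw [Finset.sum_congr rfl fun c _ => by
    rw [Finset.sum_congr rfl fun w _ => h2 w, ← Finset.sum_mul, ← Finset.mul_sum, h3, cj_mul_right,
      cj_mul_right, hSI _ (c.out : I).2, hfI _ (c.out : I).2]]
  rw [← Finset.sum_mul, ← Finset.sum_mul, htr]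

end Cfsg.Agent.Lib.CyclicDefect
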