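import Mathlib
import Cfsg.Agent.Lib.CyclicDefect.RelTrace

/-!
# Maps from a representation of a group to one of a subgroup, modulo traces
-/

set_option autoImplicit false

namespace Cfsg.Agent.Lib.CyclicDefect

universe u v w x

variable {k : Type v} [Field k] {G : Type u} [Group G] {U : Type w} [AddCommGroup U] [Module k U]
  {V : Type x} [AddCommGroup V] [Module k V] {I : Subgroup G}

/-- A map commuting with the subgroup. -/
def IsEquivariant (I : Subgroup G) (ρ : G →* Module.End k U) (T : I →* Module.End k V)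
    (π : U →ₗ[k] V) : Prop :=
  ∀ h : I, π ∘ₗ ρ (h : G) = T h ∘ₗ π

/-- A map which is a trace from the trivial subgroup. -/
def IsNullMap (I : Subgroup G) [Fintype I] (ρ : G →* Module.End k U) (T : I →* Module.End k V)
    (π : U →ₗ[k] V) : Prop :=
  ∃ ψ : U →ₗ[k] V, π = ∑ h : I, T h ∘ₗ ψ ∘ₗ ρ (h : G)⁻¹

variable [Fintype I] {ρ : G →* Module.End k U} {T : I →* Module.End k V} {π π' : U →ₗ[k] V}

theorem IsNullMap.zero : IsNullMap I ρ T (0 : U →ₗ[k] V) := ⟨0, by simp⟩

theorem IsNullMap.add (h : IsNullMap I ρ T π) (h' : IsNullMap I ρ T π') :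
    IsNullMap I ρ T (π + π') := by
  obtain ⟨a, rfl⟩ := h
  obtain ⟨b, rfl⟩ := h'
  exact ⟨a + b, by simp only [LinearMap.add_comp, LinearMap.comp_add, Finset.sum_add_distrib]⟩

/-- An equivariant map after a trace is a trace. -/
theorem IsNullMap.of_comp (hπ : IsEquivariant I ρ T π) {r : Module.End k U} (hr : IsNull ρ I r) :
    IsNullMap I ρ T (π ∘ₗ r) := by
  obtain ⟨ψ, rfl⟩ := hr
  refine ⟨π ∘ₗ ψ, LinearMap.ext fun w => ?_⟩
  simp only [LinearMap.comp_apply, LinearMap.sum_apply, map_sum]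
  refine Finset.sum_congr rfl fun h _ => ?_
  exact LinearMap.congr_fun (hπ h) _

theorem IsNull.smul {r : Module.End k U} (hr : IsNull ρ I r) (a : k) : IsNull ρ I (a • r) := by
  obtain ⟨ψ, rfl⟩ := hr
  refine ⟨a • ψ, ?_⟩
  rw [Finset.smul_sum]
  exact Finset.sum_congr rfl fun h _ => by simp [cj]

end Cfsg.Agent.Lib.CyclicDefect
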