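import Mathlib
import Cfsg.Agent.Lib.CyclicDefect.Maps
import Cfsg.Agent.Lib.Blocks.NilKernel

/-!
# A simple module of a direct factor above a representation of a subgroup

A representation of a subgroup `I` which is fixed by the restriction of the idempotent of a factor
and is not a trace from the trivial subgroup receives a map, which is not a trace, from a simple
module of the factor.
-/

set_option autoImplicit false

namespace Cfsg.Agent.Lib.CyclicDefect

open MonoidAlgebra

universe u v w x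

/-- An invariant function on a permutation of order `p` without fixed points sums to zero. -/
theorem sum_perm_eq_zero {k : Type v} [Field k] {p : ℕ} [Fact p.Prime] [CharP k p] {V : Type x}
    [AddCommGroup V] [Module k V] {α : Type w} [Fintype α] (σ : Equiv.Perm α) (hσ : σ ^ p = 1)
    (hfix : ∀ x, σ x ≠ x) (f : α → V) (hf : ∀ x, f (σ x) = f x) : ∑ x, f x = 0 := by
  classical
  refine (Module.forall_dual_apply_eq_zero_iff k _).1 fun lam => ?_
  rw [map_sum]
  have hP : IsPGroup p (Subgroup.zpowers σ) := by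
    rintro ⟨a, i, rfl⟩
    refine ⟨1, Subtype.ext ?_⟩
    show (σ ^ i) ^ (p ^ 1) = 1
    rw [pow_one, ← zpow_natCast, ← zpow_mul, mul_comm, zpow_mul, zpow_natCast, hσ, one_zpow]
  have hinv : ∀ (a : Subgroup.zpowers σ) (x : α), lam (f (a • x)) = lam (f x) := by
    rintro ⟨a, ha⟩ x
    obtain ⟨i, rfl⟩ := mem_powers_iff_mem_zpowers.2 ha
    show lam (f ((σ ^ i) x)) = _
    congr 1
    induction i with
    | zero => rfl
    | succ i ih => rw [pow_succ', Equiv.Perm.mul_apply, hf, ih ⟨i, zpow_natCast σ i⟩]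
  rw [Blocks.sum_eq_sum_fixedPoints (CharP.cast_eq_zero k p) hP (fun x => lam (f x)) hinv]
  refine Finset.sum_eq_zero fun x hx => absurd ?_ (hfix x)
  exact (Finset.mem_filter.1 hx).2 (⟨σ, Subgroup.mem_zpowers σ⟩ : Subgroup.zpowers σ)

/-- An algebra map killing the kernel of a surjection factors through it. -/
theorem exists_factor {k : Type v} [Field k] {A : Type w} [Ring A] [Algebra k A] {B : Type x}
    [Ring B] [Algebra k B] {D : Type*} [Ring D] [Algebra k D] (q : A →ₐ[k] B)
    (hq : Function.Surjective q) (L : A →ₐ[k] D) (h : ∀ a, q a = 0 → L a = 0) :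
    ∃ L' : B →ₐ[k] D, ∀ a, L' (q a) = L a := by
  refine ⟨(Ideal.Quotient.liftₐ (RingHom.ker q) L h).comp
    (Ideal.quotientKerAlgEquivOfSurjective hq).symm.toAlgHom, fun a => ?_⟩
  have : (Ideal.quotientKerAlgEquivOfSurjective hq).symm (q a) = Ideal.Quotient.mk _ a := by
    rw [AlgEquiv.symm_apply_eq]
    rfl
  rw [AlgHom.comp_apply]
  exact (congrArg _ this).trans (Ideal.Quotient.liftₐ_apply _ L h (Ideal.Quotient.mk _ a))

variable {k : Type v} [Field k] {G : Type u} [Group G] [Fintype G] {V : Type x} [AddCommGroup V]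
  [Module k V]

/-- Right translation of functions. -/
def shiftRep (k : Type v) [Field k] (G : Type u) [Group G] (V : Type x) [AddCommGroup V]
    [Module k V] : G →* Module.End k (G → V) where
  toFun g := LinearMap.funLeft k V (· * g)
  map_one' := LinearMap.ext fun u => funext fun y => by simp [LinearMap.funLeft]
  map_mul' a b := LinearMap.ext fun u => funext fun y => by
    show u (y * (a * b)) = u (y * a * b)
    rw [mul_assoc]

@[simp] theorem shiftRep_apply (g : G) (u : G → V) (y : G) : shiftRep k G V g u y = u (y * g) := rfl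

theorem lift_shiftRep_apply (r : MonoidAlgebra k G) (u : G → V) (y : G) :
    MonoidAlgebra.lift k _ G (shiftRep k G V) r u y = ∑ g : G, r.coeff g • u (y * g) := by
  induction r using MonoidAlgebra.induction_linear with
  | zero => simp
  | add a b ha hb =>
    simp only [map_add, LinearMap.add_apply, Pi.add_apply, ha, hb, coeff_add, Finsupp.add_apply,
      add_smul, Finset.sum_add_distrib]
  | single g a =>
    rw [MonoidAlgebra.lift_single, LinearMap.smul_apply, Pi.smul_apply, shiftRep_apply,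
      Finset.sum_eq_single g]
    · simp
    · intro b _ hb
      simp [Finsupp.single_apply, Ne.symm hb]
    · exact fun h => absurd (Finset.mem_univ _) h

set_option maxHeartbeats 1600000 in
/-- Some simple module of the factor maps to `V` by a map which is not a trace. -/
theorem exists_simple [FiniteDimensional k V] [Nontrivial V] {p : ℕ} [Fact p.Prime] [CharP k p]
    (C I : Subgroup G) [Fintype C] [Fintype I] (hCI : C ≤ I) (T : I →* Module.End k V)
    {z : G} (hzC : z ∈ C) (hzp : orderOf z = p) (hTz : T ⟨z, hCI hzC⟩ = 1)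
    (hfree : ∀ h ∈ I, h * z = z * h → h ∈ C)
    {E : MonoidAlgebra k G} (hEc : ∀ r, E * r = r * E) (hEE : E * E = E)
    {f : MonoidAlgebra k C}
    (hTf : MonoidAlgebra.lift k _ C (T.comp (Subgroup.inclusion hCI)) f = 1)
    (hfE : f * (∑ c : C, single c (E.coeff (c : G))) = f)
    {A : Type w} [Ring A] [Algebra k A] (q : MonoidAlgebra k G →ₐ[k] A)
    (hq : Function.Surjective q) (hqE : ∀ r, q r = 0 → E * r = 0)
    {m : ℕ} {d : Fin m → ℕ} (P : A →ₐ[k] ∀ a, Matrix (Fin (d a)) (Fin (d a)) k)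
    (hP : Function.Surjective P) (hJ : ∃ N : ℕ, RingHom.ker P ^ N = ⊥) :
    ∃ (a : Fin m) (π : (Fin (d a) → k) →ₗ[k] V),
      IsEquivariant I ((Matrix.toLinAlgEquiv'.toAlgHom.comp
        ((Pi.evalAlgHom k (fun a => Matrix (Fin (d a)) (Fin (d a)) k) a).comp
          (P.comp q))).toMonoidHom.comp (MonoidAlgebra.of k G)) T π ∧
      ¬ IsNullMap I ((Matrix.toLinAlgEquiv'.toAlgHom.comp
        ((Pi.evalAlgHom k (fun a => Matrix (Fin (d a)) (Fin (d a)) k) a).comp
          (P.comp q))).toMonoidHom.comp (MonoidAlgebra.of k G)) T π := by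
  classical
  set ρ := shiftRep k G V with hρ
  set L := MonoidAlgebra.lift k (Module.End k (G → V)) G ρ with hL
  let π0 : (G → V) →ₗ[k] V := LinearMap.proj 1
  -- the induced module cut by the factor
  let U0 : Submodule k (G → V) :=
    { carrier := {u | ∀ (h : I) (g : G), u ((h : G) * g) = T h (u g)}
      add_mem' := fun {a b} ha hb h g => by simp [ha h g, hb h g]
      zero_mem' := fun h g => by simp
      smul_mem' := fun c a ha h g => by simp [ha h g] }
  have hU0 : ∀ (g : G) u, u ∈ U0 → ρ g u ∈ U0 := fun g u hu h y => by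
    show u ((h : G) * y * g) = T h (u (y * g))
    rw [mul_assoc, hu]
  let S0 : Submodule k (G → V) := U0 ⊓ LinearMap.range (L E)
  have hEu : ∀ u ∈ S0, L E u = u := by
    rintro u ⟨-, v, rfl⟩
    rw [← Module.End.mul_apply, ← map_mul, hEE]
  have hρE : ∀ g, ρ g * L E = L E * ρ g := fun g => by
    have := congrArg L (hEc (single g 1))
    rw [map_mul, map_mul, show L (single g 1) = ρ g by simp [hL]] at this
    exact this.symm
  have hS0 : ∀ (g : G), ∀ u ∈ S0, ρ g u ∈ S0 := fun g u hu => ⟨hU0 g u hu.1, ρ g u, by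
    rw [← Module.End.mul_apply, ← hρE, Module.End.mul_apply, hEu u hu]⟩
  have hπ0 : ∀ u ∈ U0, ∀ h : I, π0 (ρ (h : G) u) = T h (π0 u) := fun u hu h => by
    show u (1 * (h : G)) = T h (u 1)
    rw [one_mul, ← hu h 1, mul_one]
  -- the section
  let uv : V →ₗ[k] (G → V) := LinearMap.pi fun g => if h : g ∈ I then T ⟨g, h⟩ else 0
  have huv : ∀ v, uv v ∈ U0 := fun v h g => by
    show (if h' : (h : G) * g ∈ I then T ⟨_, h'⟩ else 0) v =
      T h ((if h' : g ∈ I then T ⟨g, h'⟩ else 0) v)
    by_cases hg : g ∈ I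
    · rw [dif_pos hg, dif_pos (mul_mem h.2 hg), ← Module.End.mul_apply, ← map_mul]
      rfl
    · rw [dif_neg hg, dif_neg fun h' => hg ((Subgroup.mul_mem_cancel_left I h.2).1 h')]
      simp
  let s : V →ₗ[k] (G → V) := L E ∘ₗ uv
  have hLU : ∀ r, ∀ u ∈ U0, L r u ∈ U0 := fun r u hu => by
    induction r using MonoidAlgebra.induction_linear with
    | zero => simp
    | add a b ha hb => rw [map_add]; exact U0.add_mem ha hb
    | single g a => rw [hL, MonoidAlgebra.lift_single]; exact U0.smul_mem a (hU0 g u hu)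
  have hsS : ∀ v, s v ∈ S0 := fun v => ⟨hLU E _ (huv v), uv v, rfl⟩
  have hsT : ∀ (h : I) v, ρ (h : G) (s v) = s (T h v) := fun h v => by
    show ρ (h : G) (L E (uv v)) = L E (uv (T h v))
    rw [← Module.End.mul_apply, hρE, Module.End.mul_apply]
    refine congrArg _ (funext fun g => ?_)
    show (if h' : g * (h : G) ∈ I then T ⟨_, h'⟩ else 0) v =
      (if h' : g ∈ I then T ⟨g, h'⟩ else 0) (T h v)
    by_cases hg : g ∈ I
    · rw [dif_pos hg, dif_pos (mul_mem hg h.2), ← Module.End.mul_apply, ← map_mul]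
      rfl
    · rw [dif_neg hg, dif_neg fun h' => hg ((Subgroup.mul_mem_cancel_right I h.2).1 h')]
      simp
  have hTzi : T (⟨z, hCI hzC⟩ : I)⁻¹ = 1 := by
    have h1 := congrArg T (inv_mul_cancel (⟨z, hCI hzC⟩ : I))
    rwa [map_mul, hTz, mul_one, map_one] at h1
  have hzpow : ∀ i : I, T (i * ⟨z, hCI hzC⟩) = T i := fun i => by rw [map_mul, hTz, mul_one]
  have hπs : ∀ v, π0 (s v) = v := by
    intro v
    show L E (uv v) 1 = v
    rw [hL, lift_shiftRep_apply]
    simp only [one_mul]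
    have hsub : ∑ g : G, E.coeff g • uv v g = ∑ i : I, E.coeff (i : G) • T i v := by
      rw [← Finset.sum_subset (Finset.subset_univ (Finset.univ.filter (· ∈ I)))
        (fun g _ hg => by
          have hg' : g ∉ I := fun h => hg (Finset.mem_filter.2 ⟨Finset.mem_univ _, h⟩)
          simp [uv, hg'])]
      rw [Finset.sum_subtype (p := fun g => g ∈ I) (Finset.univ.filter (· ∈ I)) (fun g => by simp)]
      exact Finset.sum_congr rfl fun i _ => by simp [uv]
    rw [hsub, ← Finset.sum_filter_add_sum_filter_not Finset.univ (fun i : I => (i : G) ∈ C)]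
    have hout : ∑ i ∈ Finset.univ.filter (fun i : I => ¬ (i : G) ∈ C),
        E.coeff (i : G) • T i v = 0 := by
      rw [Finset.sum_subtype (p := fun i : I => ¬ (i : G) ∈ C) _ (fun i => by simp)]
      have hzzI : (⟨z, hCI hzC⟩ : I) ^ p = 1 := Subtype.ext (by simp [← hzp, pow_orderOf_eq_one])
      let σ : Equiv.Perm {i : I // ¬ (i : G) ∈ C} :=
        Equiv.Perm.subtypePerm (MulAut.conj (⟨z, hCI hzC⟩ : I)).toEquiv fun i => not_congr (by
          show z * (i : G) * z⁻¹ ∈ C ↔ (i : G) ∈ C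
          rw [Subgroup.mul_mem_cancel_right C (inv_mem hzC), Subgroup.mul_mem_cancel_left C hzC])
      refine sum_perm_eq_zero (k := k) (p := p) σ ?_ (fun i hi => ?_) _ fun i => ?_
      · refine Equiv.ext fun i => Subtype.ext ?_
        have hpow : ∀ n : ℕ, (((σ ^ n) i : {i : I // ¬ (i : G) ∈ C}) : I) =
            (⟨z, hCI hzC⟩ : I) ^ n * i * ((⟨z, hCI hzC⟩ : I) ^ n)⁻¹ := fun n => by
          induction n with
          | zero => simp
          | succ n ih =>
            rw [pow_succ', Equiv.Perm.mul_apply]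
            show (⟨z, hCI hzC⟩ : I) * (((σ ^ n) i : {i : I // ¬ (i : G) ∈ C}) : I) *
              (⟨z, hCI hzC⟩ : I)⁻¹ = _
            rw [ih, pow_succ']
            group
        rw [hpow, hzzI]
        simp
      · have h1 : z * (i.1 : G) * z⁻¹ = (i.1 : G) :=
          congrArg (fun t : {i : I // ¬ (i : G) ∈ C} => ((t : I) : G)) hi
        exact i.2 (hfree _ i.1.2 (mul_inv_eq_iff_eq_mul.1 h1).symm)
      · show E.coeff (z * (i.1 : G) * z⁻¹) • T ((⟨z, hCI hzC⟩ : I) * i.1 * (⟨z, hCI hzC⟩ : I)⁻¹) v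
          = _
        have h1 : E.coeff (z * (i.1 : G) * z⁻¹) = E.coeff (i.1 : G) := by
          have h2 := congrArg (fun r : MonoidAlgebra k G => r.coeff (z * (i.1 : G))) (hEc (single z 1))
          simp [coeff_single_mul_apply, coeff_mul_single_apply] at h2
          exact h2
        rw [h1, map_mul, map_mul, hTz, one_mul, hTzi, mul_one]
    rw [hout, add_zero]
    have hc : ∑ i ∈ Finset.univ.filter (fun i : I => (i : G) ∈ C), E.coeff (i : G) • T i v =
        MonoidAlgebra.lift k _ C (T.comp (Subgroup.inclusion hCI))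
          (∑ c : C, single c (E.coeff (c : G))) v := by
      rw [map_sum, LinearMap.sum_apply]
      refine Finset.sum_nbij' (fun i => if h : (i : G) ∈ C then (⟨i, h⟩ : C) else 1)
        (fun c => ⟨c, hCI c.2⟩) ?_ ?_ ?_ ?_ ?_
      · intro i _
        exact Finset.mem_univ _
      · intro c _
        exact Finset.mem_filter.2 ⟨Finset.mem_univ _, c.2⟩
      · intro i hi
        refine Subtype.ext ?_
        simp [(Finset.mem_filter.1 hi).2]
      · intro c _
        simp
      · intro i hi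
        rw [dif_pos (Finset.mem_filter.1 hi).2]
        simp
        rfl
    rw [hc]
    conv_lhs => rw [← one_mul (MonoidAlgebra.lift k _ C _ (∑ c : C, _)), ← hTf, ← map_mul, hfE, hTf]
    rfl
  -- nonnull submodules
  let NullOn : Submodule k (G → V) → Prop := fun S => ∃ ψ : (G → V) →ₗ[k] V, ∀ u ∈ S,
    π0 u = ∑ h : I, T h (ψ (ρ (h : G)⁻¹ u))
  let Inv : Submodule k (G → V) → Prop := fun S => ∀ g : G, ∀ u ∈ S, ρ g u ∈ S
  have hS0n : ¬ NullOn S0 := by
    rintro ⟨ψ, hψ⟩
    obtain ⟨v, hv⟩ := exists_ne (0 : V)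
    refine hv ?_
    rw [← hπs v, hψ _ (hsS v)]
    simp only [← InvMemClass.coe_inv, hsT]
    have hzp' : (⟨z, hCI hzC⟩ : I) ^ p = 1 := Subtype.ext (by simp [← hzp, pow_orderOf_eq_one])
    refine sum_perm_eq_zero (k := k) (p := p) (Equiv.mulRight (⟨z, hCI hzC⟩ : I)) ?_
      (fun i hi => ?_) _ fun i => ?_
    · refine Equiv.ext fun i => ?_
      have hpow : ∀ n : ℕ, ((Equiv.mulRight (⟨z, hCI hzC⟩ : I)) ^ n) i =
          i * (⟨z, hCI hzC⟩ : I) ^ n := fun n => by
        induction n with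
        | zero => simp
        | succ n ih => rw [pow_succ', Equiv.Perm.mul_apply, ih, pow_succ]; simp [mul_assoc]
      rw [hpow, hzp', mul_one]
      rfl
    · have h1 : z = 1 := congrArg Subtype.val
        (mul_left_cancel (hi.trans (mul_one i).symm) : (⟨z, hCI hzC⟩ : I) = 1)
      rw [h1, orderOf_one] at hzp
      exact (Fact.out : p.Prime).ne_one hzp.symm
    · show T (i * ⟨z, hCI hzC⟩) (ψ (s (T (i * ⟨z, hCI hzC⟩)⁻¹ v))) = _
      rw [hzpow, show T (i * ⟨z, hCI hzC⟩)⁻¹ = T i⁻¹ by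
        rw [mul_inv_rev, map_mul, hTzi, one_mul]]
  have hexS : ∃ n, ∃ S, S ≤ S0 ∧ Inv S ∧ ¬ NullOn S ∧ Module.finrank k S = n :=
    ⟨_, S0, le_rfl, hS0, hS0n, rfl⟩
  obtain ⟨S, hSS0, hSinv, hSn, hSrank⟩ := Nat.find_spec hexS
  have hSne : S ≠ ⊥ := fun h => hSn ⟨0, fun u hu => by
    rw [h, Submodule.mem_bot] at hu
    simp [hu]⟩
  set nS := Module.finrank k S with hnS
  let prop' : ℕ → Prop := fun n => ∃ S', S' < S ∧ Inv S' ∧ Module.finrank k S' = n
  obtain ⟨S', hS'lt, hS'inv, hS'max⟩ : ∃ S', S' < S ∧ Inv S' ∧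
      ∀ S'', S'' < S → Inv S'' → Module.finrank k S'' ≤ Module.finrank k S' := by
    have h0 : prop' 0 := ⟨⊥, bot_lt_iff_ne_bot.2 hSne,
      fun g u hu => by rw [Submodule.mem_bot] at hu ⊢; rw [hu, map_zero], finrank_bot k _⟩
    obtain ⟨S', h1, h2, h3⟩ := Nat.findGreatest_spec (P := prop') (Nat.zero_le nS) h0
    exact ⟨S', h1, h2, fun S'' h4 h5 => h3 ▸ Nat.le_findGreatest
      (Submodule.finrank_mono h4.le) ⟨S'', h4, h5, rfl⟩⟩
  obtain ⟨ψ, hψ⟩ : NullOn S' := by
    by_contra hn
    have h1 := Nat.find_min' hexS ⟨S', hS'lt.le.trans hSS0, hS'inv, hn, rfl⟩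
    have h2 := Submodule.finrank_lt_finrank_of_lt hS'lt
    omega
  let π1 : (G → V) →ₗ[k] V := π0 - ∑ h : I, T h ∘ₗ ψ ∘ₗ ρ (h : G)⁻¹
  have hπ1 : ∀ u, π1 u = π0 u - ∑ h : I, T h (ψ (ρ (h : G)⁻¹ u)) := fun u => by
    simp [π1, LinearMap.sum_apply]
  have hπ1e : ∀ u ∈ S, ∀ h : I, π1 (ρ (h : G) u) = T h (π1 u) := fun u hu h => by
    rw [hπ1, hπ1, map_sub, hπ0 u (hSS0 hu).1, map_sum]
    congr 1
    refine Fintype.sum_equiv (Equiv.mulLeft h⁻¹) _ _ fun i => ?_
    show T i (ψ (ρ (i : G)⁻¹ (ρ (h : G) u))) = T h (T (h⁻¹ * i) (ψ (ρ ((h⁻¹ * i : I) : G)⁻¹ u)))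
    rw [← Module.End.mul_apply (T h), ← map_mul, mul_inv_cancel_left, ← Module.End.mul_apply,
      ← map_mul]
    congr 4
    simp
  -- the simple quotient
  set K0 := S'.comap S.subtype with hK0
  let ρS : G →* Module.End k S :=
    { toFun := fun g => (ρ g).restrict (hSinv g)
      map_one' := LinearMap.ext fun u => Subtype.ext (by simp)
      map_mul' := fun a b => LinearMap.ext fun u => Subtype.ext (by simp [map_mul]) }
  let ρQ : G →* Module.End k (S ⧸ K0) :=
    { toFun := fun g => K0.mapQ K0 (ρS g) fun u hu => hS'inv g _ hu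
      map_one' := LinearMap.ext fun u => by
        obtain ⟨u, rfl⟩ := Submodule.Quotient.mk_surjective _ u
        simp
      map_mul' := fun a b => LinearMap.ext fun u => by
        obtain ⟨u, rfl⟩ := Submodule.Quotient.mk_surjective _ u
        simp [map_mul]
        rfl }
  have hirr : ∀ K : Submodule k (S ⧸ K0), (∀ g, ∀ u ∈ K, ρQ g u ∈ K) → K ≠ ⊥ → K = ⊤ := by
    intro K hK hKne
    set S'' := (K.comap K0.mkQ).map S.subtype with hS''
    by_contra hKtop
    have hlt : S'' < S := by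
      refine lt_of_le_of_ne (Submodule.map_subtype_le _ _) fun heq => hKtop (eq_top_iff.2 ?_)
      rintro u -
      obtain ⟨u, rfl⟩ := Submodule.Quotient.mk_surjective _ u
      have : (u : G → V) ∈ S'' := by rw [heq]; exact u.2
      obtain ⟨w, hw, hwu⟩ := Submodule.mem_map.1 this
      rw [← (Subtype.ext hwu : w = u)]
      exact hw
    have hinv : Inv S'' := by
      rintro g _ ⟨u, hu, rfl⟩
      exact ⟨ρS g u, hK g _ hu, rfl⟩
    have hle : S' ≤ S'' := fun u hu => ⟨⟨u, hS'lt.le hu⟩, by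
      show Submodule.Quotient.mk _ ∈ K
      rw [(Submodule.Quotient.mk_eq_zero K0).2 hu]
      exact K.zero_mem, rfl⟩
    have heq := Submodule.eq_of_le_of_finrank_le hle (hS'max S'' hlt hinv)
    refine hKne (eq_bot_iff.2 fun u hu => ?_)
    obtain ⟨u, rfl⟩ := Submodule.Quotient.mk_surjective _ u
    have : (u : G → V) ∈ S'' := ⟨u, hu, rfl⟩
    rw [← heq] at this
    exact (Submodule.Quotient.mk_eq_zero K0).2 this
  haveI : Nontrivial (S ⧸ K0) := by
    obtain ⟨u, hu, hu'⟩ := SetLike.exists_of_lt hS'lt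
    exact ⟨Submodule.Quotient.mk ⟨u, hu⟩, 0, fun h =>
      hu' ((Submodule.Quotient.mk_eq_zero K0).1 h)⟩
  set LQ := MonoidAlgebra.lift k (Module.End k (S ⧸ K0)) G ρQ with hLQ
  have hLQmk : ∀ r (u : S), ∃ h : L r u ∈ S, LQ r (Submodule.Quotient.mk u) =
      Submodule.Quotient.mk ⟨L r u, h⟩ := fun r u => by
    induction r using MonoidAlgebra.induction_linear with
    | zero => exact ⟨by simp, by simp; rfl⟩
    | add a b ha hb =>
      obtain ⟨ha1, ha2⟩ := ha
      obtain ⟨hb1, hb2⟩ := hb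
      refine ⟨by rw [map_add]; exact S.add_mem ha1 hb1, ?_⟩
      rw [map_add, LinearMap.add_apply, ha2, hb2, ← Submodule.Quotient.mk_add]
      exact congrArg _ (Subtype.ext (by simp))
    | single g a =>
      refine ⟨by simp [hL]; exact S.smul_mem a (hSinv g u u.2), ?_⟩
      simp only [hLQ, MonoidAlgebra.lift_single, LinearMap.smul_apply]
      show a • Submodule.Quotient.mk (ρS g u) = _
      rw [← Submodule.Quotient.mk_smul]
      exact congrArg _ (Subtype.ext (by simp [hL]; rfl))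
  have hQE : LQ E = 1 := LinearMap.ext fun u => by
    obtain ⟨u, rfl⟩ := Submodule.Quotient.mk_surjective _ u
    obtain ⟨h, h'⟩ := hLQmk E u
    rw [h']
    exact congrArg _ (Subtype.ext (hEu _ (hSS0 u.2)))
  obtain ⟨LA, hLA⟩ := exists_factor q hq LQ fun r hr => by
    rw [← one_mul (LQ r), ← hQE, ← map_mul, hqE r hr, map_zero]
  have hρLA : ∀ g, ρQ g = LA (q (single g 1)) := fun g => by
    rw [hLA, hLQ]
    simp
  have hsurjA : ∀ (K : Submodule k (S ⧸ K0)), (∀ b : A, ∀ u ∈ K, LA b u ∈ K) → K ≠ ⊥ → K = ⊤ :=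
    fun K hK hKne => hirr K (fun g u hu => hρLA g ▸ hK _ u hu) hKne
  obtain ⟨L', hL'⟩ := exists_factor P hP LA fun b hb => by
    obtain ⟨N, hN⟩ := hJ
    let K : Submodule k (S ⧸ K0) :=
      { carrier := {w | ∀ j ∈ RingHom.ker P, LA j w = 0}
        add_mem' := fun {a b} ha hb j hj => by rw [map_add, ha j hj, hb j hj, add_zero]
        zero_mem' := fun j hj => map_zero _
        smul_mem' := fun c a ha j hj => by rw [map_smul, ha j hj, smul_zero] }
    have hKinv : ∀ b : A, ∀ u ∈ K, LA b u ∈ K := fun b u hu j hj => by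
      rw [← Module.End.mul_apply, ← map_mul]
      exact hu _ (Ideal.mul_mem_right _ _ hj)
    have hex : ∃ i, ∀ j ∈ RingHom.ker P ^ i, LA j = 0 := ⟨N, fun j hj => by
      rw [hN, Submodule.mem_bot] at hj
      rw [hj, map_zero]⟩
    have hKne : K ≠ ⊥ := by
      set i := Nat.find hex with hi
      have hi0 : i ≠ 0 := fun h => by
        have := Nat.find_spec hex 1 (by rw [← hi, h, Submodule.pow_zero, Ideal.one_eq_top]; exact Submodule.mem_top)
        rw [map_one] at this
        exact one_ne_zero this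
      obtain ⟨i', hi'⟩ : ∃ i', i = i' + 1 := ⟨i - 1, by omega⟩
      have hmin := Nat.find_min hex (m := i') (by omega)
      push Not at hmin
      obtain ⟨j, hj, hjne⟩ := hmin
      obtain ⟨w, hw⟩ : ∃ w, LA j w ≠ 0 := by
        by_contra hcon
        push Not at hcon
        exact hjne (LinearMap.ext fun w => by simp [hcon w])
      refine fun hbot => hw ?_
      have hmem : LA j w ∈ K := fun j' hj' => by
        rw [← Module.End.mul_apply, ← map_mul, Nat.find_spec hex (j' * j) ?_, LinearMap.zero_apply]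
        rw [← hi, hi', Ideal.IsTwoSided.pow_succ]
        exact Ideal.mul_mem_mul hj' hj
      rw [hbot, Submodule.mem_bot] at hmem
      exact hmem
    exact LinearMap.ext fun u => (hsurjA K hKinv hKne ▸ Submodule.mem_top : u ∈ K) b hb
  -- a column
  obtain ⟨a, hda, u0, hu0, hE0⟩ : ∃ (a : Fin m) (hda : 0 < d a) (u0 : S ⧸ K0), u0 ≠ 0 ∧
      L' (Pi.single a (Matrix.single (⟨0, hda⟩ : Fin (d a)) ⟨0, hda⟩ 1)) u0 = u0 := by
    obtain ⟨w, hw⟩ := exists_ne (0 : S ⧸ K0)
    have h1 : (1 : ∀ a, Matrix (Fin (d a)) (Fin (d a)) k) =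
        ∑ a, ∑ s : Fin (d a), Pi.single a (Matrix.single s s 1) := by
      funext a
      rw [Finset.sum_apply, Finset.sum_eq_single a (fun b _ hb => by simp [Finset.sum_apply,
        Pi.single_eq_of_ne (Ne.symm hb)]) (fun h => absurd (Finset.mem_univ _) h)]
      simp only [Finset.sum_apply, Pi.single_eq_same, Pi.one_apply]
      rw [Matrix.sum_single_eq_diagonal]
      rfl
    have h2 : L' 1 w = w := by simp
    rw [h1, map_sum, LinearMap.sum_apply] at h2
    obtain ⟨a, -, ha⟩ := Finset.exists_ne_zero_of_sum_ne_zero (h2.trans_ne hw)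
    rw [map_sum, LinearMap.sum_apply] at ha
    obtain ⟨s, -, hs⟩ := Finset.exists_ne_zero_of_sum_ne_zero ha
    have hda : 0 < d a := s.pos
    set o : Fin (d a) := ⟨0, hda⟩
    refine ⟨a, hda, L' (Pi.single a (Matrix.single o s 1)) w, fun h => hs ?_, ?_⟩
    · have : (Pi.single a (Matrix.single s s 1) : ∀ a, Matrix (Fin (d a)) (Fin (d a)) k) =
          Pi.single a (Matrix.single s o 1) * Pi.single a (Matrix.single o s 1) := by
        rw [← Pi.single_mul, Matrix.single_mul_single_same, one_mul]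
      rw [this, map_mul, Module.End.mul_apply, h, map_zero]
    · rw [← Module.End.mul_apply, ← map_mul, ← Pi.single_mul, Matrix.single_mul_single_same, one_mul]
  set o : Fin (d a) := ⟨0, hda⟩
  let col : (Fin (d a) → k) →ₗ[k] Matrix (Fin (d a)) (Fin (d a)) k :=
    ∑ s, (LinearMap.proj s).smulRight (Matrix.single s o 1)
  have hcol : ∀ v, col v = ∑ s, v s • Matrix.single s o 1 := fun v => by
    simp [col, LinearMap.sum_apply]
  let Φ : (Fin (d a) → k) →ₗ[k] (S ⧸ K0) :=
    (LinearMap.applyₗ u0) ∘ₗ L'.toLinearMap ∘ₗ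
      (LinearMap.single k (fun a => Matrix (Fin (d a)) (Fin (d a)) k) a) ∘ₗ col
  have hΦ : ∀ v, Φ v = L' (Pi.single a (col v)) u0 := fun v => rfl
  set ρa : G →* Module.End k (Fin (d a) → k) := (Matrix.toLinAlgEquiv'.toAlgHom.comp
    ((Pi.evalAlgHom k (fun a => Matrix (Fin (d a)) (Fin (d a)) k) a).comp
      (P.comp q))).toMonoidHom.comp (MonoidAlgebra.of k G) with hρa
  have hcolmul : ∀ (X : Matrix (Fin (d a)) (Fin (d a)) k) v, X * col v = col (X.mulVec v) := by
    intro X v
    ext i j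
    simp only [hcol, Matrix.mul_apply, Matrix.sum_apply, Matrix.smul_apply, Matrix.single_apply,
      smul_eq_mul, mul_ite, mul_one, mul_zero, Matrix.mulVec, dotProduct]
    by_cases hj : o = j
    · simp [hj]
    · simp [hj]
  have hΦX : ∀ (X : ∀ a, Matrix (Fin (d a)) (Fin (d a)) k) v, L' X (Φ v) = Φ ((X a).mulVec v) := by
    intro X v
    rw [hΦ, hΦ, ← Module.End.mul_apply, ← map_mul, ← hcolmul]
    congr 2
    refine funext fun b => ?_
    by_cases hb : b = a
    · subst hb
      simp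
    · simp [Pi.single_eq_of_ne hb]
  have hΦρ : ∀ g v, ρQ g (Φ v) = Φ (ρa g v) := fun g v => by
    rw [hρLA, ← hL', hΦX]
    rfl
  have hΦi : Function.Injective Φ := by
    refine LinearMap.ker_eq_bot.1 (LinearMap.ker_eq_bot'.2 fun v hv => funext fun s => ?_)
    by_contra hs
    have h1 := congrArg (L' (Pi.single a (Matrix.single o s 1))) hv
    rw [map_zero, hΦX, Pi.single_eq_same] at h1
    have h2 : (Matrix.single o s (1 : k)).mulVec v = v s • Pi.single o 1 := by
      ext i
      rw [Matrix.mulVec, dotProduct, Finset.sum_eq_single s]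
      · by_cases hi : i = o
        · simp [hi]
        · simp [hi, Matrix.single_apply, Ne.symm hi]
      · intro b _ hb
        simp [Matrix.single_apply, Ne.symm hb]
      · simp
    rw [h2, map_smul] at h1
    have h3 : Φ (Pi.single o 1) = u0 := by
      rw [hΦ]
      conv_rhs => rw [← hE0]
      congr 3
      rw [hcol, Finset.sum_eq_single o]
      · simp
      · intro b _ hb
        simp [hb]
      · exact fun h => absurd (Finset.mem_univ _) h
    rw [h3, smul_eq_zero] at h1
    exact h1.elim hs hu0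
  have hΦs : LinearMap.range Φ = ⊤ := by
    refine hirr _ (fun g u hu => ?_) ?_
    · obtain ⟨v, rfl⟩ := hu
      exact ⟨_, (hΦρ g v).symm⟩
    · intro h
      have h0 := LinearMap.range_eq_bot.1 h
      have h1 : (Pi.single o (1 : k) : Fin (d a) → k) = 0 := hΦi (by simp [h0])
      have h2 := congrFun h1 o
      simp at h2
  have hker : K0 ≤ LinearMap.ker (π1 ∘ₗ S.subtype) := fun u hu => by
    rw [LinearMap.mem_ker, LinearMap.comp_apply, hπ1, sub_eq_zero]
    exact hψ _ hu
  let π2 : (S ⧸ K0) →ₗ[k] V := K0.liftQ (π1 ∘ₗ S.subtype) hker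
  refine ⟨a, π2 ∘ₗ Φ, fun h => LinearMap.ext fun v => ?_, ?_⟩
  · show π2 (Φ (ρa (h : G) v)) = T h (π2 (Φ v))
    rw [← hΦρ]
    obtain ⟨u, hu⟩ := Submodule.Quotient.mk_surjective _ (Φ v)
    rw [← hu]
    show π1 (ρ (h : G) (u : G → V)) = T h (π1 u)
    exact hπ1e _ u.2 h
  rintro ⟨ψ2, hψ2⟩
  let Φe := LinearEquiv.ofBijective Φ ⟨hΦi, LinearMap.range_eq_top.1 hΦs⟩
  obtain ⟨ψ3, hψ3⟩ := LinearMap.exists_extend (ψ2 ∘ₗ Φe.symm.toLinearMap ∘ₗ K0.mkQ)
  refine hSn ⟨ψ + ψ3, fun u hu => ?_⟩
  have h1 := LinearMap.congr_fun hψ2 (Φe.symm (Submodule.Quotient.mk ⟨u, hu⟩))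
  rw [LinearMap.comp_apply, show Φ (Φe.symm (Submodule.Quotient.mk ⟨u, hu⟩)) = _ from
    Φe.apply_symm_apply _] at h1
  change π1 u = _ at h1
  rw [hπ1, sub_eq_iff_eq_add, LinearMap.sum_apply] at h1
  rw [h1, ← Finset.sum_add_distrib]
  refine Finset.sum_congr rfl fun h _ => ?_
  simp only [LinearMap.comp_apply, LinearMap.add_apply, map_add]
  rw [add_comm]
  congr 2
  have h2 : ρa (h : G)⁻¹ (Φe.symm (Submodule.Quotient.mk ⟨u, hu⟩)) =
      Φe.symm (Submodule.Quotient.mk (ρS (h : G)⁻¹ ⟨u, hu⟩)) := by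
    rw [LinearEquiv.eq_symm_apply]
    show Φ _ = _
    rw [← hΦρ, show Φ (Φe.symm (Submodule.Quotient.mk ⟨u, hu⟩)) = _ from Φe.apply_symm_apply _]
    rfl
  rw [h2]
  exact (LinearMap.congr_fun hψ3 (ρS (h : G)⁻¹ ⟨u, hu⟩)).symm

end Cfsg.Agent.Lib.CyclicDefect
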