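import Mathlib
import Cfsg.Agent.Lib.CyclicDefect.RelTrace

/-!
# A matrix frame for a normal subgroup and a cyclic extension

A representation `π` of `C` on `k^(n+1)` which is the semisimple quotient of a direct factor of
the group algebra with matrix units and a one generated corner, extended by the scalar twists of
an operator realising the conjugation by an element `g`.
-/

set_option autoImplicit false

namespace Cfsg.Agent.Lib.CyclicDefect

open MonoidAlgebra

universe u v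

variable {k : Type v} [Field k] {G : Type u} [Group G] {C : Subgroup G}

/-- The conjugation of the group algebra of a subgroup by an element normalising it. -/
noncomputable def cAlg (k : Type v) [Field k] (C : Subgroup G) (g : G)
    (h : ∀ c ∈ C, g * c * g⁻¹ ∈ C) : MonoidAlgebra k C →ₐ[k] MonoidAlgebra k C :=
  mapDomainAlgHom k k
    ({ toFun := fun c : C => (⟨g * c * g⁻¹, h c c.2⟩ : C)
       map_one' := Subtype.ext (by simp)
       map_mul' := fun a b => Subtype.ext (by simp [mul_assoc]) } : C →* C)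

theorem cAlg_single {g : G} (h : ∀ c ∈ C, g * c * g⁻¹ ∈ C) (c : C) (a : k) :
    cAlg k C g h (single c a) = single ⟨g * c * g⁻¹, h c c.2⟩ a := by
  simp [cAlg]

/-- The data of the frame. -/
structure Frame (k : Type v) [Field k] {G : Type u} [Group G] (C : Subgroup G) where
  /-- The size less one. -/
  n : ℕ
  /-- The index of `C`. -/
  e : ℕ
  /-- The element outside. -/
  g : G
  gk : (orderOf g : k) ≠ 0
  gC : ∀ c ∈ C, g * c * g⁻¹ ∈ C
  pow_mem : ∀ j : ℕ, g ^ j ∈ C ↔ e ∣ j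
  /-- The representation of `C`. -/
  π : C →* Matrix (Fin (n + 1)) (Fin (n + 1)) k
  /-- The operator of `g`. -/
  σ : Matrix (Fin (n + 1)) (Fin (n + 1)) k
  σ_conj : ∀ c : C, σ * π c = π ⟨g * c * g⁻¹, gC c c.2⟩ * σ
  σ_pow : ∀ (j : ℕ) (h : g ^ j ∈ C), π ⟨g ^ j, h⟩ = σ ^ j
  /-- The central idempotent. -/
  f : MonoidAlgebra k C
  /-- The corner idempotent. -/
  i : MonoidAlgebra k C
  /-- The generator of the radical of the corner. -/
  x : MonoidAlgebra k C
  /-- The factor in the conjugate of `x`. -/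
  c0 : MonoidAlgebra k C
  /-- The column units. -/
  u : Fin (n + 1) → MonoidAlgebra k C
  /-- The row units. -/
  v : Fin (n + 1) → MonoidAlgebra k C
  f_comm : ∀ r, f * r = r * f
  ff : f * f = f
  vu : ∀ s t, v s * u t = if s = t then i else 0
  uv : ∑ s, u s * v s = f
  ui : ∀ s, u s * i = u s
  iv : ∀ s, i * v s = v s
  ii : i * i = i
  fi : f * i = i
  ix : i * x = x
  xi : x * i = x
  nilx : IsNilpotent x
  hc0 : c0 ∈ Algebra.adjoin k ({x} : Set (MonoidAlgebra k C))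
  corner : ∀ r s t, ∃ (a : k) (q : MonoidAlgebra k C),
    q ∈ Algebra.adjoin k ({x} : Set (MonoidAlgebra k C)) ∧ v s * r * u t = a • i + x * q
  πf : MonoidAlgebra.lift k _ C π f = 1
  πi : MonoidAlgebra.lift k _ C π i = Matrix.single 0 0 1
  πx : MonoidAlgebra.lift k _ C π x = 0
  αi : cAlg k C g gC i = i
  αf : cAlg k C g gC f = f
  αx : cAlg k C g gC x = x * c0

namespace Frame

variable (F : Frame k C)

/-- The linear extension of the representation. -/
noncomputable abbrev P : MonoidAlgebra k C →ₐ[k] Matrix (Fin (F.n + 1)) (Fin (F.n + 1)) k :=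
  MonoidAlgebra.lift k _ C F.π

/-- The conjugation by `g`. -/
noncomputable abbrev α : MonoidAlgebra k C →ₐ[k] MonoidAlgebra k C := cAlg k C F.g F.gC

theorem σ_mul (r : MonoidAlgebra k C) : F.σ * F.P r = F.P (F.α r) * F.σ := by
  induction r using MonoidAlgebra.induction_linear with
  | zero => simp
  | add a b ha hb => simp only [map_add, mul_add, add_mul, ha, hb]
  | single c a =>
    simp only [P, α, cAlg_single, MonoidAlgebra.lift_single, mul_smul_comm, smul_mul_assoc,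
      F.σ_conj]

theorem σ_order : F.σ ^ orderOf F.g = 1 := by
  have h : F.g ^ orderOf F.g ∈ C := by rw [pow_orderOf_eq_one]; exact one_mem C
  rw [← F.σ_pow _ h, show (⟨_, h⟩ : C) = 1 from Subtype.ext (pow_orderOf_eq_one _), map_one]

theorem σ_apply_eq : ∀ t, F.σ t 0 = if t = 0 then F.σ 0 0 else 0 := fun t => by
  have h := F.σ_mul F.i
  rw [show F.α F.i = F.i from F.αi, show F.P F.i = _ from F.πi] at h
  by_cases ht : t = 0
  · rw [if_pos ht, ht]
  · rw [if_neg ht]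
    have h1 := congrFun (congrFun h t) 0
    simpa [Matrix.mul_apply, Matrix.single_apply, ht, Ne.symm ht] using h1

theorem σ_ne_zero : F.σ 0 0 ≠ 0 := fun h0 => by
  have hN : orderOf F.g ≠ 0 := fun h => F.gk (by rw [h, Nat.cast_zero])
  have h1 : F.σ ^ (orderOf F.g - 1) * F.σ = 1 := by
    rw [← pow_succ, Nat.sub_add_cancel (Nat.pos_of_ne_zero hN), F.σ_order]
  have h2 := congrFun (congrFun h1 0) 0
  rw [Matrix.mul_apply, Matrix.one_apply_eq, Finset.sum_eq_zero fun t _ => ?_] at h2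
  · exact zero_ne_one h2
  · rw [F.σ_apply_eq t]
    split_ifs
    · rw [h0, mul_zero]
    · rw [mul_zero]

section Twist

variable {I : Subgroup G} (hI : ∀ h ∈ I, ∃ c ∈ C, ∃ j : ℕ, h = c * F.g ^ j) {ζ : k}

theorem twist_pow_conj (hζ : ζ ^ F.e = 1) (j : ℕ) (c : C) :
    ∃ h : F.g ^ j * c * (F.g ^ j)⁻¹ ∈ C,
      (ζ • F.σ) ^ j * F.π c = F.π ⟨_, h⟩ * (ζ • F.σ) ^ j := by
  induction j with
  | zero => exact ⟨by simp, by simp⟩
  | succ j ih =>
    obtain ⟨h, ih⟩ := ih
    have he : F.g ^ (j + 1) * c * (F.g ^ (j + 1))⁻¹ = F.g * (F.g ^ j * c * (F.g ^ j)⁻¹) * F.g⁻¹ := by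
      rw [pow_succ']
      group
    refine ⟨he ▸ F.gC _ h, ?_⟩
    rw [pow_succ', mul_assoc, ih, ← mul_assoc, smul_mul_assoc, F.σ_conj ⟨_, h⟩, ← mul_smul_comm,
      mul_assoc]
    congr 2
    exact Subtype.ext he.symm

/-- The value of the twist at `c g^j`. -/
noncomputable def tw (ζ : k) (c : C) (j : ℕ) : Matrix (Fin (F.n + 1)) (Fin (F.n + 1)) k :=
  F.π c * (ζ • F.σ) ^ j

theorem tw_mul (hζ : ζ ^ F.e = 1) (c c' : C) (j j' : ℕ) :
    ∃ h, F.tw ζ c j * F.tw ζ c' j' = F.tw ζ (c * ⟨F.g ^ j * c' * (F.g ^ j)⁻¹, h⟩) (j + j') := by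
  obtain ⟨h, hh⟩ := F.twist_pow_conj hζ j c'
  refine ⟨h, ?_⟩
  simp only [tw, map_mul, pow_add]
  rw [mul_assoc (F.π c), ← mul_assoc ((ζ • F.σ) ^ j), hh]
  simp only [← mul_assoc]

theorem tw_congr (hζ : ζ ^ F.e = 1) {c c' : C} {j j' : ℕ}
    (h : (c : G) * F.g ^ j = (c' : G) * F.g ^ j') : F.tw ζ c j = F.tw ζ c' j' := by
  wlog hle : j ≤ j' generalizing c c' j j'
  · exact (this h.symm (le_of_not_ge hle)).symm
  obtain ⟨d, rfl⟩ := Nat.exists_eq_add_of_le hle
  have hd : F.g ^ d = (F.g ^ j)⁻¹ * ((c'⁻¹ * c : C) : G) * F.g ^ j := by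
    rw [pow_add] at h
    calc F.g ^ d = (F.g ^ j)⁻¹ * (c' : G)⁻¹ * ((c' : G) * (F.g ^ j * F.g ^ d)) := by group
      _ = _ := by rw [← h]; simp [mul_assoc]
  have hdC : F.g ^ d ∈ C := by
    have hn : ∀ (i : ℕ) (y : G), y ∈ C → F.g ^ i * y * (F.g ^ i)⁻¹ ∈ C := fun i y hy =>
      (F.twist_pow_conj hζ i ⟨y, hy⟩).1
    rw [hd]
    have hN : orderOf F.g ≠ 0 := fun h0 => F.gk (by rw [h0, Nat.cast_zero])
    have hinv : (F.g ^ j)⁻¹ = F.g ^ (j * (orderOf F.g - 1)) := by
      refine inv_eq_of_mul_eq_one_right ?_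
      rw [← pow_add, show j + j * (orderOf F.g - 1) = orderOf F.g * j by
        rw [Nat.mul_sub_one, Nat.add_sub_cancel' (Nat.le_mul_of_pos_right j (Nat.pos_of_ne_zero hN)),
          mul_comm], pow_mul, pow_orderOf_eq_one, one_pow]
    have h1 := hn (j * (orderOf F.g - 1)) _ (c'⁻¹ * c : C).2
    rw [← hinv, inv_inv] at h1
    exact h1
  obtain ⟨q, rfl⟩ := (F.pow_mem d).1 hdC
  have h2 : F.π ⟨_, hdC⟩ = (ζ • F.σ) ^ (F.e * q) := by
    rw [smul_pow, pow_mul ζ, hζ, one_pow, one_smul, F.σ_pow _ hdC]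
  obtain ⟨h3, hh⟩ := F.twist_pow_conj hζ j ⟨_, hdC⟩
  simp only [tw, pow_add]
  rw [← h2, hh, ← mul_assoc, ← map_mul]
  congr 2
  refine Subtype.ext ?_
  show (c : G) = (c' : G) * (F.g ^ j * F.g ^ (F.e * q) * (F.g ^ j)⁻¹)
  rw [eq_mul_inv_of_mul_eq h, pow_add]
  group

/-- The twisted representation of `I`. -/
noncomputable def twist (ζ : k) (hζ : ζ ^ F.e = 1) :
    I →* Matrix (Fin (F.n + 1)) (Fin (F.n + 1)) k where
  toFun h := F.tw ζ ⟨(hI h h.2).choose, (hI h h.2).choose_spec.1⟩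
    (hI h h.2).choose_spec.2.choose
  map_one' := by
    refine (F.tw_congr hζ (c' := 1) (j' := 0) ?_).trans (by simp [tw])
    simpa using ((hI _ (1 : I).2).choose_spec.2.choose_spec).symm
  map_mul' a b := by
    obtain ⟨h, hh⟩ := F.tw_mul hζ ⟨(hI a a.2).choose, (hI a a.2).choose_spec.1⟩
      ⟨(hI b b.2).choose, (hI b b.2).choose_spec.1⟩
      (hI a a.2).choose_spec.2.choose (hI b b.2).choose_spec.2.choose
    rw [hh]
    refine F.tw_congr hζ ?_
    rw [← (hI _ (a * b).2).choose_spec.2.choose_spec, Subgroup.coe_mul]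
    conv_lhs => rw [(hI a a.2).choose_spec.2.choose_spec, (hI b b.2).choose_spec.2.choose_spec]
    simp only [Subgroup.coe_mul, pow_add]
    group

theorem twist_apply (hζ : ζ ^ F.e = 1) (h : I) {c : C} {j : ℕ} (hh : (h : G) = c * F.g ^ j) :
    F.twist hI ζ hζ h = F.tw ζ c j :=
  F.tw_congr hζ ((hI h h.2).choose_spec.2.choose_spec.symm.trans hh)

theorem twist_mem (hζ : ζ ^ F.e = 1) (c : C) (hc : (c : G) ∈ I) :
    F.twist hI ζ hζ ⟨c, hc⟩ = F.π c := by
  rw [F.twist_apply hI hζ ⟨c, hc⟩ (c := c) (j := 0) (by simp)]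
  simp [tw]

theorem twist_g (hζ : ζ ^ F.e = 1) (hg : F.g ∈ I) : F.twist hI ζ hζ ⟨F.g, hg⟩ = ζ • F.σ := by
  rw [F.twist_apply hI hζ ⟨F.g, hg⟩ (c := 1) (j := 1) (by simp)]
  simp [tw]

/-- The twisted representation by operators. -/
noncomputable def twistEnd (ζ : k) (hζ : ζ ^ F.e = 1) : I →* Module.End k (Fin (F.n + 1) → k) :=
  (Matrix.toLinAlgEquiv' (R := k) (n := Fin (F.n + 1))).toAlgHom.toMonoidHom.comp
    (F.twist hI ζ hζ)

end Twist

end Frame

end Cfsg.Agent.Lib.CyclicDefect
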