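import Mathlib
import Cfsg.Agent.Lib.BlockAlg.Corner
import Cfsg.Agent.Lib.CyclicDefect.Serial

/-!
# Matrix units: transport, surjectivity, the generator of the radical, a fixed corner idempotent
-/

set_option autoImplicit false

namespace Cfsg.Agent.Lib.CyclicDefect

open Cfsg.Agent.Lib.BlockAlg

variable {k : Type*} [Field k] {B : Type*} [Ring B] [Algebra k B]

/-- The transport of matrix units by an automorphism. -/
def mapUnits (U : MatUnits k B) (e : B ≃ₐ[k] B) : MatUnits k B where
  n := U.n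
  π := U.π.comp e.symm.toAlgHom
  i := e U.i
  u s := e (U.u s)
  v s := e (U.v s)
  hi := U.hi.map e
  hπi := by simp [U.hπi]
  hvu s t := by rw [← map_mul, U.hvu]; split_ifs <;> simp
  huv := by simp only [← map_mul, ← map_sum, U.huv, map_one]
  hui s := by rw [← map_mul, U.hui]
  hiv s := by rw [← map_mul, U.hiv]
  hker y hy := by
    have h := (U.hker (e.symm y) hy).map e
    rwa [e.apply_symm_apply] at h
  hnilp := by
    obtain ⟨N, hN⟩ := U.hnilp
    refine ⟨N, ?_⟩
    have hsurj : Function.Surjective (e : B →+* B) := e.surjective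
    have h : RingHom.ker (U.π.comp e.symm.toAlgHom).toRingHom =
        Ideal.map (e : B →+* B) (RingHom.ker U.π.toRingHom) := by
      ext y
      rw [Ideal.mem_map_iff_of_surjective _ hsurj]
      constructor
      · exact fun hy => ⟨e.symm y, hy, e.apply_symm_apply y⟩
      · rintro ⟨x, hx, rfl⟩
        show U.π (e.symm (e x)) = 0
        rw [e.symm_apply_apply]
        exact hx
    rw [h]
    refine eq_bot_iff.2 fun y hy => ?_
    suffices hle : Ideal.map (e : B →+* B) (RingHom.ker U.π.toRingHom) ^ N ≤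
        Ideal.map (e : B →+* B) (RingHom.ker U.π.toRingHom ^ N) by
      have := hle hy
      rwa [hN, Ideal.map_bot] at this
    clear hy hN
    induction N with
    | zero => rw [Submodule.pow_zero, Submodule.pow_zero, Ideal.one_eq_top, Ideal.map_top]
    | succ N ih =>
      rw [Submodule.pow_succ, Submodule.pow_succ]
      refine Ideal.mul_le.2 fun a ha b hb => ?_
      obtain ⟨a', ha', rfl⟩ := (Ideal.mem_map_iff_of_surjective _ hsurj).1 (ih ha)
      obtain ⟨b', hb', rfl⟩ := (Ideal.mem_map_iff_of_surjective _ hsurj).1 hb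
      exact (Ideal.mem_map_iff_of_surjective _ hsurj).2
        ⟨a' * b', Ideal.mul_mem_mul ha' hb', map_mul _ _ _⟩

variable (U : MatUnits k B)

/-- The projection onto the semisimple quotient is onto. -/
theorem matUnits_surjective [FiniteDimensional k B] : Function.Surjective U.π := by
  classical
  let Ψ : Matrix (Fin (U.n + 1)) (Fin (U.n + 1)) k →ₗ[k] Matrix (Fin (U.n + 1)) (Fin (U.n + 1)) k :=
    { toFun := fun a => ∑ s, ∑ t, a s t • U.π (U.u s * U.v t)
      map_add' := fun a b => by simp [add_smul, Finset.sum_add_distrib]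
      map_smul' := fun c a => by simp [smul_smul, Finset.smul_sum] }
  have hΨ : Function.Injective Ψ := by
    refine LinearMap.ker_eq_bot.1 (LinearMap.ker_eq_bot'.2 fun a ha => Matrix.ext fun s t => ?_)
    have h1 : U.π (U.v s) * Ψ a * U.π (U.u t) = a s t • U.π U.i := by
      show U.π (U.v s) * (∑ s', ∑ t', a s' t' • U.π (U.u s' * U.v t')) * U.π (U.u t) = _
      simp only [Finset.mul_sum, Finset.sum_mul, mul_smul_comm, smul_mul_assoc, ← map_mul]
      rw [Finset.sum_eq_single s, Finset.sum_eq_single t]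
      · rw [← mul_assoc, U.hvu, if_pos rfl, mul_assoc, U.hvu, if_pos rfl, U.hi.eq]
      · intro t' _ ht
        rw [← mul_assoc, mul_assoc _ (U.v t') (U.u t), U.hvu t' t, if_neg ht, mul_zero, map_zero,
          smul_zero]
      · exact fun h => absurd (Finset.mem_univ _) h
      · intro s' _ hs
        refine Finset.sum_eq_zero fun t' _ => ?_
        rw [← mul_assoc, U.hvu, if_neg (Ne.symm hs), zero_mul, zero_mul, map_zero, smul_zero]
      · exact fun h => absurd (Finset.mem_univ _) h
    rw [ha, mul_zero, zero_mul, U.hπi] at h1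
    have := congrFun (congrFun h1 0) 0
    simpa using this.symm
  intro X
  obtain ⟨a, rfl⟩ := LinearMap.injective_iff_surjective.1 hΨ X
  exact ⟨∑ s, ∑ t, a s t • (U.u s * U.v t), by simp [Ψ, map_sum]⟩

/-- An element with an invertible image is invertible. -/
theorem isUnit_of_map [FiniteDimensional k B] {a : B} (h : IsUnit (U.π a)) : IsUnit a := by
  obtain ⟨b, hb⟩ := matUnits_surjective U ↑h.unit⁻¹
  have h1 : U.π (1 - b * a) = 0 := by
    rw [map_sub, map_one, map_mul, hb, IsUnit.val_inv_mul, sub_self]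
  have h2 : U.π (1 - a * b) = 0 := by
    rw [map_sub, map_one, map_mul, hb, IsUnit.mul_val_inv, sub_self]
  have h3 : IsUnit (b * a) := by simpa using (U.hker _ h1).isUnit_one_sub
  have h4 : IsUnit (a * b) := by simpa using (U.hker _ h2).isUnit_one_sub
  obtain ⟨c, hc⟩ := h4
  obtain ⟨d, hd⟩ := h3
  refine isUnit_iff_exists_and_exists.2 ⟨⟨b * ↑c⁻¹, ?_⟩, ⟨↑d⁻¹ * b, ?_⟩⟩
  · rw [← mul_assoc, ← hc, Units.mul_inv]
  · rw [mul_assoc, ← hd, Units.inv_mul]

/-- With few modules the radical of the corner consists of multiples of one element. -/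
theorem exists_rad_gen [IsAlgClosed k] [FiniteDimensional k B] {D : ℕ}
    (hfew : MatUnits.FewModules B D) :
    ∃ g ∈ U.rad, ∀ x ∈ U.rad, ∃ q ∈ Algebra.adjoin k ({g} : Set B), x = g * q := by
  classical
  obtain ⟨g, hg, hgen⟩ := U.exists_gen hfew
  refine ⟨g, hg, ?_⟩
  obtain ⟨N, hN⟩ := U.hnilp
  set J := RingHom.ker U.π.toRingHom
  have hJ : ∀ {x}, x ∈ U.rad → x ∈ J := fun hx => (U.mem_rad.1 hx).2
  set A := Algebra.adjoin k ({g} : Set B)
  let S : Submodule k B := (Subalgebra.toSubmodule A).map (LinearMap.mulLeft k g)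
  have hgA : g ∈ A := Algebra.subset_adjoin (Set.mem_singleton g)
  have hgS : g ∈ S := ⟨1, A.one_mem, by simp⟩
  have hSmul : ∀ x ∈ S, ∀ y ∈ S, x * y ∈ S := by
    rintro _ ⟨a, ha, rfl⟩ _ ⟨b, hb, rfl⟩
    exact ⟨a * (g * b), A.mul_mem ha (A.mul_mem hgA hb), by simp [mul_assoc]⟩
  have hgJ : ∀ x ∈ S, x ∈ J := by
    rintro _ ⟨a, ha, rfl⟩
    exact J.mul_mem_right a (hJ hg)
  have hfilt : ∀ e : ℕ, ∀ x ∈ U.rad, ∃ s ∈ S, x - s ∈ J ^ (e + 1) := by
    intro e
    induction e with
    | zero =>
      exact fun x hx => ⟨0, S.zero_mem, by rw [zero_add, sub_zero, Submodule.pow_one]; exact hJ hx⟩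
    | succ e ih =>
      intro x hx
      obtain ⟨c, hc⟩ := hgen x hx
      suffices h : ∀ w ∈ U.radSq, ∃ s ∈ S, w - s ∈ J ^ (e + 2) by
        obtain ⟨s, hs, hs'⟩ := h _ hc
        refine ⟨c • g + s, S.add_mem (S.smul_mem c hgS) hs, ?_⟩
        rwa [← sub_sub]
      intro w hw
      induction hw using Submodule.span_induction with
      | mem w hw =>
        obtain ⟨a, ha, a', ha', rfl⟩ := hw
        obtain ⟨s, hs, hs'⟩ := ih a ha
        obtain ⟨s', hs1, hs1'⟩ := ih a' ha'
        refine ⟨s * s', hSmul s hs s' hs1, ?_⟩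
        rw [show a * a' - s * s' = (a - s) * a' + s * (a' - s') by noncomm_ring]
        refine (J ^ (e + 2)).add_mem ?_ ?_
        · rw [Submodule.pow_succ (M := J) (n := e + 1)]
          exact Ideal.mul_mem_mul hs' (hJ ha')
        · rw [Ideal.IsTwoSided.pow_succ (I := J) (n := e + 1)]
          exact Ideal.mul_mem_mul (hgJ s hs) hs1'
      | zero => exact ⟨0, S.zero_mem, by simp⟩
      | add a a' _ _ h h' =>
        obtain ⟨s, hs, hs'⟩ := h
        obtain ⟨s', hs1, hs1'⟩ := h'
        exact ⟨s + s', S.add_mem hs hs1, by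
          rw [show a + a' - (s + s') = (a - s) + (a' - s') by abel]
          exact (J ^ (e + 2)).add_mem hs' hs1'⟩
      | smul c a _ h =>
        obtain ⟨s, hs, hs'⟩ := h
        exact ⟨c • s, S.smul_mem c hs, by
          rw [← smul_sub]; exact ((J ^ (e + 2)).restrictScalars k).smul_mem c hs'⟩
  intro x hx
  obtain ⟨s, hs, hs'⟩ := hfilt N x hx
  have h0 := Ideal.pow_le_pow_right (Nat.le_succ N) hs'
  rw [hN, Submodule.mem_bot, sub_eq_zero] at h0
  obtain ⟨q, hq, rfl⟩ := hs
  exact ⟨q, hq, h0⟩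

/-- A rank one idempotent matrix commuting with an operator of order prime to the characteristic. -/
theorem exists_fixed_corner [IsAlgClosed k] {n : ℕ} {σ : Matrix (Fin (n + 1)) (Fin (n + 1)) k}
    {N : ℕ} (hN : (N : k) ≠ 0) (hσ : σ ^ N = 1) :
    ∃ M M' : Matrix (Fin (n + 1)) (Fin (n + 1)) k, M * M' = 1 ∧ M' * M = 1 ∧
      σ * (M * Matrix.single 0 0 1 * M') = (M * Matrix.single 0 0 1 * M') * σ := by
  classical
  set e := (Matrix.toLinAlgEquiv' (R := k) (n := Fin (n + 1)))
  set s : Module.End k (Fin (n + 1) → k) := e σ with hs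
  have hsN : s ^ N = 1 := by rw [hs, ← map_pow, hσ, map_one]
  obtain ⟨ζ, y, hy, hy0⟩ := exists_eigen_not_mem hN hsN ⊥ bot_ne_top
  rw [Submodule.mem_bot] at hy0
  obtain ⟨j, hj⟩ : ∃ j, y j ≠ 0 := Function.ne_iff.1 hy0
  have hζN : ζ ^ N = 1 := by
    have h1 : ∀ i : ℕ, (s ^ i) y = ζ ^ i • y := fun i => by
      induction i with
      | zero => simp
      | succ i ih => rw [pow_succ', Module.End.mul_apply, ih, map_smul, hy, smul_smul, ← pow_succ]
    have h2 := congrFun ((h1 N).symm.trans (by rw [hsN]; rfl : (s ^ N) y = y)) j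
    exact mul_right_cancel₀ hj (by simpa using h2)
  have hζ : ζ ≠ 0 := fun h => by
    rw [h, zero_pow (fun h0 => hN (by rw [h0, Nat.cast_zero]))] at hζN
    exact zero_ne_one hζN
  set lam0 : (Fin (n + 1) → k) →ₗ[k] k := (y j)⁻¹ • LinearMap.proj j with hlam0
  set lam : (Fin (n + 1) → k) →ₗ[k] k :=
    (N : k)⁻¹ • ∑ i ∈ Finset.range N, (ζ⁻¹) ^ i • lam0 ∘ₗ (s ^ i) with hlam
  have hsy : ∀ i : ℕ, (s ^ i) y = ζ ^ i • y := fun i => by
    induction i with
    | zero => simp
    | succ i ih => rw [pow_succ', Module.End.mul_apply, ih, map_smul, hy, smul_smul, ← pow_succ]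
  have hly : lam y = 1 := by
    simp only [hlam, LinearMap.smul_apply, LinearMap.sum_apply, LinearMap.comp_apply, hsy, map_smul,
      smul_eq_mul]
    rw [Finset.sum_congr rfl fun i _ => show (ζ⁻¹) ^ i * (ζ ^ i * lam0 y) = 1 by
      rw [← mul_assoc, ← mul_pow, inv_mul_cancel₀ hζ, one_pow, one_mul, hlam0]
      simp [inv_mul_cancel₀ hj]]
    simp [inv_mul_cancel₀ hN]
  have hls : ∀ v, lam (s v) = ζ * lam v := fun v => by
    simp only [hlam, LinearMap.smul_apply, LinearMap.sum_apply, LinearMap.comp_apply, smul_eq_mul]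
    rw [mul_left_comm ζ]
    congr 1
    rw [Finset.mul_sum]
    let F : ℕ → k := fun i => ζ * ((ζ⁻¹) ^ i * lam0 ((s ^ i) v))
    have h1 : ∀ i, (ζ⁻¹) ^ i * lam0 ((s ^ i) (s v)) = F (i + 1) := fun i => by
      simp only [F]
      rw [pow_succ ζ⁻¹, pow_succ, Module.End.mul_apply, ← mul_assoc ζ, ← mul_assoc ζ,
        mul_comm ζ (ζ⁻¹ ^ i), mul_assoc (ζ⁻¹ ^ i) ζ, mul_inv_cancel₀ hζ, mul_one]
    simp only [h1]
    show _ = ∑ i ∈ Finset.range N, F i
    refine add_right_cancel (b := F 0) ?_
    rw [← Finset.sum_range_succ', Finset.sum_range_succ]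
    simp [F, hsN, inv_pow, hζN]
  -- a frame with first column `y`
  set K := LinearMap.ker lam with hK
  have hlam1 : LinearMap.range lam = ⊤ := LinearMap.range_eq_top.2 fun c => ⟨c • y, by simp [hly]⟩
  have hdim : Module.finrank k (Fin n → k) = Module.finrank k K := by
    have h1 := lam.finrank_range_add_finrank_ker
    rw [hlam1, finrank_top, Module.finrank_self, Module.finrank_fin_fun] at h1
    rw [Module.finrank_fin_fun, hK]
    omega
  let L := LinearEquiv.ofFinrankEq (Fin n → k) K hdim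
  let Φ : (Fin (n + 1) → k) →ₗ[k] (Fin (n + 1) → k) :=
    (LinearMap.proj 0).smulRight y + K.subtype ∘ₗ L.toLinearMap ∘ₗ LinearMap.funLeft k k Fin.succ
  have hΦl : ∀ v, lam (Φ v) = v 0 := fun v => by
    have : lam (L (LinearMap.funLeft k k Fin.succ v) : Fin (n + 1) → k) = 0 := (L _).2
    simp [Φ, hly, this]
  have hΦi : Function.Injective Φ := by
    refine LinearMap.ker_eq_bot.1 (LinearMap.ker_eq_bot'.2 fun v hv => ?_)
    have h0 : v 0 = 0 := by
      have := hΦl v
      rw [hv, map_zero] at this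
      exact this.symm
    have h1 : L (LinearMap.funLeft k k Fin.succ v) = 0 := Subtype.ext (by simpa [Φ, h0] using hv)
    funext i
    refine Fin.cases h0 (fun i => ?_) i
    exact congrFun ((map_eq_zero_iff _ L.injective).1 h1) i
  let Φe := LinearEquiv.ofBijective Φ ⟨hΦi, LinearMap.injective_iff_surjective.1 hΦi⟩
  refine ⟨e.symm Φ, e.symm Φe.symm.toLinearMap, ?_, ?_, e.injective ?_⟩
  · rw [← map_mul, ← map_one e.symm]
    exact congrArg _ (LinearMap.ext fun v => Φe.apply_symm_apply v)
  · rw [← map_mul, ← map_one e.symm]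
    exact congrArg _ (LinearMap.ext fun v => Φe.symm_apply_apply v)
  · simp only [map_mul, AlgEquiv.apply_symm_apply, ← hs]
    have hr : Φ * e (Matrix.single 0 0 1) * (Φe.symm.toLinearMap : Module.End k _) =
        lam.smulRight y := LinearMap.ext fun v => by
      obtain ⟨w, rfl⟩ := Φe.surjective v
      have hS : (e (Matrix.single 0 0 (1 : k))) w = Pi.single 0 (w 0) := funext fun i => by
        rw [Matrix.toLinAlgEquiv'_apply, Matrix.mulVec, dotProduct, Finset.sum_eq_single 0]
        · by_cases hi : i = 0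
          · simp [hi]
          · simp [Matrix.single_apply, hi, Ne.symm hi]
        · intro b _ hb
          simp [Matrix.single_apply, Ne.symm hb]
        · simp
      show Φ ((e (Matrix.single 0 0 1)) (Φe.symm (Φe w))) = lam (Φ w) • y
      rw [Φe.symm_apply_apply, hS, hΦl]
      have h1 : LinearMap.funLeft k k Fin.succ (Pi.single (0 : Fin (n + 1)) (w 0)) = 0 :=
        funext fun i => by simp [LinearMap.funLeft, Fin.succ_ne_zero]
      simp [Φ, h1]
    rw [hr]
    refine LinearMap.ext fun v => ?_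
    show s (lam v • y) = lam (s v) • y
    rw [map_smul, hy, hls, smul_smul, mul_comm]

end Cfsg.Agent.Lib.CyclicDefect
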