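import Mathlib
import Cfsg.Agent.Lib.BlockAlg.Cyclic
import Cfsg.Agent.Lib.CyclicDefect.Frame
import Cfsg.Agent.Lib.CyclicDefect.Units
import Cfsg.Agent.Lib.CyclicDefect.Exist

/-!
# The frame of a block with one simple module and cyclic defect group
-/

set_option autoImplicit false

namespace Cfsg.Agent.Lib.CyclicDefect

open Cfsg MonoidAlgebra
open Cfsg.Agent.Lib
open Cfsg.Agent.Lib.Blocks (Residue)
open Cfsg.Agent.Lib.BlockAlg

/-- The operator realising an automorphism on the semisimple quotient. -/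
theorem exists_sigma {k : Type*} [Field k] [IsAlgClosed k] {A : Type*} [Ring A] [Algebra k A]
    [FiniteDimensional k A] {n : ℕ} (π : A →ₐ[k] Matrix (Fin (n + 1)) (Fin (n + 1)) k)
    (hs : Function.Surjective π) (hker : ∀ a, π a = 0 → IsNilpotent a) (Γ : A →ₐ[k] A)
    (hΓ : Function.Surjective Γ) {e : ℕ} (he : e ≠ 0) {t t' : A} (ht : t * t' = 1)
    (ht' : t' * t = 1) (hΓe : ∀ a, (Γ ^ e) a = t * a * t') :
    ∃ σ : Matrix (Fin (n + 1)) (Fin (n + 1)) k,
      (∀ a, σ * π a = π (Γ a) * σ) ∧ σ ^ e = π t := by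
  classical
  have hkill : ∀ a, π a = 0 → π (Γ a) = 0 := fun a ha => by
    refine Matrix.ext fun i j => ?_
    obtain ⟨b, hb⟩ := hs (Matrix.single j i 1)
    obtain ⟨b', rfl⟩ := hΓ b
    have h1 : IsNilpotent (π (Γ b') * π (Γ a)) := by
      rw [← map_mul, ← map_mul]
      exact ((hker (b' * a) (by rw [map_mul, ha, mul_zero])).map Γ).map π
    have h2 := (Matrix.isNilpotent_trace_of_isNilpotent h1).eq_zero
    rw [hb, Matrix.trace, Finset.sum_eq_single j] at h2
    · simpa [Matrix.mul_apply, Matrix.single_apply] using h2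
    · intro x _ hx
      simp [Matrix.mul_apply, Matrix.single_apply, Ne.symm hx]
    · simp
  obtain ⟨αbar, hαbar⟩ := exists_factor π hs (π.comp Γ) hkill
  have hαs : Function.Surjective αbar := fun X => by
    obtain ⟨a, ha⟩ := hs X
    obtain ⟨b, rfl⟩ := hΓ a
    exact ⟨π b, by rw [hαbar]; exact ha⟩
  let αe := AlgEquiv.ofBijective αbar
    ⟨(LinearMap.injective_iff_surjective (f := αbar.toLinearMap)).2 hαs, hαs⟩
  set E := (Matrix.toLinAlgEquiv' (R := k) (n := Fin (n + 1))) with hE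
  obtain ⟨T, hT⟩ := AlgEquiv.eq_linearEquivConjAlgEquiv ((E.symm.trans αe).trans E)
  set σ0 := E.symm T.toLinearMap with hσ0
  set σ0' := E.symm T.symm.toLinearMap with hσ0'
  have h01 : σ0' * σ0 = 1 := by
    rw [← map_mul, ← map_one E.symm]
    exact congrArg _ (LinearMap.ext fun v => T.symm_apply_apply v)
  have h00 : σ0 * σ0' = 1 := by
    rw [← map_mul, ← map_one E.symm]
    exact congrArg _ (LinearMap.ext fun v => T.apply_symm_apply v)
  have hconj : ∀ a, σ0 * π a = π (Γ a) * σ0 := fun a => by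
    refine E.injective ?_
    have h := congrArg (fun φ : _ ≃ₐ[k] _ => φ (E (π a))) hT
    simp only [AlgEquiv.trans_apply, AlgEquiv.symm_apply_apply] at h
    change E (αbar (π a)) = _ at h
    rw [hαbar] at h
    change E (π (Γ a)) = _ at h
    rw [map_mul, map_mul, h, hσ0, AlgEquiv.apply_symm_apply]
    refine LinearMap.ext fun v => ?_
    show T (E (π a) v) = T (E (π a) (T.symm (T v)))
    rw [T.symm_apply_apply]
  have hpow : ∀ (j : ℕ) a, σ0 ^ j * π a = π ((Γ ^ j) a) * σ0 ^ j := fun j => by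
    induction j with
    | zero => intro a; simp
    | succ j ih =>
      intro a
      rw [pow_succ, pow_succ, mul_assoc, hconj, ← mul_assoc, ih, AlgHom.mul_apply, mul_assoc]
  -- the scalar
  have hcomm : ∀ X, (π t' * σ0 ^ e) * X = X * (π t' * σ0 ^ e) := fun X => by
    obtain ⟨a, rfl⟩ := hs X
    rw [mul_assoc, hpow, hΓe, ← mul_assoc, ← mul_assoc, ← map_mul,
      show t' * (t * a * t') = a * t' by rw [← mul_assoc, ← mul_assoc, ht', one_mul], map_mul]
  obtain ⟨lam, hlam⟩ : ∃ lam : k, π t' * σ0 ^ e = lam • (1 : Matrix _ _ k) := by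
    obtain ⟨c, hc⟩ := Matrix.mem_range_scalar_of_commute_single (M := π t' * σ0 ^ e)
      fun i j _ => (hcomm _).symm
    exact ⟨c, by rw [← hc]; simp [Matrix.smul_one_eq_diagonal]⟩
  have hlam0 : lam ≠ 0 := fun h => by
    rw [h, zero_smul] at hlam
    have h1 : σ0 ^ e = 0 := by
      rw [← one_mul (σ0 ^ e), ← map_one π, ← ht, map_mul, mul_assoc, hlam, mul_zero]
    have h2 : (σ0' ^ e) * σ0 ^ e = 1 := by
      rw [← (show Commute σ0' σ0 from h01.trans h00.symm).mul_pow, h01, one_pow]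
    rw [h1, mul_zero] at h2
    exact zero_ne_one h2
  obtain ⟨μ, hμ⟩ := IsAlgClosed.exists_pow_nat_eq lam (Nat.pos_of_ne_zero he)
  refine ⟨μ⁻¹ • σ0, fun a => by rw [smul_mul_assoc, hconj, mul_smul_comm], ?_⟩
  rw [smul_pow, inv_pow, hμ]
  have h1 : σ0 ^ e = lam • π t := by
    rw [← one_mul (σ0 ^ e), ← map_one π, ← ht, map_mul, mul_assoc, hlam, mul_smul_comm, mul_one]
  rw [h1, inv_smul_smul₀ hlam0]

universe u

variable {G : Type u} [Group G] {p : ℕ} [Fact p.Prime] {M : Ideal AlgInt} [M.IsPrime]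

attribute [local instance] Classical.propDecidable

set_option maxHeartbeats 1600000 in
/-- A nilpotent block of `C` with cyclic defect group fixed by `g` gives a frame. -/
theorem exists_frame (hM : IsPModular p M) {C : Subgroup G} [Fintype C]
    {bZ : Set (IrrCharacter C)} (hb : IsPBlock M bZ) (hl : blockRank p bZ = 1) {P : Subgroup C}
    (hP : IsDefectGroup p M bZ P) (hcyc : IsCyclic P) {g : G} {e : ℕ}
    (hgC : ∀ c ∈ C, g * c * g⁻¹ ∈ C) (hpow : ∀ j : ℕ, g ^ j ∈ C ↔ e ∣ j)
    (hgk : (orderOf g : Residue M) ≠ 0)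
    (hid : cAlg (Residue M) C g hgC (idem hb) = idem hb) :
    ∃ F : Frame (Residue M) C, F.e = e ∧ F.g = g ∧ F.f = idem hb ∧ Function.Surjective F.P := by
  haveI := Blocks.charP_residue hM
  haveI := Contrib.isAlgClosed_residue hM
  set k := Residue M
  set A := Alg hb
  haveI : Nontrivial A := Module.nontrivial_of_finrank_pos (R := k) (finrank_pos hb)
  haveI : Fintype (C ⧸ P) := Fintype.ofFinite _
  have hN0 : orderOf g ≠ 0 := fun h => hgk (by rw [h, Nat.cast_zero])
  have he : e ≠ 0 := fun h => hN0 (by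
    have := (hpow (orderOf g)).1 (by rw [pow_orderOf_eq_one]; exact one_mem C)
    rw [h] at this
    exact Nat.eq_zero_of_zero_dvd this)
  obtain ⟨z, hz⟩ := (Subgroup.isCyclic_iff_exists_zpowers_eq_top P).1 hcyc
  obtain ⟨v, hv⟩ := IsPGroup.iff_orderOf.1 (Blocks.isPGroup_of_isDefectGroup hP)
    ⟨z, hz ▸ Subgroup.mem_zpowers z⟩
  rw [Subgroup.orderOf_mk] at hv
  obtain ⟨x, hx, hx1⟩ := exists_trace_eq_one hM hb hP
  obtain ⟨D, hD⟩ := fewModules (k := k) (elt hb) (span_elt hb) P hz.symm hv x hx hx1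
  obtain ⟨U0⟩ := nonempty_matUnits (k := k) (B := A)
    fun m d Q hd hQ => (card_factors_le hb hM d Q hd hQ).trans hl.le
  -- the automorphism
  set αC := cAlg k C g hgC with hαC
  obtain ⟨Γ, hΓ⟩ := exists_factor (proj hb) (proj_surjective hb) ((proj hb).comp αC) fun r hr => by
    show proj hb (αC r) = 0
    rw [proj_eq_zero_iff, ← hid, ← map_mul, (proj_eq_zero_iff hb).1 hr, map_zero]
  have hΓ' : ∀ r, Γ (proj hb r) = proj hb (αC r) := hΓ
  have hαpow : ∀ (j : ℕ) (r : MonoidAlgebra k C) (h : ∀ c ∈ C, g ^ j * c * (g ^ j)⁻¹ ∈ C),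
      (αC ^ j) r = cAlg k C (g ^ j) h r := fun j => by
    induction j with
    | zero =>
      intro r h
      induction r using MonoidAlgebra.induction_linear with
      | zero => simp
      | add a b ha hb => rw [map_add, map_add, ha, hb]
      | single c a => simp [cAlg_single]
    | succ j ih =>
      intro r h
      have hj : ∀ c ∈ C, g ^ j * c * (g ^ j)⁻¹ ∈ C := fun c hc => by
        clear ih h r
        induction j with
        | zero => simpa using hc
        | succ j ih =>
          rw [pow_succ', show g * g ^ j * c * (g * g ^ j)⁻¹ = g * (g ^ j * c * (g ^ j)⁻¹) * g⁻¹ by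
            group]
          exact hgC _ ih
      rw [pow_succ', AlgHom.mul_apply, ih r hj]
      induction r using MonoidAlgebra.induction_linear with
      | zero => simp
      | add a b ha hb => simp [ha, hb]
      | single c a =>
        rw [hαC, cAlg_single, cAlg_single, cAlg_single]
        refine congrArg (single · a) (Subtype.ext ?_)
        show g * (g ^ j * (c : G) * (g ^ j)⁻¹) * g⁻¹ = g ^ (j + 1) * (c : G) * (g ^ (j + 1))⁻¹
        rw [pow_succ']
        group
  have hΓpow : ∀ (j : ℕ) r, (Γ ^ j) (proj hb r) = proj hb ((αC ^ j) r) := fun j => by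
    induction j with
    | zero => intro r; simp
    | succ j ih => intro r; rw [pow_succ', pow_succ', AlgHom.mul_apply, AlgHom.mul_apply, ih, hΓ']
  have hΓN : ∀ a, (Γ ^ orderOf g) a = a := fun a => by
    obtain ⟨r, rfl⟩ := proj_surjective hb a
    rw [hΓpow, hαpow _ _ (by simp [pow_orderOf_eq_one])]
    congr 1
    induction r using MonoidAlgebra.induction_linear with
    | zero => simp
    | add a b ha hb => rw [map_add, ha, hb]
    | single c a => simp [cAlg_single, pow_orderOf_eq_one]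
  have hΓs : Function.Surjective Γ := fun a => ⟨(Γ ^ (orderOf g - 1)) a, by
    rw [← AlgHom.mul_apply, ← pow_succ', Nat.sub_add_cancel (Nat.pos_of_ne_zero hN0), hΓN]⟩
  have hgeC : g ^ e ∈ C := (hpow e).2 dvd_rfl
  set ge : C := ⟨g ^ e, hgeC⟩
  have hΓe : ∀ a, (Γ ^ e) a = elt hb ge * a * elt hb ge⁻¹ := fun a => by
    obtain ⟨r, rfl⟩ := proj_surjective hb a
    rw [hΓpow, hαpow _ _ (fun c hc => mul_mem (mul_mem hgeC hc) (inv_mem hgeC)), elt_apply,
      elt_apply, ← map_mul, ← map_mul]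
    congr 1
    induction r using MonoidAlgebra.induction_linear with
    | zero => simp
    | add a b ha hb => simp only [map_add, mul_add, add_mul, ha, hb]
    | single c a =>
      rw [cAlg_single, single_mul_single, single_mul_single, one_mul, mul_one]
      exact congrArg (single · a) (Subtype.ext rfl)
  have het : elt hb ge * elt hb ge⁻¹ = 1 := by rw [← map_mul, mul_inv_cancel, map_one]
  have het' : elt hb ge⁻¹ * elt hb ge = 1 := by rw [← map_mul, inv_mul_cancel, map_one]
  -- a corner fixed by the automorphism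
  obtain ⟨σ1, hσ1, hσ1e⟩ := exists_sigma U0.π (matUnits_surjective U0) U0.hker Γ hΓs he het het' hΓe
  obtain ⟨q, hq⟩ := (hpow (orderOf g)).1 (by rw [pow_orderOf_eq_one]; exact one_mem C)
  have hσ1N : σ1 ^ orderOf g = 1 := by
    rw [hq, pow_mul, hσ1e, ← map_pow, ← map_pow,
      show ge ^ q = 1 from Subtype.ext (by
        show (g ^ e) ^ q = 1
        rw [← pow_mul, ← hq, pow_orderOf_eq_one]), map_one, map_one]
  obtain ⟨M1, M1', hMM, hM'M, hfix⟩ := exists_fixed_corner hgk hσ1N
  set ibar := M1 * Matrix.single 0 0 1 * M1' with hibar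
  obtain ⟨w, hw⟩ := matUnits_surjective U0 M1
  obtain ⟨w', hw'⟩ : IsUnit w := isUnit_of_map U0 (hw ▸ isUnit_iff_exists.2 ⟨M1', hMM, hM'M⟩)
  have hwinv : U0.π ↑w'⁻¹ = M1' := by
    refine (left_inv_eq_right_inv (a := M1) ?_ hMM)
    rw [← hw, ← hw', ← map_mul, Units.inv_mul, map_one]
  obtain ⟨i1, hi1⟩ : ∃ i1 : A, i1 = w * U0.i * ↑w'⁻¹ := ⟨_, rfl⟩
  have hi1i : IsIdempotentElem i1 := by
    show _ * _ = _
    rw [hi1, ← hw']
    calc _ = (w' : A) * (U0.i * ((↑w'⁻¹ : A) * w') * U0.i) * ↑w'⁻¹ := by simp only [mul_assoc]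
      _ = _ := by rw [Units.inv_mul, mul_one, U0.hi.eq]
  have hπi1 : U0.π i1 = ibar := by rw [hi1, map_mul, map_mul, hw, U0.hπi, hwinv]
  have hπΓ : ∀ a, U0.π a = ibar → U0.π (Γ a) = ibar := fun a ha => by
    have h := hσ1 a
    rw [ha, hfix] at h
    have hu : IsUnit σ1 := IsUnit.of_pow_eq_one hσ1N hN0
    exact (hu.mul_left_inj.1 h).symm
  let Afix : Subalgebra k A := AlgHom.equalizer Γ (AlgHom.id k A)
  obtain ⟨i2, hi2, hπi2⟩ : ∃ i2 : Afix, IsIdempotentElem i2 ∧ U0.π (i2 : A) = ibar := by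
    refine exists_isIdempotentElem_eq_of_ker_isNilpotent
      ((U0.π.comp Afix.val).toRingHom) (fun y hy => ?_) ibar ?_ (hπi1 ▸ hi1i.map U0.π)
    · obtain ⟨m, hm⟩ := U0.hker (y : A) hy
      exact ⟨m, Subtype.ext (by simpa using hm)⟩
    · set ybar := (orderOf g : k)⁻¹ • ∑ j ∈ Finset.range (orderOf g), (Γ ^ j) i1 with hybar
      have hyfix : Γ ybar = ybar := by
        rw [hybar, map_smul, map_sum]
        congr 1
        let Fj : ℕ → A := fun j => (Γ ^ j) i1
        show ∑ j ∈ _, Γ (Fj j) = ∑ j ∈ _, Fj j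
        rw [Finset.sum_congr rfl fun j _ => show Γ (Fj j) = Fj (j + 1) by
          show Γ ((Γ ^ j) i1) = (Γ ^ (j + 1)) i1
          rw [pow_succ', AlgHom.mul_apply]]
        refine add_right_cancel (b := Fj 0) ?_
        rw [← Finset.sum_range_succ', Finset.sum_range_succ]
        show _ + (Γ ^ orderOf g) i1 = _ + (Γ ^ 0) i1
        rw [hΓN, pow_zero]
        rfl
      refine ⟨⟨ybar, hyfix⟩, ?_⟩
      show U0.π ybar = ibar
      have hj : ∀ j : ℕ, U0.π ((Γ ^ j) i1) = ibar := fun j => by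
        induction j with
        | zero => simpa using hπi1
        | succ j ih => rw [pow_succ', AlgHom.mul_apply]; exact hπΓ _ ih
      rw [hybar, map_smul, map_sum, Finset.sum_congr rfl fun j _ => hj j, Finset.sum_const,
        Finset.card_range, ← Nat.cast_smul_eq_nsmul k, smul_smul, inv_mul_cancel₀ hgk, one_smul]
  have hi2' : (i2 : A) * i2 = i2 := congrArg Subtype.val hi2.eq
  have hΓi2 : Γ (i2 : A) = i2 := i2.2
  obtain ⟨W0, hW0⟩ : ∃ W0 : A, W0 = (i2 : A) * i1 + (1 - i2) * (1 - i1) := ⟨_, rfl⟩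
  have hW0π : U0.π W0 = 1 := by
    rw [hW0, map_add, map_mul, map_mul, map_sub, map_sub, map_one, hπi1, hπi2]
    have h2 : ibar * ibar = ibar := hπi1 ▸ (hi1i.map U0.π).eq
    rw [h2, sub_mul, one_mul, mul_sub, mul_one, h2, sub_self, sub_zero]
    abel
  obtain ⟨W, hW⟩ : IsUnit W0 := isUnit_of_map U0 (hW0π ▸ isUnit_one)
  have hWi : (W : A) * i1 * ↑W⁻¹ = i2 := by
    have h1 : W0 * i1 = (i2 : A) * W0 := by
      have e1 : (1 - i1) * i1 = 0 := by rw [sub_mul, one_mul, hi1i.eq, sub_self]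
      have e2 : (i2 : A) * (1 - i2) = 0 := by rw [mul_sub, mul_one, hi2', sub_self]
      have e3 : W0 * i1 = (i2 : A) * i1 := by
        rw [hW0, add_mul, mul_assoc, hi1i.eq, mul_assoc, e1, mul_zero, add_zero]
      have e4 : (i2 : A) * W0 = (i2 : A) * i1 := by
        rw [hW0, mul_add, ← mul_assoc, hi2', ← mul_assoc, e2, zero_mul, add_zero]
      rw [e3, e4]
    rw [hW, h1, ← hW, Units.mul_inv_cancel_right]
  let tot : Aˣ := W * w'
  let Ad : A ≃ₐ[k] A := AlgEquiv.ofAlgHom
    { toFun := fun a => tot * a * ↑tot⁻¹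
      map_one' := by simp
      map_mul' := fun a b => by simp [mul_assoc]
      map_zero' := by simp
      map_add' := fun a b => by simp [mul_add, add_mul]
      commutes' := fun r => by rw [← Algebra.commutes, mul_assoc, Units.mul_inv, mul_one] }
    { toFun := fun a => ↑tot⁻¹ * a * tot
      map_one' := by simp
      map_mul' := fun a b => by simp [mul_assoc]
      map_zero' := by simp
      map_add' := fun a b => by simp [mul_add, add_mul]
      commutes' := fun r => by rw [← Algebra.commutes, mul_assoc, Units.inv_mul, mul_one] }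
    (AlgHom.ext fun a => by simp [mul_assoc])
    (AlgHom.ext fun a => by simp [mul_assoc])
  let U := mapUnits U0 Ad
  have hUi : U.i = i2 := by
    show (tot : A) * U0.i * ↑tot⁻¹ = _
    rw [← hWi, hi1, ← hw']
    simp [tot, mul_assoc]
  obtain ⟨x0, hx0, hgen⟩ := exists_rad_gen U hD
  obtain ⟨σ, hσ, hσe⟩ := exists_sigma U.π (matUnits_surjective U) U.hker Γ hΓs he het het' hΓe
  have hπΓ0 : ∀ a, U.π a = 0 → U.π (Γ a) = 0 := fun a ha => by
    have h := hσ a
    rw [ha, mul_zero] at h
    have hu : IsUnit σ := by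
      have h1 : σ ^ orderOf g = 1 := by
        rw [hq, pow_mul, hσe, ← map_pow, ← map_pow,
          show ge ^ q = 1 from Subtype.ext (by
            show (g ^ e) ^ q = 1
            rw [← pow_mul, ← hq, pow_orderOf_eq_one]), map_one, map_one]
      exact IsUnit.of_pow_eq_one h1 hN0
    exact hu.mul_left_eq_zero.1 h.symm
  obtain ⟨q0, hq0, hΓx⟩ := hgen (Γ x0) (U.mem_rad.2 ⟨by
    rw [U.mem_corner, hUi]
    calc (i2 : A) * Γ x0 * i2 = Γ (i2 : A) * Γ x0 * Γ (i2 : A) := by rw [hΓi2]
      _ = Γ x0 := by rw [← map_mul, ← map_mul, ← hUi, U.mem_corner.1 (U.mem_rad.1 hx0).1], hπΓ0 _ (U.mem_rad.1 hx0).2⟩)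
  -- back in the group algebra
  choose sec0 hsec0 using proj_surjective hb
  let sec : A → MonoidAlgebra k C := fun a => idem hb * sec0 a
  have hsec : ∀ r, sec (proj hb r) = idem hb * r := fun r => by
    show idem hb * sec0 (proj hb r) = idem hb * r
    rw [← sub_eq_zero, ← mul_sub, ← proj_eq_zero_iff hb, map_sub, hsec0, sub_self]
  have hproj : ∀ a, proj hb (sec a) = a := fun a => by
    show proj hb (idem hb * sec0 a) = a
    rw [proj_idem_mul, hsec0]
  have hsmul : ∀ a b, sec (a * b) = sec a * sec b := fun a b => by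
    conv_lhs => rw [← hsec0 a, ← hsec0 b, ← map_mul, hsec]
    show idem hb * (sec0 a * sec0 b) = idem hb * sec0 a * (idem hb * sec0 b)
    rw [mul_assoc (idem hb) (sec0 a), ← mul_assoc (sec0 a) (idem hb), ← idem_comm hb (sec0 a),
      mul_assoc (idem hb) (sec0 a), ← mul_assoc (idem hb) (idem hb), idem_mul_self hb]
  have hsadd : ∀ a b, sec (a + b) = sec a + sec b := fun a b => by
    conv_lhs => rw [← hsec0 a, ← hsec0 b, ← map_add, hsec, mul_add]
  have hssmul : ∀ (c : k) a, sec (c • a) = c • sec a := fun c a => by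
    conv_lhs => rw [← hsec0 a, ← map_smul, hsec, mul_smul_comm]
  have hs1 : sec 1 = idem hb := by
    rw [← map_one (proj hb), hsec, mul_one]
  have hs0 : sec 0 = 0 := by rw [← map_zero (proj hb), hsec, mul_zero]
  have hssum : ∀ (s : Finset (Fin (U.n + 1))) (f : Fin (U.n + 1) → A),
      sec (∑ j ∈ s, f j) = ∑ j ∈ s, sec (f j) := fun s f => by
    induction s using Finset.induction_on with
    | empty => simpa using hs0
    | insert a s ha ih => rw [Finset.sum_insert ha, Finset.sum_insert ha, hsadd, ih]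
  have hsΓ : ∀ a, αC (sec a) = sec (Γ a) := fun a => by
    conv_rhs => rw [← hsec0 a, hΓ', hsec]
    show αC (idem hb * sec0 a) = _
    rw [map_mul, hid]
  clear_value sec
  have hadj : ∀ q ∈ Algebra.adjoin k ({x0} : Set A),
      ∃ q' ∈ Algebra.adjoin k ({sec x0} : Set (MonoidAlgebra k C)),
        proj hb q' = q := fun q hq => by
    have h : q ∈ (Algebra.adjoin k ({sec x0} : Set (MonoidAlgebra k C))).map (proj hb) := by
      rw [AlgHom.map_adjoin, Set.image_singleton, hproj]
      exact hq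
    exact Subalgebra.mem_map.1 h
  have hx0id : sec x0 * idem hb = sec x0 := by
    rw [← hs1, ← hsmul, mul_one]
  have hmulq : ∀ q ∈ Algebra.adjoin k ({x0} : Set A),
      ∃ q' ∈ Algebra.adjoin k ({sec x0} : Set (MonoidAlgebra k C)),
        sec (x0 * q) = sec x0 * q' := fun q hq => by
    obtain ⟨q', hq', hqe⟩ := hadj q hq
    refine ⟨q', hq', ?_⟩
    rw [hsmul, ← hqe, hsec, ← mul_assoc, hx0id]
  obtain ⟨c0, hc0, hc0e⟩ := hmulq q0 hq0
  let πC : C →* Matrix (Fin (U.n + 1)) (Fin (U.n + 1)) k := U.π.toMonoidHom.comp (elt hb)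
  have hlift : ∀ r, MonoidAlgebra.lift k _ C πC r = U.π (proj hb r) := fun r => by
    induction r using MonoidAlgebra.induction_linear with
    | zero => simp
    | add a b ha hb => simp [ha, hb]
    | single c a =>
      rw [MonoidAlgebra.lift_single, show single c a = a • single c (1 : k) by simp, map_smul,
        map_smul]
      rfl
  refine ⟨{
    n := U.n, e := e, g := g, gk := hgk, gC := hgC, pow_mem := hpow
    π := πC, σ := σ
    σ_conj := fun c => ?_
    σ_pow := fun j h => ?_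
    f := idem hb, i := sec U.i, x := sec x0, c0 := c0
    u := fun s => sec (U.u s), v := fun s => sec (U.v s)
    f_comm := idem_comm hb
    ff := idem_mul_self hb
    vu := fun s t => by rw [← hsmul, U.hvu]; split_ifs <;> simp [hs0]
    uv := by simp only [← hsmul, ← hssum, U.huv, hs1]
    ui := fun s => by rw [← hsmul, U.hui]
    iv := fun s => by rw [← hsmul, U.hiv]
    ii := by rw [← hsmul, U.hi.eq]
    fi := by rw [← hs1, ← hsmul, one_mul]
    ix := by rw [← hsmul, U.corner_mul_left (U.mem_rad.1 hx0).1]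
    xi := by rw [← hsmul, U.corner_mul_right (U.mem_rad.1 hx0).1]
    nilx := ?_
    hc0 := hc0
    corner := fun r s t => ?_
    πf := by rw [hlift, ← hs1, hproj, map_one]
    πi := by rw [hlift, hproj, U.hπi]
    πx := by rw [hlift, hproj, (U.mem_rad.1 hx0).2]
    αi := by
      show αC (sec U.i) = _
      rw [hsΓ, hUi, hΓi2]
    αf := hid
    αx := by
      show αC (sec x0) = _
      rw [hsΓ, hΓx, hc0e] }, rfl, rfl, rfl, ?_⟩
  · show σ * U.π (elt hb c) = U.π (elt hb _) * σ
    rw [hσ, elt_apply, hΓ', hαC, cAlg_single]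
    rfl
  · obtain ⟨i, rfl⟩ := (hpow j).1 h
    show U.π (elt hb _) = _
    rw [pow_mul σ, hσe, ← map_pow, ← map_pow]
    congr 2
    exact Subtype.ext (pow_mul g e i)
  · obtain ⟨m, hm⟩ := U.hker _ (U.mem_rad.1 hx0).2
    refine ⟨m + 1, ?_⟩
    have hp : ∀ i : ℕ, sec x0 ^ (i + 1) = sec (x0 ^ (i + 1)) := fun i => by
      induction i with
      | zero => simp
      | succ i ih => rw [pow_succ, ih, ← hsmul, ← pow_succ]
    rw [hp, pow_succ, hm, zero_mul, hs0]
  · have hcor : sec (U.v s) * r * sec (U.u t) = sec (U.v s * proj hb r * U.u t) := by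
      have hvf : sec (U.v s) * idem hb = sec (U.v s) := by rw [← hs1, ← hsmul, mul_one]
      rw [hsmul, hsmul, hsec, ← mul_assoc, hvf]
    have hmem := U.units_mem (proj hb r) s t
    obtain ⟨q1, hq1, hw1⟩ := hgen _ (U.sub_mem_rad hmem)
    obtain ⟨q', hq', hq'e⟩ := hmulq q1 hq1
    refine ⟨U.π (U.v s * proj hb r * U.u t) 0 0, q', hq', ?_⟩
    rw [hcor, ← hssmul, ← hq'e, ← hsadd, ← hw1, add_sub_cancel]
  · intro X
    obtain ⟨a, ha⟩ := matUnits_surjective U X
    refine ⟨sec a, ?_⟩
    show MonoidAlgebra.lift k _ C πC (sec a) = X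
    rw [hlift, hproj, ha]

end Cfsg.Agent.Lib.CyclicDefect
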