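import Mathlib
import Cfsg.Agent.Lib.BrauerPairs.CyclicInertia
import Cfsg.Agent.Lib.FreeInertia.Count

/-!
# The inertial quotient of a block with cyclic defect group is cyclic of order dividing `p - 1`
-/

set_option autoImplicit false

namespace Cfsg.Agent.Lib.CyclicDefect

open Cfsg
open Cfsg.Agent.Lib
open Cfsg.Agent.Lib.BrauerPairs

universe u

variable {G : Type u} [Group G] [Finite G] {p : ℕ} [Fact p.Prime] {M : Ideal AlgInt} [M.IsPrime]
  {B : Set (IrrCharacter G)} {b : BrauerPairIdx G}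

/-- A generator of the inertial quotient, of order prime to `p`. -/
theorem exists_stab_gen (hM : IsPModular p M) (hmax : IsMaximalBrauerPair p M B b.1 b.2)
    (hcyc : IsCyclic b.1) {z : G} (hz : z ∈ b.1) (hzp : orderOf z = p) :
    ∃ g ∈ pairStab hmax.1.1.2, ¬ p ∣ orderOf g ∧
      (∀ j : ℕ, g ^ j ∈ Subgroup.centralizer (b.1 : Set G) ↔
        (Subgroup.centralizer (b.1 : Set G)).relIndex (pairStab hmax.1.1.2) ∣ j) ∧
      (Subgroup.centralizer (b.1 : Set G)).relIndex (pairStab hmax.1.1.2) ∣ p - 1 ∧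
      ∀ y ∈ pairStab hmax.1.1.2,
        ∃ c ∈ Subgroup.centralizer (b.1 : Set G), ∃ j : ℕ, y = c * g ^ j := by
  classical
  set T := pairStab hmax.1.1.2
  set D := Subgroup.centralizer (b.1 : Set G)
  have hDT : D ≤ T := le_trans le_sup_right (core_le_pairStab hmax.1.1.2)
  have hpow : ∀ y : T, ∃ m : ℕ, (y : G) * z * (y : G)⁻¹ = z ^ m := fun y => by
    obtain ⟨m, hm⟩ := CyclicInertia.exists_conj_pow hcyc ((mem_pairStab_iff _).1 y.2).1
    exact ⟨m, hm z hz⟩
  choose m hm using hpow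
  have hmeq : ∀ {a c : ℕ}, z ^ a = z ^ c → (a : ZMod p) = (c : ZMod p) := fun {a c} h => by
    rw [pow_eq_pow_iff_modEq, hzp] at h
    exact (ZMod.natCast_eq_natCast_iff a c p).2 h
  let ψ0 : T →* ZMod p :=
    { toFun := fun y => (m y : ZMod p)
      map_one' := by
        rw [← Nat.cast_one]
        exact hmeq (by rw [← hm]; simp)
      map_mul' := fun a c => by
        rw [← Nat.cast_mul]
        refine hmeq ?_
        rw [← hm, pow_mul, ← hm a, conj_pow, ← hm c, Subgroup.coe_mul]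
        group }
  set ψ := ψ0.toHomUnits with hψ
  have hψv : ∀ y : T, ((ψ y : (ZMod p)ˣ) : ZMod p) = (m y : ZMod p) := fun y => rfl
  have hker : ∀ y : T, ψ y = 1 ↔ (y : G) ∈ D := fun y => by
    constructor
    · intro h
      have h1 : (m y : ZMod p) = ((1 : ℕ) : ZMod p) := by
        rw [← hψv, h, Units.val_one, Nat.cast_one]
      have h2 : z ^ m y = z ^ 1 := by
        rw [pow_eq_pow_iff_modEq, hzp]
        exact (ZMod.natCast_eq_natCast_iff _ _ p).1 h1
      rw [pow_one] at h2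
      refine CyclicInertia.mem_centralizer_of_stab hM hmax hcyc (Subgroup.zpowers_le.2 hz)
        (Subgroup.zpowers_ne_bot.2 fun h => ?_) y.2 ?_
      · rw [h, orderOf_one] at hzp
        exact (Fact.out : p.Prime).ne_one hzp.symm
      · rw [centralizer_zpowers, Subgroup.mem_centralizer_singleton_iff, ← mul_inv_eq_iff_eq_mul, hm,
          h2]
    · intro h
      refine Units.ext ?_
      rw [hψv, Units.val_one, ← Nat.cast_one]
      refine hmeq ?_
      rw [← hm, pow_one, ← Subgroup.mem_centralizer_iff.1 h z hz, mul_inv_cancel_right]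
  have hindex : D.relIndex T = Nat.card ψ.range := by
    rw [Subgroup.relIndex, show D.subgroupOf T = ψ.ker from
      Subgroup.ext fun y => Subgroup.mem_subgroupOf.trans (hker y).symm, Subgroup.index_ker]
  obtain ⟨w0, hw0⟩ := IsCyclic.exists_generator (α := ψ.range)
  obtain ⟨g0, hg0⟩ := w0.2
  obtain ⟨v, m', hm', hN⟩ := Nat.exists_eq_pow_mul_and_not_dvd (orderOf_pos g0).ne' p
    (Fact.out : p.Prime).ne_one
  set g := g0 ^ p ^ v with hg
  have hdvd : D.relIndex T ∣ p - 1 := by
    rw [hindex, ← ZMod.card_units p, ← Nat.card_eq_fintype_card]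
    exact Subgroup.card_subgroup_dvd_card _
  have hgo : orderOf g = m' := by
    rw [hg, orderOf_pow' _ (pow_ne_zero _ (Fact.out : p.Prime).ne_zero), hN,
      Nat.gcd_eq_right (dvd_mul_right _ _), Nat.mul_div_cancel_left _ (pow_pos (Fact.out : p.Prime).pos v)]
  have hw0o : orderOf (ψ g0) = D.relIndex T := by
    rw [hindex, ← orderOf_eq_card_of_forall_mem_zpowers hw0, hg0, Subgroup.orderOf_coe]
  have hco : (D.relIndex T).Coprime (p ^ v) := by
    refine Nat.Coprime.pow_right v (((Fact.out : p.Prime).coprime_iff_not_dvd.2 fun h => ?_).symm)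
    have h2 := (Fact.out : p.Prime).two_le
    have := Nat.le_of_dvd (by omega) (h.trans hdvd)
    omega
  have hψg : orderOf (ψ g) = D.relIndex T := by
    rw [hg, map_pow, (show (orderOf (ψ g0)).Coprime (p ^ v) from hw0o ▸ hco).orderOf_pow, hw0o]
  refine ⟨g, g.2, ?_, fun j => ?_, hdvd, fun y hy => ?_⟩
  · rw [Subgroup.orderOf_coe, hgo]
    exact hm'
  · rw [← hψg, orderOf_dvd_iff_pow_eq_one, ← map_pow, hker]
    rfl
  · have hy' : ψ ⟨y, hy⟩ ∈ Subgroup.zpowers (ψ g) := by
      have h1 : ψ ⟨y, hy⟩ ∈ Subgroup.zpowers (ψ g0) := by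
        obtain ⟨i, hi⟩ := Subgroup.mem_zpowers_iff.1 (hw0 ⟨ψ ⟨y, hy⟩, ⟨y, hy⟩, rfl⟩)
        refine ⟨i, ?_⟩
        have := congrArg Subtype.val hi
        simpa [← hg0] using this
      have hle : Subgroup.zpowers (ψ g) = Subgroup.zpowers (ψ g0) := by
        refine Subgroup.eq_of_le_of_card_ge (Subgroup.zpowers_le.2 ?_) ?_
        · rw [hg, map_pow]
          exact pow_mem (Subgroup.mem_zpowers _) _
        · rw [Nat.card_zpowers, Nat.card_zpowers, hψg, hw0o]
      rwa [hle]
    obtain ⟨j, hj⟩ := mem_powers_iff_mem_zpowers.2 hy'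
    refine ⟨y * ((g : G) ^ j)⁻¹, ?_, j, by rw [inv_mul_cancel_right]⟩
    have := (hker (⟨y, hy⟩ * (g ^ j)⁻¹)).1 (by
      rw [map_mul, map_inv, map_pow]
      exact mul_inv_eq_one.2 hj.symm)
    simpa using this

end Cfsg.Agent.Lib.CyclicDefect
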