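import Mathlib
import Cfsg.Agent.Lib.BlockAlg.Block
import Cfsg.Agent.Lib.BrauerMap.Pairs
import Cfsg.Agent.Lib.BrauerPairs.Fixed
import Cfsg.Agent.Lib.CyclicDefect.Frame

/-!
# The idempotent of a Brauer pair in the group algebra over the residue field
-/

set_option autoImplicit false

namespace Cfsg.Agent.Lib.CyclicDefect

open Cfsg MonoidAlgebra
open Cfsg.Agent.Lib
open Cfsg.Agent.Lib.BrauerPairs
open Cfsg.Agent.Lib.Blocks (Residue residue toF localRing RCenter omegaBar blockIdem)
open Cfsg.Agent.Lib.BlockAlg (idem idem_comm idem_mul_self)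
open Cfsg.Agent.Lib.BrauerMap (blockG brHom trunc core fixedRing)

universe u

variable {G : Type u} [Group G] [Fintype G] {p : ℕ} [Fact p.Prime] {M : Ideal AlgInt} [M.IsPrime]

attribute [local instance] Classical.propDecidable

/-- The idempotent of the pair absorbs the restriction of the idempotent of its block. -/
theorem idem_mul_restrict (hM : IsPModular p M) {B : Set (IrrCharacter G)} (hB : IsPBlock M B)
    {Q : Subgroup G} {f : Set (IrrCharacter (Subgroup.centralizer (Q : Set G)))}
    [Fintype (Subgroup.centralizer (Q : Set G))] (ha : IsBrauerPairOf p M B Q f) :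
    idem ha.1.2 * (∑ c : Subgroup.centralizer (Q : Set G), single c ((idem hB).coeff (c : G))) =
      idem ha.1.2 := by
  classical
  set eR : MonoidAlgebra (localRing M) G := ((blockIdem M hB : RCenter M G) : MonoidAlgebra (localRing M) G)
  have hfix : ∀ S : Subgroup G, eR ∈ fixedRing M S := fun S =>
    BrauerMap.center_le_fixedRing S (blockIdem M hB).2
  let t : RCenter M (Subgroup.centralizer (Q : Set G)) := ⟨trunc Q eR, BrauerMap.trunc_mem_center (hfix (core Q))⟩
  have ht : toF M (Subgroup.centralizer (Q : Set G)) (trunc Q eR) =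
      ∑ c : (Subgroup.centralizer (Q : Set G)), single c ((idem hB).coeff (c : G)) := by
    ext x
    simp only [coeff_sum, Finsupp.coe_finsetSum, Finset.sum_apply]
    rw [Finset.sum_eq_single x (fun c _ hc => by simp [Finsupp.single_apply, hc])
      (fun h => absurd (Finset.mem_univ _) h)]
    simp [eR, idem, BrauerMap.coeff_trunc]
  rw [← ht]
  set T : MonoidAlgebra (Residue M) (Subgroup.centralizer (Q : Set G)) := toF M (Subgroup.centralizer (Q : Set G)) (trunc Q eR)
  have hTT : T * T = T := by
    have h := BrauerMap.toF_trunc_mul hM ha.1.1 (hfix Q) (hfix Q)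
    rw [map_mul] at h
    rw [← h, show eR * eR = eR from congrArg Subtype.val (Blocks.blockIdem_mul_self hB)]
  set e := idem ha.1.2 with he
  have hnil : IsNilpotent (e * (T - 1)) := by
    have h := BrauerMap.isNilpotent_toF_mul_sub (blockIdem M ha.1.2) t 1 fun ψ hψ => by
      rw [Blocks.omegaBar_blockIdem] at hψ
      have hψf : ψ ∈ f := by
        by_contra h'
        rw [if_neg h'] at hψ
        exact hψ rfl
      have h1 := (BrauerMap.brHom_blockIdem_eq_one_iff hM ha.1.1 hB ψ).1 (ha.2.2 ψ hψf)
      rw [BrauerMap.brHom_apply] at h1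
      rw [map_one]
      exact h1
    rw [map_one, MulMemClass.coe_mul, map_mul, AddSubgroupClass.coe_sub, map_sub, OneMemClass.coe_one,
      map_one] at h
    exact h
  have hidem : (e * (T - 1)) * (e * (T - 1)) = -(e * (T - 1)) := by
    calc (e * (T - 1)) * (e * (T - 1)) = e * ((T - 1) * e) * (T - 1) := by simp only [mul_assoc]
      _ = e * e * ((T - 1) * (T - 1)) := by rw [← idem_comm ha.1.2 (T - 1)]; simp only [← he, mul_assoc]
      _ = e * -(T - 1) := by
          rw [idem_mul_self, mul_sub (T - 1), mul_one, sub_mul, one_mul, hTT, sub_self, zero_sub]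
      _ = _ := mul_neg _ _
  obtain ⟨n, hn⟩ := hnil.neg
  have hi : IsIdempotentElem (-(e * (T - 1))) := by
    show _ * _ = _
    rw [neg_mul_neg, hidem]
  have h0 : -(e * (T - 1)) = 0 := by
    rcases Nat.eq_zero_or_pos n with h | h
    · rw [h, pow_zero] at hn
      calc -(e * (T - 1)) = 1 * -(e * (T - 1)) := (one_mul _).symm
        _ = 0 := by rw [hn, zero_mul]
    · obtain ⟨n', rfl⟩ : ∃ n', n = n' + 1 := ⟨n - 1, by omega⟩
      rw [hi.pow_succ_eq] at hn
      exact hn
  rw [neg_eq_zero, mul_sub, mul_one, sub_eq_zero] at h0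
  exact h0

/-- The idempotent of a pair in the group algebra of the whole group. -/
theorem mapDomain_idem {Q : Subgroup G} {f : Set (IrrCharacter (Subgroup.centralizer (Q : Set G)))}
    [Fintype (Subgroup.centralizer (Q : Set G))] (hf : IsPBlock M f) :
    mapDomainAlgHom (Residue M) (Residue M) (Subgroup.centralizer (Q : Set G)).subtype (idem hf) =
      toF M G (blockG hf) := by
  rw [blockG, BrauerMap.toF_emb]
  rfl

/-- Conjugates outside the stabiliser are orthogonal. -/
theorem idem_conj_ortho {Q : Subgroup G}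
    {f : Set (IrrCharacter (Subgroup.centralizer (Q : Set G)))}
    [Fintype (Subgroup.centralizer (Q : Set G))] (hf : IsPBlock M f) {g : G}
    (hgN : g ∈ Subgroup.normalizer (Q : Set G)) (hg : g ∉ pairStab (a := ⟨Q, f⟩) hf) :
    mapDomainAlgHom (Residue M) (Residue M) (Subgroup.centralizer (Q : Set G)).subtype (idem hf) *
      (single g 1 *
        mapDomainAlgHom (Residue M) (Residue M) (Subgroup.centralizer (Q : Set G)).subtype (idem hf) *
        single g⁻¹ 1) = 0 := by
  classical
  rw [mapDomain_idem]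
  set a : BrauerPairIdx G := ⟨Q, f⟩
  obtain ⟨f', hf'⟩ : ∃ f', conjPair g a = ⟨Q, f'⟩ := by
    have h1 : (conjPair g a).1 = Q := map_conj_eq_iff_mem_normalizer.2 hgN
    generalize conjPair g a = a' at h1 ⊢
    obtain ⟨Q', f'⟩ := a'
    subst h1
    exact ⟨f', rfl⟩
  have hb' : IsPBlock M f' := by
    have := isPBlock_conjPair (a := a) hf g
    rw [hf'] at this
    exact this
  have hconj : single g 1 * toF M G (blockG hf) * single g⁻¹ 1 = toF M G (blockG hb') := by
    have h1 := idemG_eq_blockG (a := a) hf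
    have h2 := idemG_eq_blockG (a := (⟨Q, f'⟩ : BrauerPairIdx G)) hb'
    ext y
    rw [coeff_mul_single_apply, coeff_single_mul_apply, one_mul, mul_one, inv_inv]
    simp only [coeff_mapRingHom]
    congr 1
    rw [← h1, ← h2, ← hf', coeff_idemG_conjPair (a := a) hf]
    simp [mul_assoc]
  rw [hconj, ← map_mul, BrauerMap.blockG_mul_eq_zero hf hb' ?_, map_zero]
  intro he
  subst he
  exact hg ((mem_pairStab (a := a) hf).2 hf')

/-- An element stabilising the pair fixes its idempotent. -/
theorem cAlg_idem {Q : Subgroup G} {f : Set (IrrCharacter (Subgroup.centralizer (Q : Set G)))}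
    [Fintype (Subgroup.centralizer (Q : Set G))] (hf : IsPBlock M f) {g : G}
    (hgC : ∀ c ∈ Subgroup.centralizer (Q : Set G), g * c * g⁻¹ ∈ Subgroup.centralizer (Q : Set G))
    (hg : g ∈ pairStab (a := ⟨Q, f⟩) hf) :
    cAlg (Residue M) (Subgroup.centralizer (Q : Set G)) g hgC (idem hf) = idem hf := by
  classical
  have hinj : Function.Injective fun c : (Subgroup.centralizer (Q : Set G)) => (⟨g * c * g⁻¹, hgC c c.2⟩ : (Subgroup.centralizer (Q : Set G))) := fun a b h =>
    Subtype.ext (mul_left_cancel (mul_right_cancel (congrArg Subtype.val h)))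
  have hc : ∀ (r : MonoidAlgebra (Residue M) (Subgroup.centralizer (Q : Set G))) (c : (Subgroup.centralizer (Q : Set G))),
      (cAlg (Residue M) (Subgroup.centralizer (Q : Set G)) g hgC r).coeff ⟨g * c * g⁻¹, hgC c c.2⟩ = r.coeff c := fun r c => by
    induction r using MonoidAlgebra.induction_linear with
    | zero => simp
    | add a b ha hb => simp [ha, hb]
    | single d a =>
      rw [cAlg_single]
      simp only [coeff_single, Finsupp.single_apply]
      exact if_congr ⟨fun h => hinj h, fun h => by subst h; rfl⟩ rfl rfl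
  ext y
  obtain ⟨c, rfl⟩ := (Finite.injective_iff_surjective.1 hinj) y
  rw [hc]
  simp only [idem, coeff_mapRingHom]
  refine congrArg (residue M) (Subtype.ext ?_)
  rw [Blocks.coe_coeff_blockIdem, Blocks.coe_coeff_blockIdem]
  have h0 : g ∈ Subgroup.normalizer (Q : Set G) ∧
      ∀ y, coeffFun (⟨Q, f⟩ : BrauerPairIdx G) (g⁻¹ * y * g) = coeffFun ⟨Q, f⟩ y :=
    (mem_pairStab_iff _).1 hg
  have h := h0.2 (g * (c : G) * g⁻¹)
  rw [show g⁻¹ * (g * (c : G) * g⁻¹) * g = (c : G) by group] at h
  calc blockCoeff f c = coeffFun ⟨Q, f⟩ (c : G) :=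
        (BrauerMap.subgroupBlockCoeff_of_mem (Subgroup.centralizer (Q : Set G)) f c).symm
    _ = coeffFun ⟨Q, f⟩ (g * (c : G) * g⁻¹) := h
    _ = _ := BrauerMap.subgroupBlockCoeff_of_mem (Subgroup.centralizer (Q : Set G)) f ⟨g * c * g⁻¹, hgC c c.2⟩

end Cfsg.Agent.Lib.CyclicDefect
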