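import Mathlib
import Cfsg.Agent.Lib.CyclicDefect.Frame
import Cfsg.Agent.Lib.CyclicDefect.Maps
import Cfsg.Agent.Lib.CyclicDefect.Serial

/-!
# A representation with one endomorphism up to traces sees only one twist
-/

set_option autoImplicit false

namespace Cfsg.Agent.Lib.CyclicDefect

open MonoidAlgebra

universe u v w

namespace Frame

variable {k : Type v} [Field k] {G : Type u} [Group G] {C : Subgroup G} (F : Frame k C)
  {U : Type w} [AddCommGroup U] [Module k U] (ρ : G →* Module.End k U)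

/-- The group algebra of `C` acting through `ρ`. -/
noncomputable abbrev θ : MonoidAlgebra k C →ₐ[k] Module.End k U :=
  MonoidAlgebra.lift k _ C (ρ.comp C.subtype)

theorem g_θ (r : MonoidAlgebra k C) : ρ F.g * θ ρ r = θ ρ (F.α r) * ρ F.g := by
  induction r using MonoidAlgebra.induction_linear with
  | zero => simp
  | add a b ha hb => simp only [map_add, mul_add, add_mul, ha, hb]
  | single c a =>
    simp only [θ, α, cAlg_single, MonoidAlgebra.lift_single, mul_smul_comm, smul_mul_assoc,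
      MonoidHom.comp_apply, Subgroup.coe_subtype, ← map_mul]
    congr 2
    simp [mul_assoc]

theorem commute_θ {q : Module.End k U} (hq : ∀ c ∈ C, ρ c * q = q * ρ c) (r : MonoidAlgebra k C) :
    θ ρ r * q = q * θ ρ r := by
  induction r using MonoidAlgebra.induction_linear with
  | zero => simp
  | add a b ha hb => simp only [map_add, mul_add, add_mul, ha, hb]
  | single c a =>
    simp only [θ, MonoidAlgebra.lift_single, mul_smul_comm, smul_mul_assoc, MonoidHom.comp_apply,
      Subgroup.coe_subtype, hq c c.2]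

theorem u_eq_mul (s : Fin (F.n + 1)) : F.f * F.u s = F.u s := by
  rw [← F.uv, Finset.sum_mul, Finset.sum_eq_single s]
  · rw [mul_assoc, F.vu, if_pos rfl, F.ui]
  · intro t _ ht
    rw [mul_assoc, F.vu, if_neg ht, mul_zero]
  · exact fun h => absurd (Finset.mem_univ _) h

theorem v_eq_mul (s : Fin (F.n + 1)) : F.v s * F.f = F.v s := by
  rw [← F.uv, Finset.mul_sum, Finset.sum_eq_single s]
  · rw [← mul_assoc, F.vu, if_pos rfl, F.iv]
  · intro t _ ht
    rw [← mul_assoc, F.vu, if_neg (Ne.symm ht), zero_mul]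
  · exact fun h => absurd (Finset.mem_univ _) h

variable {I : Subgroup G} [Fintype I]

section

variable (hCI : C ≤ I) (hgI : F.g ∈ I) (hI : ∀ h ∈ I, ∃ c ∈ C, ∃ j : ℕ, h = c * F.g ^ j)
  {ρ} {ζ : k} (hζ : ζ ^ F.e = 1) {π : U →ₗ[k] (Fin (F.n + 1) → k)}
  (hπ : IsEquivariant I ρ (F.twistEnd hI ζ hζ) π)

include hπ hCI in
theorem equiv_θ (r : MonoidAlgebra k C) (w : U) :
    π (θ ρ r w) = Matrix.toLinAlgEquiv' (F.P r) (π w) := by
  induction r using MonoidAlgebra.induction_linear with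
  | zero => simp
  | add a b ha hb => simp only [map_add, LinearMap.add_apply, ha, hb]
  | single c a =>
    simp only [θ, P, MonoidAlgebra.lift_single, LinearMap.smul_apply, map_smul]
    congr 1
    have h := LinearMap.congr_fun (hπ ⟨c, hCI c.2⟩) w
    simp only [twistEnd, MonoidHom.comp_apply] at h
    rw [F.twist_mem hI hζ c (hCI c.2)] at h
    exact h

include hπ hCI hgI in
/-- The eigenvalue of a vector seen by an equivariant map. -/
theorem eigen_eq {y : U} {z0 : k} (hiy : θ ρ F.i y = y) (hgy : ρ F.g y = z0 • y) (hy : π y ≠ 0) :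
    ζ * F.σ 0 0 = z0 := by
  have h1 : π y = fun t => if t = 0 then π y 0 else 0 := by
    have h := F.equiv_θ hCI hI hζ hπ F.i y
    rw [hiy, show F.P F.i = _ from F.πi] at h
    funext t
    by_cases ht : t = 0
    · rw [if_pos ht, ht]
    · rw [if_neg ht, h]
      simp [Matrix.toLinAlgEquiv'_apply, Matrix.mulVec, dotProduct, Matrix.single_apply, Ne.symm ht]
  have hy0 : π y 0 ≠ 0 := fun h0 => hy (h1.trans (funext fun t => by simp [h0]))
  have h2 := congrFun (LinearMap.congr_fun (hπ ⟨F.g, hgI⟩) y) 0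
  simp only [LinearMap.comp_apply, twistEnd, MonoidHom.comp_apply] at h2
  rw [F.twist_g hI hζ hgI, hgy, map_smul] at h2
  change z0 * π y 0 = (Matrix.toLinAlgEquiv' (ζ • F.σ) (π y)) 0 at h2
  rw [h1, Matrix.toLinAlgEquiv'_apply, Matrix.mulVec, dotProduct, Finset.sum_eq_single 0] at h2
  · simp only [Matrix.smul_apply, smul_eq_mul, if_true] at h2
    exact mul_right_cancel₀ hy0 h2.symm
  · intro t _ ht
    simp [ht]
  · simp

end

variable [IsAlgClosed k] [FiniteDimensional k U] (hCI : C ≤ I) (hgI : F.g ∈ I)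
  (hI : ∀ h ∈ I, ∃ c ∈ C, ∃ j : ℕ, h = c * F.g ^ j)

include hCI hgI hI in
set_option maxHeartbeats 1600000 in
/-- The induction over the idempotents whose endomorphisms are scalar up to traces. -/
theorem exists_eigen (q : Module.End k U) (hqq : q * q = q)
    (hqI : ∀ h ∈ I, ρ h * q = q * ρ h) (hfq : θ ρ F.f * q = q)
    (hS : ∀ φ : Module.End k U, (∀ h ∈ I, ρ h * φ = φ * ρ h) → q * φ * q = φ →
      ∃ c : k, IsNull ρ I (φ - c • q)) :
    ∃ z0 : k, ∀ (ζ : k) (hζ : ζ ^ F.e = 1) (π : U →ₗ[k] (Fin (F.n + 1) → k)),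
      IsEquivariant I ρ (F.twistEnd hI ζ hζ) π → ¬ IsNullMap I ρ (F.twistEnd hI ζ hζ) (π ∘ₗ q) →
        ζ * F.σ 0 0 = z0 := by
  induction hn : Module.finrank k (LinearMap.range q) using Nat.strong_induction_on generalizing q with
  | _ N ih =>
  by_cases hq0 : q = 0
  · refine ⟨0, fun ζ hζ π _ hne => absurd ?_ hne⟩
    rw [hq0, LinearMap.comp_zero]
    exact IsNullMap.zero
  set Θ := θ ρ with hΘ
  have hqC : ∀ r, Θ r * q = q * Θ r := fun r => commute_θ ρ (fun c hc => hqI c (hCI hc)) r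
  have hqg : ρ F.g * q = q * ρ F.g := hqI F.g hgI
  have hgΘ : ∀ r, ρ F.g * Θ r = Θ (F.α r) * ρ F.g := F.g_θ ρ
  set E := Θ F.i * q with hE
  have hEE : E * E = E := by
    rw [hE, mul_assoc, ← mul_assoc q, ← hqC, mul_assoc (Θ F.i) q q, hqq, ← mul_assoc, ← map_mul,
      F.ii]
  have hxE : Θ F.x * E = E * Θ F.x := by
    rw [hE, ← mul_assoc, ← map_mul, F.xi, mul_assoc, ← hqC, ← mul_assoc, ← map_mul, F.ix]
  have hgE : ρ F.g * E = E * ρ F.g := by
    rw [hE, ← mul_assoc, hgΘ, show F.α F.i = F.i from F.αi, mul_assoc, hqg, ← mul_assoc]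
  set W := LinearMap.range E with hW
  have hEW : ∀ w ∈ W, E w = w := by
    rintro _ ⟨v, rfl⟩
    exact LinearMap.congr_fun hEE v
  have hstab : ∀ A : Module.End k U, A * E = E * A → ∀ w ∈ W, A w ∈ W := fun A hA w hw =>
    ⟨A w, by rw [← Module.End.mul_apply, ← hA, Module.End.mul_apply, hEW w hw]⟩
  set xW : Module.End k W := (Θ F.x).restrict (hstab _ hxE) with hxW
  set gW : Module.End k W := (ρ F.g).restrict (hstab _ hgE) with hgW
  have hadj : ∀ a ∈ Algebra.adjoin k ({F.x} : Set (MonoidAlgebra k C)),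
      ∃ a' ∈ Algebra.adjoin k ({xW} : Set (Module.End k W)), ∀ w : W, Θ a w = a' w := fun a ha => by
    induction ha using Algebra.adjoin_induction with
    | mem a ha =>
      rw [Set.mem_singleton_iff.1 ha]
      exact ⟨xW, Algebra.subset_adjoin (Set.mem_singleton _), fun w => rfl⟩
    | algebraMap r => exact ⟨algebraMap k _ r, Subalgebra.algebraMap_mem _ r, fun w => by rw [AlgHom.commutes]; simp⟩
    | add a b _ _ h h' =>
      obtain ⟨a', ha', hae⟩ := h
      obtain ⟨b', hb', hbe⟩ := h'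
      exact ⟨a' + b', add_mem ha' hb', fun w => by simp [hae, hbe]⟩
    | mul a b _ _ h h' =>
      obtain ⟨a', ha', hae⟩ := h
      obtain ⟨b', hb', hbe⟩ := h'
      exact ⟨a' * b', mul_mem ha' hb', fun w => by
        rw [map_mul, Module.End.mul_apply, hbe, hae]
        rfl⟩
  obtain ⟨c', hc', hc'e⟩ := hadj F.c0 F.hc0
  have hgx : gW * xW = xW * c' * gW := LinearMap.ext fun w => Subtype.ext <| by
    show ρ F.g (Θ F.x w) = Θ F.x (c' (gW w) : W)
    rw [← hc'e, ← Module.End.mul_apply, hgΘ, show F.α F.x = _ from F.αx, map_mul,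
      Module.End.mul_apply, Module.End.mul_apply]
    rfl
  have hgpow : ∀ (m : ℕ) (w : W), ((gW ^ m) w : U) = ρ (F.g ^ m) w := fun m => by
    induction m with
    | zero => simp
    | succ m ih' =>
      intro w
      rw [pow_succ', pow_succ' F.g, map_mul, Module.End.mul_apply, Module.End.mul_apply, ← ih']
      rfl
  have hgN : gW ^ orderOf F.g = 1 := LinearMap.ext fun w => Subtype.ext <| by
    rw [hgpow, pow_orderOf_eq_one, map_one]
    rfl
  have hxnil : IsNilpotent xW := by
    obtain ⟨m, hm⟩ := F.nilx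
    refine ⟨m, LinearMap.ext fun w => Subtype.ext ?_⟩
    have hpow : ∀ (i : ℕ) (w : W), ((xW ^ i) w : U) = Θ (F.x ^ i) w := fun i => by
      induction i with
      | zero => simp
      | succ i ih' =>
        intro w
        rw [pow_succ', pow_succ' F.x, map_mul, Module.End.mul_apply, Module.End.mul_apply, ← ih']
        rfl
    rw [hpow, hm, map_zero]
    rfl
  haveI : Nontrivial W := by
    refine Submodule.nontrivial_iff_ne_bot.2 fun hbot => hq0 ?_
    have hE0 : E = 0 := LinearMap.range_eq_bot.1 hbot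
    have h1 : ∀ s, Θ (F.v s) * q = 0 := fun s => by
      rw [← F.iv s, map_mul, mul_assoc, hqC, ← mul_assoc]
      rw [show Θ F.i * q = 0 from hE0, zero_mul]
    rw [← hfq, ← F.uv, map_sum, Finset.sum_mul]
    exact Finset.sum_eq_zero fun s _ => by rw [map_mul, mul_assoc, h1, mul_zero]
  obtain ⟨ε, z0, y, hεε, hεy, hy0, hεx, hεg, hgy, hεim⟩ :=
    exists_summand F.gk hgN hxnil hc' hgx
  set E' : Module.End k U :=
    W.subtype ∘ₗ ε ∘ₗ E.codRestrict W (fun v => LinearMap.mem_range_self E v) with hE'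
  have hE'a : ∀ v, E' v = (ε ⟨E v, LinearMap.mem_range_self E v⟩ : W) := fun v => rfl
  have hEE' : E * E' = E' := LinearMap.ext fun v => by
    rw [Module.End.mul_apply, hE'a]
    exact hEW _ (Subtype.coe_prop _)
  have hE'E : E' * E = E' := LinearMap.ext fun v => by
    rw [Module.End.mul_apply, hE'a, hE'a]
    exact congrArg _ (congrArg ε (Subtype.ext (hEW _ (LinearMap.mem_range_self E v))))
  have hcom : ∀ (A : Module.End k U) (hA : A * E = E * A),
      ε * A.restrict (hstab A hA) = A.restrict (hstab A hA) * ε → A * E' = E' * A := by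
    intro A hA hAε
    refine LinearMap.ext fun v => ?_
    rw [Module.End.mul_apply, Module.End.mul_apply, hE'a, hE'a]
    have h := congrArg Subtype.val (LinearMap.congr_fun hAε ⟨E v, LinearMap.mem_range_self E v⟩)
    change ((ε (A.restrict (hstab A hA) ⟨E v, _⟩) : W) : U) = A ((ε ⟨E v, _⟩ : W) : U) at h
    refine Eq.trans h.symm ?_
    refine congrArg Subtype.val (congrArg ε (Subtype.ext ?_))
    exact LinearMap.congr_fun hA v
  have hxE' : Θ F.x * E' = E' * Θ F.x := hcom _ hxE hεx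
  have hgE' : ρ F.g * E' = E' * ρ F.g := hcom _ hgE hεg
  have hiE : Θ F.i * E = E := by rw [hE, ← mul_assoc, ← map_mul, F.ii]
  have hEi : E * Θ F.i = E := by rw [hE, mul_assoc, ← hqC, ← mul_assoc, ← map_mul, F.ii]
  have hiE' : Θ F.i * E' = E' := by rw [← hEE', ← mul_assoc, hiE]
  have hE'i : E' * Θ F.i = E' := by rw [← hE'E, mul_assoc, hEi]
  have hqE : q * E = E := by rw [hE, ← mul_assoc, ← hqC, mul_assoc, hqq]
  have hEq : E * q = E := by rw [hE, mul_assoc, hqq]
  have hqE' : q * E' = E' := by rw [← hEE', ← mul_assoc, hqE]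
  have hE'q : E' * q = E' := by rw [← hE'E, mul_assoc, hEq]
  have hadjE' : ∀ a ∈ Algebra.adjoin k ({F.x} : Set (MonoidAlgebra k C)),
      Θ a * E' = E' * Θ a := fun a ha => by
    induction ha using Algebra.adjoin_induction with
    | mem a ha => rw [Set.mem_singleton_iff.1 ha, hxE']
    | algebraMap r => rw [AlgHom.commutes, Algebra.commutes]
    | add a b _ _ h h' => rw [map_add, add_mul, mul_add, h, h']
    | mul a b _ _ h h' => rw [map_mul, mul_assoc, h', ← mul_assoc, h, mul_assoc]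
  have hK : ∀ r s t, Θ (F.v s * r * F.u t) * E' = E' * Θ (F.v s * r * F.u t) := fun r s t => by
    obtain ⟨a, b, hb, e⟩ := F.corner r s t
    rw [e, map_add, map_smul, map_mul, add_mul, mul_add, smul_mul_assoc, mul_smul_comm, hiE', hE'i,
      mul_assoc, hadjE' b hb, ← mul_assoc, hxE', mul_assoc]
  set q' : Module.End k U := ∑ s, Θ (F.u s) * E' * Θ (F.v s) with hq'
  have hq'u : q' * Θ (F.u 0) = Θ (F.u 0) * E' := by
    rw [hq', Finset.sum_mul, Finset.sum_eq_single 0]
    · rw [mul_assoc, ← map_mul, F.vu, if_pos rfl, mul_assoc, hE'i]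
    · intro s _ hs
      rw [mul_assoc, ← map_mul, F.vu, if_neg hs, map_zero, mul_zero]
    · exact fun h => absurd (Finset.mem_univ _) h
  have hE'E' : E' * E' = E' := LinearMap.ext fun v => by
    rw [Module.End.mul_apply, hE'a, hE'a]
    refine congrArg Subtype.val (Eq.trans (congrArg ε (Subtype.ext ?_))
      (LinearMap.congr_fun hεε _))
    exact hEW _ (Subtype.coe_prop _)
  have hq'q' : q' * q' = q' := by
    conv_lhs => arg 2; rw [hq']
    rw [Finset.mul_sum, hq']
    refine Finset.sum_congr rfl fun s _ => ?_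
    rw [Finset.sum_mul, Finset.sum_eq_single s]
    · rw [mul_assoc, ← mul_assoc (Θ (F.v s)), ← mul_assoc (Θ (F.v s)), ← map_mul, F.vu, if_pos rfl,
        hiE', ← mul_assoc, mul_assoc (Θ (F.u s)) E' E', hE'E']
    · intro t _ ht
      rw [mul_assoc, ← mul_assoc (Θ (F.v t)), ← mul_assoc (Θ (F.v t)), ← map_mul, F.vu, if_neg ht,
        map_zero]
      simp
    · exact fun h => absurd (Finset.mem_univ _) h
  have hqq' : q * q' = q' := by
    rw [hq', Finset.mul_sum]
    refine Finset.sum_congr rfl fun s _ => ?_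
    rw [← mul_assoc, ← mul_assoc, ← hqC, mul_assoc (Θ (F.u s)) q, hqE']
  have hq'q : q' * q = q' := by
    rw [hq', Finset.sum_mul]
    refine Finset.sum_congr rfl fun s _ => ?_
    rw [mul_assoc, hqC, ← mul_assoc, mul_assoc (Θ (F.u s)), hE'q]
  have hq'Θ : ∀ r, Θ r * q' = q' * Θ r := fun r => by
    rw [hq', Finset.mul_sum, Finset.sum_mul]
    have h1 : ∀ s, Θ r * (Θ (F.u s) * E' * Θ (F.v s)) =
        ∑ t, Θ (F.u t) * E' * (Θ (F.v t * r * F.u s) * Θ (F.v s)) := fun s => by
      have : r * F.u s = ∑ t, F.u t * (F.v t * r * F.u s) := by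
        conv_lhs => rw [← F.u_eq_mul s, ← mul_assoc, ← F.f_comm, mul_assoc, ← F.uv, Finset.sum_mul]
        exact Finset.sum_congr rfl fun t _ => by simp only [mul_assoc]
      rw [← mul_assoc, ← mul_assoc, ← map_mul, this, map_sum, Finset.sum_mul, Finset.sum_mul]
      refine Finset.sum_congr rfl fun t _ => ?_
      rw [map_mul, mul_assoc (Θ (F.u t)), hK r t s]
      simp only [mul_assoc]
    rw [Finset.sum_congr rfl fun s _ => h1 s, Finset.sum_comm]
    refine Finset.sum_congr rfl fun t _ => ?_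
    rw [← Finset.mul_sum, ← Finset.sum_congr rfl fun s _ => map_mul Θ _ _, ← map_sum]
    simp only [mul_assoc (F.v t * r)]
    rw [← Finset.mul_sum, F.uv, mul_assoc (F.v t), ← F.f_comm, ← mul_assoc (F.v t), F.v_eq_mul,
      map_mul]
    simp only [mul_assoc]
  have hq'g : ρ F.g * q' = q' * ρ F.g := by
    have hl : ρ F.g * q' = (∑ s, Θ (F.α (F.u s)) * E' * Θ (F.α (F.v s))) * ρ F.g := by
      rw [hq', Finset.mul_sum, Finset.sum_mul]
      refine Finset.sum_congr rfl fun s _ => ?_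
      rw [← mul_assoc, ← mul_assoc, hgΘ, mul_assoc (Θ (F.α (F.u s))) (ρ F.g), hgE', ← mul_assoc,
        mul_assoc _ (ρ F.g), hgΘ]
      simp only [mul_assoc]
    rw [hl, hq']
    congr 1
    have h1 : ∀ s, Θ (F.α (F.u s)) * E' * Θ (F.α (F.v s)) =
        ∑ t, Θ (F.u t) * E' * Θ (F.v t * F.α (F.u s) * F.α (F.v s)) := fun s => by
      have hu : F.α (F.u s) = ∑ t, F.u t * (F.v t * F.α (F.u s)) := by
        conv_lhs => rw [← F.u_eq_mul s, map_mul, show F.α F.f = F.f from F.αf, ← F.uv, Finset.sum_mul]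
        exact Finset.sum_congr rfl fun t _ => by simp only [mul_assoc]
      have hcor : ∀ t, F.v t * F.α (F.u s) = F.v t * (F.α (F.u s) * F.v 0) * F.u 0 := fun t => by
        rw [mul_assoc, mul_assoc (F.α (F.u s)), F.vu, if_pos rfl]
        conv_rhs => rw [← show F.α F.i = F.i from F.αi, ← map_mul, F.ui]
      conv_lhs => rw [hu, map_sum, Finset.sum_mul, Finset.sum_mul]
      refine Finset.sum_congr rfl fun t _ => ?_
      rw [map_mul, mul_assoc (Θ (F.u t)), hcor t, hK, map_mul Θ (_ * F.u 0) (F.α (F.v s)), ← hcor t]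
      simp only [mul_assoc]
    rw [Finset.sum_congr rfl fun s _ => h1 s, Finset.sum_comm]
    refine Finset.sum_congr rfl fun t _ => ?_
    rw [← Finset.mul_sum, ← map_sum]
    simp only [mul_assoc (F.v t)]
    rw [← Finset.mul_sum, ← Finset.sum_congr rfl fun s _ => map_mul F.α _ _, ← map_sum, F.uv,
      show F.α F.f = F.f from F.αf, F.v_eq_mul]
  have hq'I : ∀ h ∈ I, ρ h * q' = q' * ρ h := fun h hh => by
    obtain ⟨c, hc, j, rfl⟩ := hI h hh
    have h1 : ρ c * q' = q' * ρ c := by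
      have := hq'Θ (single ⟨c, hc⟩ 1)
      simpa [hΘ] using this
    have h2 : Commute (ρ (F.g ^ j)) q' := by
      rw [map_pow]
      exact (show Commute (ρ F.g) q' from hq'g).pow_left j
    rw [map_mul, mul_assoc, h2.eq, ← mul_assoc, h1, mul_assoc]
  have hy : E (y : U) = y := hEW _ y.2
  set y0 : U := Θ (F.u 0) y with hy0'
  have hvy : Θ (F.v 0) y0 = y := by
    rw [hy0', ← Module.End.mul_apply, ← map_mul, F.vu, if_pos rfl, ← hy, ← Module.End.mul_apply,
      hiE]
  have hy0ne : y0 ≠ 0 := fun h => hy0 (Subtype.ext (by rw [← hvy, h, map_zero]; rfl))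
  have hq'y : q' y0 = y0 := by
    rw [hy0', ← Module.End.mul_apply, hq'u, Module.End.mul_apply, hE'a]
    congr 1
    rw [show (⟨E y, LinearMap.mem_range_self E _⟩ : W) = y from Subtype.ext hy, hεy]
  have hnullmul : ∀ r, IsNull ρ I r → IsNull ρ I (q' * r) := fun r hr =>
    hr.mul_left fun h hh => (cj_eq_self_iff ρ).2 (hq'I h hh)
  obtain ⟨c, hc⟩ := hS q' hq'I (by rw [hqq', hq'q])
  -- the next idempotent
  have hrec : IsNull ρ I q' → ∃ z0 : k, ∀ (ζ : k) (hζ : ζ ^ F.e = 1)
      (π : U →ₗ[k] (Fin (F.n + 1) → k)), IsEquivariant I ρ (F.twistEnd hI ζ hζ) π →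
        ¬ IsNullMap I ρ (F.twistEnd hI ζ hζ) (π ∘ₗ q) → ζ * F.σ 0 0 = z0 := by
    intro hnull
    have hdd : (q - q') * (q - q') = q - q' := by
      rw [sub_mul, mul_sub, mul_sub, hqq, hqq', hq'q, hq'q']
      abel
    have hqd : q * (q - q') = q - q' := by rw [mul_sub, hqq, hqq']
    have hdq : (q - q') * q = q - q' := by rw [sub_mul, hqq, hq'q]
    have hrank : Module.finrank k (LinearMap.range (q - q')) < N := by
      rw [← hn]
      refine Submodule.finrank_lt_finrank_of_lt (lt_of_le_of_ne ?_ fun heq => hy0ne ?_)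
      · rintro _ ⟨v, rfl⟩
        exact ⟨(q - q') v, by rw [← Module.End.mul_apply, hqd]⟩
      · have hmem : y0 ∈ LinearMap.range q :=
          ⟨y0, by rw [← hq'y, ← Module.End.mul_apply, hqq']⟩
        rw [← heq] at hmem
        obtain ⟨v, hv⟩ := hmem
        have h1 := congrArg q' hv
        rw [← Module.End.mul_apply, mul_sub, hq'q, hq'q', sub_self, LinearMap.zero_apply, hq'y] at h1
        exact h1.symm
    obtain ⟨z1, hz1⟩ := ih _ hrank (q - q') hdd
      (fun h hh => by rw [mul_sub, sub_mul, hqI h hh, hq'I h hh])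
      (by rw [← hqd, ← mul_assoc, hfq])
      (fun φ hφ hφq => by
        obtain ⟨c₁, hc₁⟩ := hS φ hφ (by
          rw [← hφq]
          simp only [← mul_assoc, hqd]
          rw [mul_assoc _ (q - q') q, hdq])
        refine ⟨c₁, ?_⟩
        have h2 : φ - c₁ • (q - q') = (φ - c₁ • q) + c₁ • q' := by rw [smul_sub]; abel
        rw [h2]
        exact hc₁.add (hnull.smul c₁)) rfl
    refine ⟨z1, fun ζ hζ π hπ hne => hz1 ζ hζ π hπ fun hz => hne ?_⟩
    have h2 : π ∘ₗ q = π ∘ₗ (q - q') + π ∘ₗ q' := by rw [← LinearMap.comp_add, sub_add_cancel]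
    rw [h2]
    exact hz.add (IsNullMap.of_comp hπ hnull)
  by_cases hc1 : c = 1
  · refine ⟨z0, fun ζ hζ π hπ hne => ?_⟩
    have hgy' : ρ F.g (y : U) = z0 • (y : U) := congrArg Subtype.val hgy
    have hiy : Θ F.i (y : U) = y := by rw [← hy, ← Module.End.mul_apply, hiE]
    refine F.eigen_eq hCI hgI hI hζ hπ hiy hgy' fun hπy => hne ?_
    have hπW : ∀ w : W, π (w : U) = 0 → ∀ a ∈ Algebra.adjoin k ({xW} : Set (Module.End k W)),
        π (a w : U) = 0 := fun w hw a ha => by
      induction ha using Algebra.adjoin_induction generalizing w with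
      | mem a ha =>
        rw [Set.mem_singleton_iff.1 ha]
        show π (Θ F.x w) = 0
        rw [F.equiv_θ hCI hI hζ hπ, hw, map_zero]
      | algebraMap r => simp [hw]
      | add a b _ _ h h' => simp [h w hw, h' w hw]
      | mul a b _ _ h h' => exact h _ (h' w hw)
    have hπq' : π ∘ₗ q' = 0 := LinearMap.ext fun v => by
      rw [LinearMap.comp_apply, hq', LinearMap.sum_apply, map_sum, LinearMap.zero_apply]
      refine Finset.sum_eq_zero fun s _ => ?_
      rw [Module.End.mul_apply, Module.End.mul_apply, F.equiv_θ hCI hI hζ hπ, hE'a]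
      obtain ⟨a, ha, hw⟩ := hεim ⟨E (Θ (F.v s) v), LinearMap.mem_range_self E _⟩
      rw [hw, hπW y hπy a ha, map_zero]
    have h2 : π ∘ₗ q = π ∘ₗ (q - q') + π ∘ₗ q' := by rw [← LinearMap.comp_add, sub_add_cancel]
    rw [h2, hπq', add_zero]
    refine IsNullMap.of_comp hπ ?_
    rw [hc1, one_smul] at hc
    rw [← neg_sub]
    exact hc.neg
  · refine hrec ?_
    have h1 : IsNull ρ I ((1 - c) • q') := by
      have := hnullmul _ hc
      rwa [mul_sub, hq'q', mul_smul_comm, hq'q, show q' - c • q' = (1 - c) • q' by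
        rw [sub_smul, one_smul]] at this
    have h2 := h1.smul (1 - c)⁻¹
    rwa [smul_smul, inv_mul_cancel₀ (sub_ne_zero.2 (Ne.symm hc1)), one_smul] at h2

include hCI hgI hI in
/-- Only one twist receives a map which is not a trace. -/
theorem twist_unique (hfI : ∀ h ∈ I, ρ h * θ ρ F.f = θ ρ F.f * ρ h)
    (hS : ∀ φ : Module.End k U, (∀ h ∈ I, ρ h * φ = φ * ρ h) → θ ρ F.f * φ = φ →
      φ * θ ρ F.f = φ → ∃ c : k, IsNull ρ I (φ - c • θ ρ F.f))
    {ζ ζ' : k} (hζ : ζ ^ F.e = 1) (hζ' : ζ' ^ F.e = 1) {π π' : U →ₗ[k] (Fin (F.n + 1) → k)}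
    (hπ : IsEquivariant I ρ (F.twistEnd hI ζ hζ) π)
    (hne : ¬ IsNullMap I ρ (F.twistEnd hI ζ hζ) π)
    (hπ' : IsEquivariant I ρ (F.twistEnd hI ζ' hζ') π')
    (hne' : ¬ IsNullMap I ρ (F.twistEnd hI ζ' hζ') π') : ζ = ζ' := by
  have hff : θ ρ F.f * θ ρ F.f = θ ρ F.f := by rw [← map_mul, F.ff]
  obtain ⟨z0, hz⟩ := F.exists_eigen ρ hCI hgI hI (θ ρ F.f) hff hfI hff fun φ hφ hcut => by
    refine hS φ hφ ?_ ?_
    · rw [← hcut, ← mul_assoc, ← mul_assoc, hff]
    · rw [← hcut, mul_assoc, hff]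
  have hπf : ∀ (ζ : k) (hζ : ζ ^ F.e = 1) (π : U →ₗ[k] (Fin (F.n + 1) → k)),
      IsEquivariant I ρ (F.twistEnd hI ζ hζ) π → π ∘ₗ θ ρ F.f = π := fun ζ hζ π hπ =>
    LinearMap.ext fun w => by
      rw [LinearMap.comp_apply, F.equiv_θ hCI hI hζ hπ, show F.P F.f = 1 from F.πf, map_one]
      rfl
  exact mul_right_cancel₀ F.σ_ne_zero
    ((hz ζ hζ π hπ (by rwa [hπf _ hζ _ hπ])).trans (hz ζ' hζ' π' hπ' (by rwa [hπf _ hζ' _ hπ'])).symm)

end Frame

end Cfsg.Agent.Lib.CyclicDefect
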