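import Mathlib
import Cfsg.Agent.Lib.CyclicBlock.Trace
import Cfsg.Agent.Lib.FreeInertia.Count
import Cfsg.Agent.Lib.CyclicDefect.Build
import Cfsg.Agent.Lib.CyclicDefect.Exist
import Cfsg.Agent.Lib.CyclicDefect.Unique
import Cfsg.Agent.Lib.CyclicDefect.Gen
import Cfsg.Agent.Lib.CyclicDefect.Local

/-!
# A block with cyclic defect group has at least as many Brauer characters as the inertial index
-/

set_option autoImplicit false
set_option linter.unusedSectionVars false

namespace Cfsg.Agent.Lib.CyclicDefect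

open Cfsg MonoidAlgebra
open Cfsg.Agent.Lib
open Cfsg.Agent.Lib.BrauerPairs
open Cfsg.Agent.Lib.AbelianStar
open Cfsg.Agent.Lib.Blocks (Residue toF RCenter blockIdem localRing)
open Cfsg.Agent.Lib.BlockAlg (idem idem_comm idem_mul_self Alg proj proj_surjective proj_eq_zero_iff
  card_factors_le)
open Cfsg.Agent.Lib.NilBlock (bu bu_fst bu_le centralizer_bu)

universe u

/-- The trace over a subgroup is the trace of the trace over an intermediate one. -/
theorem sum_quotient_trans {G : Type u} [Group G] {R : Type*} [Ring R] (γ : G →* R)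
    (P C I : Subgroup G) (hPC : P ≤ C) (hCI : C ≤ I) [Fintype (I ⧸ P.subgroupOf I)]
    [Fintype (I ⧸ C.subgroupOf I)] [Fintype (C ⧸ P.subgroupOf C)] {x : R}
    (hx : ∀ d ∈ P, cj γ d x = x) :
    ∑ q : I ⧸ P.subgroupOf I, cj γ ((q.out : I) : G) x =
      ∑ a : I ⧸ C.subgroupOf I, cj γ ((a.out : I) : G)
        (∑ c : C ⧸ P.subgroupOf C, cj γ ((c.out : C) : G) x) := by
  simp only [cj_sum, ← cj_mul]
  rw [← Fintype.sum_prod_type']
  refine (Fintype.sum_bijective
    (fun y : (I ⧸ C.subgroupOf I) × (C ⧸ P.subgroupOf C) =>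
      ((y.1.out * Subgroup.inclusion hCI y.2.out : I) : I ⧸ P.subgroupOf I)) ⟨fun a b h => ?_,
        fun q => ?_⟩ _ _ fun y => ?_).symm
  · have h1 := Subgroup.mem_subgroupOf.1 (QuotientGroup.eq.1 h)
    have ha : a.1 = b.1 := by
      rw [← a.1.out_eq', ← b.1.out_eq']
      refine QuotientGroup.eq.2 (Subgroup.mem_subgroupOf.2 ?_)
      have h2 := mul_mem (mul_mem (a.2.out : C).2 (hPC h1)) (inv_mem (b.2.out : C).2)
      simpa [mul_assoc] using h2
    refine Prod.ext ha ?_
    rw [← a.2.out_eq', ← b.2.out_eq']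
    refine QuotientGroup.eq.2 (Subgroup.mem_subgroupOf.2 ?_)
    simpa [ha, mul_assoc] using h1
  · set i := q.out with hi
    set a : I ⧸ C.subgroupOf I := (i : I ⧸ C.subgroupOf I)
    have hc : ((a.out : I) : G)⁻¹ * (i : G) ∈ C := by
      have := Subgroup.mem_subgroupOf.1 (QuotientGroup.eq.1 a.out_eq')
      simpa using this
    refine ⟨(a, ((⟨_, hc⟩ : C) : C ⧸ P.subgroupOf C)), ?_⟩
    show ((a.out * Subgroup.inclusion hCI _ : I) : I ⧸ P.subgroupOf I) = q
    rw [← q.out_eq']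
    refine QuotientGroup.eq.2 (Subgroup.mem_subgroupOf.2 ?_)
    obtain ⟨d, hd⟩ := QuotientGroup.mk_out_eq_mul (P.subgroupOf C) (⟨_, hc⟩ : C)
    rw [hd]
    simpa [← hi, mul_assoc] using Subgroup.mem_subgroupOf.1 d.2
  · obtain ⟨d, hd⟩ := QuotientGroup.mk_out_eq_mul (P.subgroupOf I)
      (y.1.out * Subgroup.inclusion hCI y.2.out : I)
    conv_rhs => rw [hd, Subgroup.coe_mul, cj_mul, hx _ (Subgroup.mem_subgroupOf.1 d.2)]
    rw [Subgroup.coe_mul]
    rfl

/-- The semisimple quotient of a finite dimensional algebra. -/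
theorem exists_semisimple_quotient (k : Type*) [Field k] [IsAlgClosed k] (A : Type*) [Ring A]
    [Algebra k A] [FiniteDimensional k A] :
    ∃ (m : ℕ) (d : Fin m → ℕ) (P : A →ₐ[k] ∀ a, Matrix (Fin (d a)) (Fin (d a)) k),
      (∀ a, 0 < d a) ∧ Function.Surjective P ∧ ∃ N : ℕ, RingHom.ker P ^ N = ⊥ := by
  have : IsArtinianRing A := IsArtinianRing.of_finite k A
  set J := Ring.jacobson A
  obtain ⟨N, hN⟩ := IsSemiprimaryRing.isNilpotent (R := A)
  have : IsSemisimpleRing (A ⧸ J) := IsSemiprimaryRing.isSemisimpleRing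
  have : FiniteDimensional k (A ⧸ J) := Module.Finite.of_surjective
    (Ideal.Quotient.mkₐ k J).toLinearMap Ideal.Quotient.mk_surjective
  obtain ⟨m, d, hd, ⟨E⟩⟩ := IsSemisimpleRing.exists_algEquiv_pi_matrix_of_isAlgClosed k (A ⧸ J)
  refine ⟨m, d, E.toAlgHom.comp (Ideal.Quotient.mkₐ k J), fun a => Nat.pos_of_ne_zero (hd a).out,
    E.surjective.comp Ideal.Quotient.mk_surjective, N, ?_⟩
  have hle : RingHom.ker (E.toAlgHom.comp (Ideal.Quotient.mkₐ k J)) ≤ J := fun x hx => by
    have h : E (Ideal.Quotient.mk J x) = 0 := hx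
    rwa [map_eq_zero_iff _ E.injective, Ideal.Quotient.eq_zero_iff_mem] at h
  exact eq_bot_iff.2 ((Ideal.pow_right_mono hle N).trans hN.le)

variable {G : Type u} [Group G] [Fintype G] {p : ℕ} [Fact p.Prime] {M : Ideal AlgInt} [M.IsPrime]
  {B : Set (IrrCharacter G)} {b : BrauerPairIdx G}

attribute [local instance] Classical.propDecidable

set_option maxHeartbeats 1600000 in
/-- The Brauer characters are at least as many as the inertial index. -/
theorem inertia_le_blockRank (hM : IsPModular p M) (hmax : IsMaximalBrauerPair p M B b.1 b.2)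
    (hcyc : IsCyclic b.1) (hne : b.1 ≠ ⊥) :
    (Subgroup.centralizer (b.1 : Set G)).relIndex (pairStab hmax.1.1.2) ≤ blockRank p B := by
  haveI := Blocks.charP_residue hM
  haveI := Contrib.isAlgClosed_residue hM
  have hp : p.Prime := Fact.out
  have hB : IsPBlock M B := hmax.1.2.1
  have hab : ∀ x ∈ b.1, ∀ y ∈ b.1, x * y = y * x := fun x hx y hy => by
    letI := hcyc.commGroup
    exact congrArg Subtype.val (mul_comm (⟨x, hx⟩ : b.1) ⟨y, hy⟩)
  haveI : Nontrivial b.1 := (Subgroup.nontrivial_iff_ne_bot b.1).2 hne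
  obtain ⟨⟨z, hz⟩, hzp⟩ := exists_prime_orderOf_dvd_card' (G := b.1) p (by
    obtain ⟨n, hn⟩ := IsPGroup.iff_card.1 (hmax.1.1.1 : IsPGroup p b.1)
    have h1 : 1 < Nat.card b.1 := Finite.one_lt_card
    rw [hn] at h1 ⊢
    exact dvd_pow_self p fun h0 => by rw [h0, pow_zero] at h1; omega)
  rw [Subgroup.orderOf_mk] at hzp
  have hz1 : z ≠ 1 := fun h => by rw [h, orderOf_one] at hzp; exact hp.ne_one hzp.symm
  obtain ⟨g, hgT, hgp, hgpow, hdvd, hgen⟩ := exists_stab_gen hM hmax hcyc hz hzp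
  set e := (Subgroup.centralizer (b.1 : Set G)).relIndex (pairStab hmax.1.1.2) with he
  have hep : ¬ p ∣ e := fun h => by
    have h1 := hp.two_le
    have h2 := Nat.le_of_dvd (by omega) (h.trans hdvd)
    omega
  -- the local block
  have hab' : IsBrauerPairOf p M B (bu p M b z).1 (bu p M b z).2 :=
    NilBlock.isBrauerPairOf_bu hM hmax hz
  have hfZ : IsPBlock M (bu p M b z).2 := hab'.1.2
  haveI : Fintype (Subgroup.centralizer ((bu p M b z).1 : Set G)) := Fintype.ofFinite _
  have hQ : (bu p M b z).1 ≤ b.1 := zpowers_le_pair hz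
  have hPC : b.1 ≤ Subgroup.centralizer ((bu p M b z).1 : Set G) := le_cent hab hz
  have hdef := isDefectGroup_of_isMaximal hM
    (a := ⟨_, LocalInertial.subBlock hPC hQ b.2⟩)
    (LocalInertial.isMaximal_sub hM hPC hQ hmax (isInducedBlockIn_bu hM hmax hab hz))
  have hl : blockRank p (bu p M b z).2 = 1 :=
    FreeInertia.blockRank_bu_eq_one hM hmax hab
      (FreeInertia.isFree_of_isCyclic hM hmax hab hcyc) hz hz1
  have hcycP : IsCyclic (b.1.subgroupOf (Subgroup.centralizer ((bu p M b z).1 : Set G))) :=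
    (Subgroup.subgroupOfEquivOfLe hPC).isCyclic.2 hcyc
  set a := bu p M b z with ha
  set C := Subgroup.centralizer (a.1 : Set G) with hC
  have hgN : g ∈ Subgroup.normalizer (a.1 : Set G) :=
    CyclicInertia.mem_normalizer_of_stab hmax hcyc hQ hgT
  have hgC : ∀ c ∈ C, g * c * g⁻¹ ∈ C := fun c hc =>
    (Subgroup.mem_normalizer_iff.1
      (BrauerMap.normalizer_le_normalizer_centralizer' a.1 hgN) c).1 hc
  have hle : PairLE p M a b := bu_le hM hmax.1.1 hz
  have hga : g ∈ pairStab (a := a) hfZ := conjPair_eq_of_stab hM hmax.1.1 hle hgT hgN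
  have hpowC : ∀ j : ℕ, g ^ j ∈ C ↔ e ∣ j := fun j => by
    rw [← hgpow]
    refine ⟨fun h => ?_, fun h => BrauerMap.centralizer_anti hQ h⟩
    refine CyclicInertia.mem_centralizer_of_stab hM hmax hcyc hQ ?_ (pow_mem hgT j) h
    rw [ha, bu_fst]
    exact Subgroup.zpowers_ne_bot.2 hz1
  have hgk : (orderOf g : Residue M) ≠ 0 := fun h =>
    hgp ((CharP.cast_eq_zero_iff (Residue M) p _).1 h)
  obtain ⟨F, hFe, hFg, hFf, hFs⟩ := exists_frame hM hfZ hl hdef hcycP hgC hpowC hgk
    (cAlg_idem hfZ hgC hga)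
  set I := pairStab (a := a) hfZ with hI'
  have hCI : C ≤ I := le_trans le_sup_right (core_le_pairStab hfZ)
  haveI : Fintype I := Fintype.ofFinite _
  have hgI : F.g ∈ I := hFg ▸ hga
  have hn : ∀ (i : ℕ) (y : G), y ∈ C → g ^ i * y * (g ^ i)⁻¹ ∈ C := fun i => by
    induction i with
    | zero => intro y hy; simpa using hy
    | succ i ih =>
      intro y hy
      rw [pow_succ', show g * g ^ i * y * (g * g ^ i)⁻¹ = g * (g ^ i * y * (g ^ i)⁻¹) * g⁻¹ by group]
      exact hgC _ (ih y hy)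
  have hdec : ∀ h ∈ I, ∃ c ∈ C, ∃ j : ℕ, h = c * F.g ^ j := fun x hx => by
    obtain ⟨y, hy, d, hd, rfl⟩ := exists_factor_of_comm hM hmax hab hle hx
    obtain ⟨c, hc, j, rfl⟩ := hgen y hy
    refine ⟨c * (g ^ j * d * (g ^ j)⁻¹), mul_mem (BrauerMap.centralizer_anti hQ hc) (hn j d hd), j, ?_⟩
    rw [hFg]
    group
  -- the index
  have hindex : Nat.card (I ⧸ C.subgroupOf I) = e := by
    have hgI' : g ∈ I := hga
    rw [← Nat.card_fin e]
    refine (Nat.card_eq_of_bijective
      (fun j : Fin e => (((⟨g, hgI'⟩ : I) ^ (j : ℕ) : I) : I ⧸ C.subgroupOf I)) ⟨?_, ?_⟩).symm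
    · intro i j hij
      wlog hle' : (i : ℕ) ≤ j generalizing i j
      · exact (this hij.symm (le_of_not_ge hle')).symm
      have h1 := Subgroup.mem_subgroupOf.1 (QuotientGroup.eq.1 hij)
      obtain ⟨d, hd⟩ := Nat.exists_eq_add_of_le hle'
      rw [hd, pow_add, ← mul_assoc, inv_mul_cancel, one_mul, SubmonoidClass.coe_pow, hpowC] at h1
      have h2 : d = 0 := Nat.eq_zero_of_dvd_of_lt h1 (by have := j.2; omega)
      exact Fin.ext (by omega)
    · intro q
      obtain ⟨⟨x, hx⟩, rfl⟩ := QuotientGroup.mk_surjective q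
      obtain ⟨c, hc, j, hxj⟩ := hdec x hx
      rw [hFg] at hxj
      refine ⟨⟨j % e, Nat.mod_lt _ ?_⟩, ?_⟩
      · exact Nat.pos_of_ne_zero fun h0 => hep (h0 ▸ dvd_zero p)
      refine QuotientGroup.eq.2 (Subgroup.mem_subgroupOf.2 ?_)
      show ((((⟨g, hgI'⟩ : I) ^ (j % e) : I) : G))⁻¹ * x ∈ C
      rw [SubmonoidClass.coe_pow, hxj]
      have h1 : (g ^ (j % e))⁻¹ * (c * g ^ j) =
          ((g ^ (j % e))⁻¹ * c * g ^ (j % e)) * g ^ (e * (j / e)) := by
        have h2 : g ^ j = g ^ (j % e) * g ^ (e * (j / e)) := by rw [← pow_add, Nat.mod_add_div]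
        rw [h2]
        group
      rw [h1]
      refine mul_mem ?_ ((hpowC _).2 (dvd_mul_right _ _))
      have h0 : orderOf g ≠ 0 := (orderOf_pos g).ne'
      have h3 : (g ^ (j % e))⁻¹ = g ^ ((j % e) * (orderOf g - 1)) := by
        refine inv_eq_of_mul_eq_one_right ?_
        rw [← pow_add, show j % e + j % e * (orderOf g - 1) = orderOf g * (j % e) by
          rw [Nat.mul_sub_one, Nat.add_sub_cancel' (Nat.le_mul_of_pos_right _ (Nat.pos_of_ne_zero h0)),
            mul_comm], pow_mul, pow_orderOf_eq_one, one_pow]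
      have h4 := hn ((j % e) * (orderOf g - 1)) c hc
      rwa [← h3, inv_inv] at h4
  -- the trace
  haveI : Fintype (C ⧸ b.1.subgroupOf C) := Fintype.ofFinite _
  haveI : Fintype (I ⧸ C.subgroupOf I) := Fintype.ofFinite _
  haveI : Fintype (I ⧸ b.1.subgroupOf I) := Fintype.ofFinite _
  obtain ⟨x, hx, hxtr⟩ := CyclicBlock.exists_relTrace_eq hM hfZ hdef
  change ∑ c : C ⧸ b.1.subgroupOf C, single c.out 1 * x * single c.out⁻¹ 1 = idem hfZ at hxtr
  -- the semisimple quotient of the block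
  set k := Residue M
  obtain ⟨m, d, P, hd, hPs, hJ⟩ := exists_semisimple_quotient k (Alg hB)
  refine le_trans ?_ (card_factors_le hB hM d P hd hPs)
  obtain ⟨ω, hω⟩ : ∃ ω : k, IsPrimitiveRoot ω e := by
    haveI : NeZero (e : k) := ⟨fun h => hep ((CharP.cast_eq_zero_iff k p e).1 h)⟩
    exact HasEnoughRootsOfUnity.exists_primitiveRoot k e
  have hζ : ∀ j : ℕ, (ω ^ j) ^ F.e = 1 := fun j => by
    rw [hFe, ← pow_mul, mul_comm, pow_mul, hω.pow_eq_one, one_pow]
  have hzC : z ∈ C := hPC hz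
  have hπz : F.π ⟨z, hzC⟩ = 1 := by
    have hcen : ∀ X, F.π ⟨z, hzC⟩ * X = X * F.π ⟨z, hzC⟩ := fun X => by
      obtain ⟨r, rfl⟩ := hFs X
      induction r using MonoidAlgebra.induction_linear with
      | zero => simp
      | add a b ha hb => simp only [map_add, mul_add, add_mul, ha, hb]
      | single c t =>
        simp only [Frame.P, MonoidAlgebra.lift_single, mul_smul_comm, smul_mul_assoc, ← map_mul]
        congr 2
        refine Subtype.ext ?_
        show z * (c : G) = (c : G) * z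
        refine Subgroup.mem_centralizer_iff.1 c.2 z ?_
        rw [ha, bu_fst]
        exact Subgroup.mem_zpowers z
    obtain ⟨c, hc⟩ := Matrix.mem_range_scalar_of_commute_single (M := F.π ⟨z, hzC⟩)
      fun i j _ => (hcen _).symm
    have h1 : (Matrix.scalar (Fin (F.n + 1))) (c ^ p) = Matrix.scalar _ 1 := by
      rw [map_pow, hc, ← map_pow, map_one,
        show (⟨z, hzC⟩ : C) ^ p = 1 from Subtype.ext (by simp [← hzp, pow_orderOf_eq_one]), map_one]
    have h2 : c ^ p = 1 := Matrix.scalar_inj.1 h1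
    have h3 : (c - 1) ^ p = 0 := by rw [sub_pow_char, h2, one_pow, sub_self]
    rw [← hc, sub_eq_zero.1 (pow_eq_zero_iff hp.ne_zero |>.1 h3), map_one]
  have hfree : ∀ h ∈ I, h * z = z * h → h ∈ C := fun h _ hh => by
    rw [hC, ha, centralizer_bu]
    exact Subgroup.mem_centralizer_singleton_iff.2 hh
  have hlift : ∀ (j : ℕ), MonoidAlgebra.lift k _ C
      ((F.twistEnd hdec (ω ^ j) (hζ j)).comp (Subgroup.inclusion hCI)) F.f = 1 := fun j => by
    have h : ∀ r, MonoidAlgebra.lift k _ C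
        ((F.twistEnd hdec (ω ^ j) (hζ j)).comp (Subgroup.inclusion hCI)) r =
        Matrix.toLinAlgEquiv' (F.P r) := fun r => by
      induction r using MonoidAlgebra.induction_linear with
      | zero => simp
      | add a b ha hb => simp only [map_add, ha, hb]
      | single c t =>
        simp only [Frame.P, MonoidAlgebra.lift_single, map_smul]
        congr 1
        show Matrix.toLinAlgEquiv' (F.twist hdec (ω ^ j) (hζ j) ⟨c, hCI c.2⟩) = _
        rw [F.twist_mem]
    rw [h, show F.P F.f = 1 from F.πf, map_one]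
  have hEc : ∀ r, idem hB * r = r * idem hB := idem_comm hB
  have hfE : F.f * (∑ c : C, single c ((idem hB).coeff (c : G))) = F.f := by
    rw [hFf]
    exact idem_mul_restrict hM hB hab'
  have hsimple : ∀ j : Fin e, ∃ (t : Fin m) (π : (Fin (d t) → k) →ₗ[k] (Fin (F.n + 1) → k)),
      IsEquivariant I ((Matrix.toLinAlgEquiv'.toAlgHom.comp
        ((Pi.evalAlgHom k (fun a => Matrix (Fin (d a)) (Fin (d a)) k) t).comp
          (P.comp (proj hB)))).toMonoidHom.comp (MonoidAlgebra.of k G))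
        (F.twistEnd hdec (ω ^ (j : ℕ)) (hζ j)) π ∧
      ¬ IsNullMap I ((Matrix.toLinAlgEquiv'.toAlgHom.comp
        ((Pi.evalAlgHom k (fun a => Matrix (Fin (d a)) (Fin (d a)) k) t).comp
          (P.comp (proj hB)))).toMonoidHom.comp (MonoidAlgebra.of k G))
        (F.twistEnd hdec (ω ^ (j : ℕ)) (hζ j)) π := fun j =>
    exists_simple (p := p) C I hCI _ hzC hzp (by
      show Matrix.toLinAlgEquiv' (F.twist hdec _ (hζ j) ⟨z, _⟩) = 1
      rw [F.twist_mem hdec (hζ j) ⟨z, hzC⟩ (hCI hzC), hπz, map_one])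
      hfree hEc (idem_mul_self hB) (hlift j) hfE (proj hB) (proj_surjective hB)
      (fun r hr => (proj_eq_zero_iff hB).1 hr) P hPs hJ
  choose tt π hπe hπn using hsimple
  suffices hinj : Function.Injective tt by
    have := Fintype.card_le_of_injective tt hinj
    simpa using this
  intro i j hij
  -- the simple module
  generalize hti : tt i = t at hij
  have hcomp : ∀ s : Fin e, tt s = t → ∃ π' : (Fin (d t) → k) →ₗ[k] (Fin (F.n + 1) → k),
      IsEquivariant I ((Matrix.toLinAlgEquiv'.toAlgHom.comp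
        ((Pi.evalAlgHom k (fun a => Matrix (Fin (d a)) (Fin (d a)) k) t).comp
          (P.comp (proj hB)))).toMonoidHom.comp (MonoidAlgebra.of k G))
        (F.twistEnd hdec (ω ^ (s : ℕ)) (hζ s)) π' ∧
      ¬ IsNullMap I ((Matrix.toLinAlgEquiv'.toAlgHom.comp
        ((Pi.evalAlgHom k (fun a => Matrix (Fin (d a)) (Fin (d a)) k) t).comp
          (P.comp (proj hB)))).toMonoidHom.comp (MonoidAlgebra.of k G))
        (F.twistEnd hdec (ω ^ (s : ℕ)) (hζ s)) π' := fun s hs => by
    subst hs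
    exact ⟨π s, hπe s, hπn s⟩
  obtain ⟨πi, hπie, hπin⟩ := hcomp i hti
  obtain ⟨πj, hπje, hπjn⟩ := hcomp j hij.symm
  set Ψ := (Matrix.toLinAlgEquiv' (R := k) (n := Fin (d t))).toAlgHom.comp
    ((Pi.evalAlgHom k (fun a => Matrix (Fin (d a)) (Fin (d a)) k) t).comp (P.comp (proj hB))) with hΨ
  set ρ : G →* Module.End k (Fin (d t) → k) := Ψ.toMonoidHom.comp (MonoidAlgebra.of k G) with hρ
  have hΨs : Function.Surjective Ψ := by
    intro X
    obtain ⟨y, hy⟩ := hPs (Pi.single t (Matrix.toLinAlgEquiv'.symm X))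
    obtain ⟨r, rfl⟩ := proj_surjective hB y
    refine ⟨r, ?_⟩
    show Matrix.toLinAlgEquiv' (P (proj hB r) t) = X
    rw [hy, Pi.single_eq_same, AlgEquiv.apply_symm_apply]
  have hΨρ : Ψ = MonoidAlgebra.lift k _ G ρ := by
    refine AlgHom.ext fun r => ?_
    induction r using MonoidAlgebra.induction_linear with
    | zero => simp
    | add a b ha hb => simp only [map_add, ha, hb]
    | single g' c =>
      rw [MonoidAlgebra.lift_single, show single g' c = c • single g' (1 : k) by simp, map_smul]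
      rfl
  have hθΨ : ∀ r, Frame.θ ρ r = Ψ (mapDomainAlgHom k k C.subtype r) := fun r => by
    induction r using MonoidAlgebra.induction_linear with
    | zero => simp
    | add a b ha hb => simp only [map_add, ha, hb]
    | single c t =>
      rw [hΨρ]
      simp [Frame.θ]
  have hθf : ∀ h ∈ I, ρ h * Frame.θ ρ F.f = Frame.θ ρ F.f * ρ h := fun h hh => by
    obtain ⟨c, hc, j', rfl⟩ := hdec h hh
    have h1 : Commute (ρ c) (Frame.θ ρ F.f) := by
      have := congrArg (Frame.θ ρ) (F.f_comm (single ⟨c, hc⟩ 1))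
      rw [map_mul, map_mul, show Frame.θ ρ (single (⟨c, hc⟩ : C) (1 : k)) = ρ c by simp [Frame.θ]]
        at this
      exact this.symm
    have h2 : Commute (ρ F.g) (Frame.θ ρ F.f) := by
      show _ * _ = _ * _
      rw [F.g_θ, show F.α F.f = F.f from F.αf]
    rw [map_mul, map_pow]
    exact (h1.mul_left (h2.pow_left j')).eq
  set f0 := Frame.θ ρ F.f with hf0
  have horth : ∀ g' ∈ Subgroup.normalizer (a.1 : Set G), g' ∉ I → f0 * cj ρ g' f0 = 0 :=
    fun g' hg' hg'I => by
    have h := congrArg Ψ (idem_conj_ortho (Q := a.1) hfZ hg' hg'I)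
    rw [map_zero, map_mul, map_mul, map_mul, ← hFf, ← hθΨ] at h
    exact h
  have hxθ : ∀ c : C, Frame.θ ρ (single c (1 : k)) = ρ c := fun c => by simp [Frame.θ]
  have hxP : ∀ d' ∈ b.1, cj ρ d' (Frame.θ ρ x) = Frame.θ ρ x := fun d' hd' => by
    rw [cj_eq_self_iff]
    have := congrArg (Frame.θ ρ) (hx ⟨d', hPC hd'⟩ (Subgroup.mem_subgroupOf.2 hd'))
    rwa [map_mul, map_mul, hxθ] at this
  have htrC : ∑ c : C ⧸ b.1.subgroupOf C, cj ρ ((c.out : C) : G) (Frame.θ ρ x) = f0 := by
    rw [hf0, hFf, ← hxtr, map_sum]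
    refine Finset.sum_congr rfl fun c _ => ?_
    rw [map_mul, map_mul, hxθ, hxθ]
    rfl
  have he0 : (e : k) ≠ 0 := fun h => hep ((CharP.cast_eq_zero_iff k p e).1 h)
  set x1 : Module.End k (Fin (d t) → k) := (e : k)⁻¹ • Frame.θ ρ x with hx1
  have hx1P : ∀ d' ∈ b.1, cj ρ d' x1 = x1 := fun d' hd' => by
    rw [hx1, cj, mul_smul_comm, smul_mul_assoc]
    exact congrArg _ (hxP d' hd')
  have htr : ∑ q : I ⧸ b.1.subgroupOf I, cj ρ ((q.out : I) : G) x1 = f0 := by
    have h1 : ∀ q : I ⧸ b.1.subgroupOf I, cj ρ ((q.out : I) : G) x1 =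
        (e : k)⁻¹ • cj ρ ((q.out : I) : G) (Frame.θ ρ x) := fun q => by
      rw [hx1, cj, mul_smul_comm, smul_mul_assoc]
      rfl
    rw [Finset.sum_congr rfl fun q _ => h1 q, ← Finset.smul_sum,
      sum_quotient_trans ρ b.1 C I hPC hCI hxP, htrC,
      Finset.sum_congr rfl fun q _ => (cj_eq_self_iff ρ).2 (hθf _ (q.out : I).2), Finset.sum_const,
      Finset.card_univ, ← Nat.card_eq_fintype_card, hindex, ← Nat.cast_smul_eq_nsmul k, smul_smul,
      inv_mul_cancel₀ he0, one_smul]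
  have hzp' : ∀ y ∈ Subgroup.zpowers z, y ≠ 1 → Subgroup.zpowers y = Subgroup.zpowers z :=
    fun y hy hy1 => by
    refine Subgroup.eq_of_le_of_card_ge (Subgroup.zpowers_le.2 hy) ?_
    rw [Nat.card_zpowers, Nat.card_zpowers, hzp]
    rcases (Nat.dvd_prime hp).1 (hzp ▸ orderOf_dvd_of_mem_zpowers hy) with h | h
    · exact absurd (orderOf_eq_one_iff.1 h) hy1
    · exact h.ge
  have hdisj : ∀ g' ∉ Subgroup.normalizer (a.1 : Set G), ∀ d' ∈ b.1, g'⁻¹ * d' * g' ∈ b.1 → d' = 1 := by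
    intro g' hg' d' hd' hd''
    by_contra hd1
    refine hg' ?_
    -- a power of `d'` of order `p`
    obtain ⟨v, hv⟩ := IsPGroup.iff_orderOf.1 (hmax.1.1.1 : IsPGroup p b.1) ⟨d', hd'⟩
    rw [Subgroup.orderOf_mk] at hv
    obtain ⟨v', rfl⟩ : ∃ v', v = v' + 1 := ⟨v - 1, by
      have : v ≠ 0 := fun h => hd1 (orderOf_eq_one_iff.1 (by rw [hv, h, pow_zero]))
      omega⟩
    set w := d' ^ p ^ v' with hw
    have hwp : orderOf w = p := by
      rw [hw, orderOf_pow_of_dvd (pow_ne_zero _ hp.ne_zero) (hv ▸ pow_dvd_pow p v'.le_succ), hv,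
        pow_succ, Nat.mul_div_cancel_left _ (pow_pos hp.pos v')]
    have huniq : ∀ y ∈ b.1, orderOf y = p → y ∈ Subgroup.zpowers z := fun y hy hyp => by
      haveI := hcyc
      have hsub : Finset.univ.filter (· ∈ Subgroup.zpowers (⟨z, hz⟩ : b.1)) ⊆
          Finset.univ.filter (fun y : b.1 => y ^ p = 1) := fun y' hy' => by
        obtain ⟨i, rfl⟩ := (Finset.mem_filter.1 hy').2
        refine Finset.mem_filter.2 ⟨Finset.mem_univ _, ?_⟩
        show ((⟨z, hz⟩ : b.1) ^ i) ^ p = 1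
        rw [← zpow_natCast, ← zpow_mul, mul_comm, zpow_mul, zpow_natCast,
          show (⟨z, hz⟩ : b.1) ^ p = 1 from Subtype.ext (by simp [← hzp, pow_orderOf_eq_one]),
          one_zpow]
      have heq := Finset.eq_of_subset_of_card_le hsub ((IsCyclic.card_pow_eq_one_le hp.pos).trans (by
        rw [← Fintype.card_subtype, Fintype.card_eq_nat_card, Nat.card_zpowers, Subgroup.orderOf_mk,
          hzp]))
      have hmem : (⟨y, hy⟩ : b.1) ∈ Finset.univ.filter (fun y : b.1 => y ^ p = 1) :=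
        Finset.mem_filter.2 ⟨Finset.mem_univ _, Subtype.ext (by simp [← hyp, pow_orderOf_eq_one])⟩
      rw [← heq] at hmem
      obtain ⟨i, hi⟩ := Subgroup.mem_zpowers_iff.1 (Finset.mem_filter.1 hmem).2
      exact ⟨i, congrArg Subtype.val hi⟩
    have hw1 : w ≠ 1 := fun h => by rw [h, orderOf_one] at hwp; exact hp.ne_one hwp.symm
    have hwz : w ∈ Subgroup.zpowers z := huniq w (pow_mem hd' _) hwp
    have hwc : g'⁻¹ * w * g' ∈ Subgroup.zpowers z := by
      have h1 : g'⁻¹ * w * g' = (g'⁻¹ * d' * g') ^ p ^ v' := by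
        have := (conj_pow (a := g'⁻¹) (b := d') (i := p ^ v')).symm
        simpa [hw] using this
      refine huniq _ (h1 ▸ pow_mem hd'' _) ?_
      have := (MulAut.conj g'⁻¹).orderOf_eq w
      simpa [hwp] using this
    rw [ha, bu_fst]
    refine map_conj_eq_iff_mem_normalizer.1 ?_
    rw [← hzp' w hwz hw1]
    have hwc1 : g'⁻¹ * w * g' ≠ 1 := fun h => hw1 (by
      have := congrArg (fun y => g' * y * g'⁻¹) h
      simpa [mul_assoc] using this)
    conv_lhs => rw [hzp' w hwz hw1, ← hzp' _ hwc hwc1, MonoidHom.map_zpowers]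
    congr 1
    simp [mul_assoc]
  have hS : ∀ φ : Module.End k (Fin (d t) → k), (∀ h ∈ I, ρ h * φ = φ * ρ h) →
      f0 * φ = φ → φ * f0 = φ → ∃ c : k, IsNull ρ I (φ - c • f0) := by
    intro φ hφ hfφ hφf
    obtain ⟨Φ, hΦ, hnull⟩ := exists_descent ρ b.1 I (Subgroup.normalizer (a.1 : Set G))
      (hPC.trans hCI) (fun y hy => ((mem_pairStab_iff hfZ).1 hy).1)
      (fun h hh => (cj_eq_self_iff ρ).2 (hθf h hh)) horth hx1P htr hdisj
      (fun h hh => (cj_eq_self_iff ρ).2 (hφ h hh)) hfφ hφf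
    have hcen : ∀ X, Φ * X = X * Φ := fun X => by
      obtain ⟨r, rfl⟩ := hΨs X
      rw [hΨρ]
      induction r using MonoidAlgebra.induction_linear with
      | zero => simp
      | add a b ha hb => simp only [map_add, mul_add, add_mul, ha, hb]
      | single y c =>
        simp only [MonoidAlgebra.lift_single, mul_smul_comm, smul_mul_assoc]
        rw [(cj_eq_self_iff ρ).1 (hΦ y)]
    obtain ⟨c, hc⟩ : ∃ c : k, Φ = c • (1 : Module.End k (Fin (d t) → k)) := by
      set E := (Matrix.toLinAlgEquiv' (R := k) (n := Fin (d t)))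
      obtain ⟨c, hc⟩ := Matrix.mem_range_scalar_of_commute_single (M := E.symm Φ) fun i j _ => by
        refine E.injective ?_
        rw [map_mul, map_mul, E.apply_symm_apply]
        exact (hcen _).symm
      refine ⟨c, E.symm.injective ?_⟩
      rw [map_smul, map_one, ← hc]
      simp [Matrix.smul_one_eq_diagonal]
    refine ⟨c, ?_⟩
    rw [hc, mul_smul_comm, mul_one, smul_mul_assoc,
      show f0 * f0 = f0 by rw [hf0, ← map_mul, F.ff]] at hnull
    rw [← neg_sub]
    exact hnull.neg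
  have := F.twist_unique ρ hCI hgI hdec hθf hS (hζ i) (hζ j) hπie hπin hπje hπjn
  exact Fin.ext (hω.pow_inj i.2 j.2 this)

end Cfsg.Agent.Lib.CyclicDefect
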