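import Mathlib
import Cfsg.Agent.Lib.AbelianStar.Nested
import Cfsg.Agent.Lib.NilBlock.Contribution

/-!
# Contributions of functions and their restriction to the centralizer of an element of order `p`
-/

set_option autoImplicit false
set_option linter.unusedSectionVars false

namespace Cfsg.Agent.Lib.CyclicDefect

open Cfsg
open Cfsg.Agent.Lib
open Cfsg.Agent.Lib.BrauerPairs
open Cfsg.Agent.Lib.AbelianStar
open Cfsg.Agent.Lib.NilBlock (bu bu_fst centralizer_bu con)
open scoped ComplexConjugate

universe u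

attribute [local instance] Classical.propDecidable

variable {G : Type u} [Group G] [Fintype G] {p : ℕ} {M : Ideal AlgInt} [Fact p.Prime] [M.IsPrime]
  {B : Set (IrrCharacter G)} {b : BrauerPairIdx G}

/-- The coefficient of a function at a section. -/
noncomputable def secFun (p : ℕ) (v : G) (f : G → ℂ) {K : Subgroup G} (ξ : IrrCharacter K) : ℂ :=
  classInner (pRegularPart p fun c : K => f (v * (c : G))) (ξ : K → ℂ)

/-- The contribution of a Brauer element to a pair of functions. -/
noncomputable def conFun (p : ℕ) (v : G) (a : BrauerPairIdx G) (f f' : G → ℂ) : ℂ :=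
  ∑ ξ ∈ a.2.toFinset, secFun p v f ξ * conj (secFun p v f' ξ)

theorem conFun_irr (v : G) (a : BrauerPairIdx G) (χ ψ : IrrCharacter G) :
    conFun p v a (χ : G → ℂ) (ψ : G → ℂ) = con p v a χ ψ := rfl

theorem secFun_conj (f : G → ℂ) (v x : G) {Q : Subgroup G}
    (ξ : IrrCharacter (Subgroup.centralizer (Q : Set G))) :
    secFun p (x * v * x⁻¹) (fun y => f (x⁻¹ * y * x)) (Chars.irrCongr (centEquiv Q x).symm ξ) =
      secFun p v f ξ := by
  simp only [secFun, classInner]
  rw [Nat.card_congr (centEquiv Q x).toEquiv]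
  congr 1
  refine (Fintype.sum_equiv (centEquiv Q x).toEquiv _ _ fun c => ?_).symm
  simp only [MulEquiv.toEquiv_eq_coe, EquivLike.coe_coe, BrauerMap.irrCongr_apply,
    MulEquiv.symm_apply_apply, BrauerFeit.pRegularPart_apply, MulEquiv.orderOf_eq, coe_centEquiv]
  congr 1
  split_ifs
  · rfl
  · congr 1
    group

theorem conFun_conj (v x : G) (a : BrauerPairIdx G) (f f' : G → ℂ) :
    conFun p (x * v * x⁻¹) (conjPair x a) (fun y => f (x⁻¹ * y * x))
      (fun y => f' (x⁻¹ * y * x)) = conFun p v a f f' := by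
  show conFun p _ ⟨_, conjBlock a.1 x a.2⟩ _ _ = _
  simp only [conFun]
  rw [show (conjBlock a.1 x a.2).toFinset =
    a.2.toFinset.image (Chars.irrCongr (centEquiv a.1 x).symm) from by
      ext
      rw [Set.mem_toFinset, conjBlock_eq_image, Finset.mem_image]
      simp only [Set.mem_image, Set.mem_toFinset],
    Finset.sum_image (fun _ _ _ _ h => (Chars.irrCongr _).injective h)]
  exact Finset.sum_congr rfl fun ξ _ => by rw [secFun_conj, secFun_conj]

/-- A function of a subgroup extended by zero. -/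
noncomputable def extFun {C : Subgroup G} (η : C → ℂ) : G → ℂ := fun y =>
  if h : y ∈ C then η ⟨y, h⟩ else 0

theorem extFun_apply {C : Subgroup G} (η : C → ℂ) (c : C) : extFun η (c : G) = η c :=
  dif_pos c.2

variable (hM : IsPModular p M) (hmax : IsMaximalBrauerPair p M B b.1 b.2)
  (hab : ∀ x ∈ b.1, ∀ y ∈ b.1, x * y = y * x)

/-- Induction inside a subgroup, with the section coefficients. -/
theorem exists_push {D P : Subgroup G} {P' : Subgroup D}
    {c : Set (IrrCharacter (Subgroup.centralizer (P : Set G)))} (hc : IsPBlock M c)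
    (e : Subgroup.centralizer (P : Set G) ≃* Subgroup.centralizer (P' : Set D))
    (he : ∀ k, (((e k : Subgroup.centralizer (P' : Set D)) : D) : G) = (k : G))
    {L : Subgroup D} {f : Set (IrrCharacter L)}
    (hf : IsInducedBlockIn M L (Subgroup.centralizer (P' : Set D)) (Chars.irrCongr e.symm '' c) f)
    (K : Subgroup G) (hK : K = L.map D.subtype) :
    ∃ g : Set (IrrCharacter K), IsInducedBlockIn M K (Subgroup.centralizer (P : Set G)) c g ∧
      ∀ (v : D) (F F' : G → ℂ),
        ∑ ξ ∈ g.toFinset, secFun p (v : G) F ξ * conj (secFun p (v : G) F' ξ) =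
          ∑ ξ ∈ f.toFinset, secFun p v (fun y : D => F y) ξ *
            conj (secFun p v (fun y : D => F' y) ξ) := by
  subst hK
  set eL := L.equivMapOfInjective D.subtype D.subtype_injective
  have heL : ∀ l : L, ((eL l : L.map D.subtype) : G) = ((l : D) : G) := fun l => rfl
  refine ⟨Chars.irrCongr eL.symm '' f, ⟨hc, BrauerMap.isPBlock_image_irrCongr _ hf.2.1, ?_⟩, ?_⟩
  · rintro ξ hξ _ ⟨χ, hχ, rfl⟩ h
    obtain ⟨l, rfl⟩ := eL.surjective h
    have h1 := hf.2.2 _ ⟨ξ, hξ, rfl⟩ χ hχ l
    rw [show (Chars.irrCongr eL.symm χ : L.map D.subtype → ℂ) = fun y => (χ : L → ℂ) (eL.symm y)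
      from rfl, BrauerMap.centralChar_comp_mulEquiv, eL.symm_apply_apply]
    refine (congrArg (fun z => MemLocalIdeal M (z - centralChar (χ : L → ℂ) l)) ?_).mp h1
    unfold inducedCentralCharIn
    refine finsum_mem_eq_of_bijOn e.symm ⟨fun k hk => ?_, e.symm.injective.injOn, fun k hk => ?_⟩
      fun k _ => by simp [BrauerMap.irrCongr_apply]
    · obtain ⟨x, hx⟩ := hk
      refine ⟨eL x, ?_⟩
      rw [heL, heL, ← hx, Subgroup.coe_mul, Subgroup.coe_mul, Subgroup.coe_inv, ← he (e.symm k),
        e.apply_symm_apply]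
    · obtain ⟨x, hx⟩ := hk
      obtain ⟨x, rfl⟩ := eL.surjective x
      refine ⟨e k, ⟨x, Subtype.ext ?_⟩, e.symm_apply_apply k⟩
      rw [Subgroup.coe_mul, Subgroup.coe_mul, Subgroup.coe_inv, he]
      rw [heL, heL] at hx
      exact hx
  · intro v F F'
    have hsec : ∀ (H : G → ℂ) (ξ : IrrCharacter L),
        secFun p (v : G) H (Chars.irrCongr eL.symm ξ) = secFun p v (fun y : D => H y) ξ := by
      intro H ξ
      simp only [secFun, classInner]
      rw [Nat.card_congr eL.toEquiv]
      congr 1
      refine (Fintype.sum_equiv eL.toEquiv _ _ fun l => ?_).symm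
      simp only [MulEquiv.toEquiv_eq_coe, EquivLike.coe_coe, BrauerMap.irrCongr_apply,
        MulEquiv.symm_apply_apply, BrauerFeit.pRegularPart_apply, MulEquiv.orderOf_eq, heL,
        Subgroup.coe_mul]
    refine (Finset.sum_bij (fun ξ _ => Chars.irrCongr eL.symm ξ) (fun ξ hξ => ?_)
      (fun _ _ _ _ h => (Chars.irrCongr _).injective h) (fun ξ hξ => ?_) fun ξ _ => by
        rw [hsec, hsec]).symm
    · exact (@Set.mem_toFinset _ _ (_) _).2 ⟨ξ, Set.mem_toFinset.1 hξ, rfl⟩
    · obtain ⟨η, hη, rfl⟩ := (@Set.mem_toFinset _ _ (_) _).1 hξ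
      exact ⟨η, Set.mem_toFinset.2 hη, rfl⟩

include hM hmax in
/-- The contribution inside the centralizer of `z` is the contribution of the extensions. -/
theorem con_local_eq {z : G} (hz : z ∈ b.1) {w : G} (hw : w ∈ b.1)
    (hcent : Subgroup.centralizer ({w} : Set G) ≤ Subgroup.centralizer ({z} : Set G))
    (w' : Subgroup.centralizer ((bu p M b z).1 : Set G)) (hw' : (w' : G) = w) (F F' : G → ℂ) :
    conFun p w' (bu p M (locPair p M b hab hz) w') (fun y => F y) (fun y => F' y) =
      conFun p w (bu p M b w) F F' := by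
  have hmem : w' ∈ (locPair p M b hab hz).1 := (mem_locPair hab hz).2 (hw' ▸ hw)
  have hmax' := isMaximal_locPair hM hmax hab hz
  obtain ⟨g, hg, hsum⟩ := exists_push (p := p) hmax.1.1.2
    (LocalInertial.sub (le_cent hab hz) (zpowers_le_pair hz)) (fun k => rfl)
    (isInducedBlockIn_bu hM hmax' (locPair_comm hab hz) hmem)
    (Subgroup.centralizer ((bu p M b w).1 : Set G)) (by
      rw [centralizer_bu, centralizer_bu (b := locPair p M b hab hz)]
      ext x
      simp only [Subgroup.mem_map, Subgroup.mem_centralizer_singleton_iff, Subgroup.coe_subtype,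
        Subtype.exists]
      constructor
      · intro h1
        refine ⟨x, ?_, Subtype.ext (by simpa [hw'] using h1), rfl⟩
        rw [centralizer_bu]
        exact hcent (Subgroup.mem_centralizer_singleton_iff.2 h1)
      · rintro ⟨y, hy, h2, rfl⟩
        simpa [hw'] using congrArg Subtype.val h2)
  have hgb : g = (bu p M b w).2 :=
    isInducedBlockIn_unique hg (isInducedBlockIn_bu hM hmax hab hw)
  subst hgb
  simp only [conFun]
  rw [← hw']
  have := hsum w' F F'
  rw [hw'] at this ⊢
  exact this.symm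

end Cfsg.Agent.Lib.CyclicDefect
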