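import Mathlib
import Cfsg.Agent.Lib.CyclicDefect.Bound
import Cfsg.Agent.Lib.FreeInertia.Rows
import Cfsg.Agent.Lib.Fusion.Extender

/-!
# The numbers of characters and of Brauer characters of a block with cyclic defect group
-/

set_option autoImplicit false
set_option linter.unusedSectionVars false

namespace Cfsg.Agent.Lib.CyclicDefect

open Finset Cfsg
open Cfsg.Agent.Lib
open Cfsg.Agent.Lib.BrauerPairs
open Cfsg.Agent.Lib.AbelianStar
open Cfsg.Agent.Lib.NilBlock (bu bu_fst centralizer_bu)

universe u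

attribute [local instance] Classical.propDecidable

variable {G : Type u} [Group G] [Fintype G] {p : ℕ} [Fact p.Prime] {M : Ideal AlgInt} [M.IsPrime]
  {B : Set (IrrCharacter G)} {b : BrauerPairIdx G}

theorem comm_of_isCyclic (hcyc : IsCyclic b.1) : ∀ x ∈ b.1, ∀ y ∈ b.1, x * y = y * x :=
  fun x hx y hy => by
    letI := hcyc.commGroup
    exact congrArg Subtype.val (mul_comm (⟨x, hx⟩ : b.1) ⟨y, hy⟩)

theorem centralizer_le_pairStab (h : IsPBlock M b.2) :
    Subgroup.centralizer (b.1 : Set G) ≤ pairStab h :=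
  le_trans le_sup_right (core_le_pairStab h)

/-- The induced automorphisms are counted by the index of the centralizer. -/
theorem card_iner (h : IsPBlock M b.2) :
    Nat.card (FreeInertia.iner h) = (Subgroup.centralizer (b.1 : Set G)).relIndex (pairStab h) := by
  have h1 := Fusion.card_autInducedBy_mul (pairStab h) b.1
  rw [inf_eq_right.2 (centralizer_le_pairStab h),
    inf_eq_left.2 (fun y hy => ((mem_pairStab_iff h).1 hy).1)] at h1
  have h2 := Subgroup.card_mul_index ((Subgroup.centralizer (b.1 : Set G)).subgroupOf (pairStab h))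
  rw [Nat.card_congr (Subgroup.subgroupOfEquivOfLe (centralizer_le_pairStab h)).toEquiv,
    mul_comm] at h2
  exact Nat.eq_of_mul_eq_mul_right (Nat.card_pos (α := Subgroup.centralizer (b.1 : Set G)))
    (h1.trans h2.symm)

variable (hM : IsPModular p M) (hmax : IsMaximalBrauerPair p M B b.1 b.2) (hcyc : IsCyclic b.1)
  (hne : b.1 ≠ ⊥)

include hM hmax hcyc hne in
theorem inertia_dvd :
    (Subgroup.centralizer (b.1 : Set G)).relIndex (pairStab hmax.1.1.2) ∣ p - 1 := by
  haveI : Nontrivial b.1 := (Subgroup.nontrivial_iff_ne_bot b.1).2 hne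
  obtain ⟨⟨z, hz⟩, hzp⟩ := exists_prime_orderOf_dvd_card' (G := b.1) p (by
    obtain ⟨n, hn⟩ := IsPGroup.iff_card.1 (hmax.1.1.1 : IsPGroup p b.1)
    have h1 : 1 < Nat.card b.1 := Finite.one_lt_card
    rw [hn] at h1 ⊢
    exact dvd_pow_self p fun h0 => by rw [h0, pow_zero] at h1; omega)
  rw [Subgroup.orderOf_mk] at hzp
  obtain ⟨_, _, _, _, h, _⟩ := exists_stab_gen hM hmax hcyc hz hzp
  exact h

include hM hmax hcyc hne in
/-- `l(B) = e` and `k(B) = e + (|D| - 1)/e`. -/
theorem rank_and_card :
    blockRank p B = (Subgroup.centralizer (b.1 : Set G)).relIndex (pairStab hmax.1.1.2) ∧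
      Nat.card B = (Subgroup.centralizer (b.1 : Set G)).relIndex (pairStab hmax.1.1.2) +
        (Nat.card b.1 - 1) / (Subgroup.centralizer (b.1 : Set G)).relIndex (pairStab hmax.1.1.2) := by
  have hab := comm_of_isCyclic hcyc
  have hfree := FreeInertia.isFree_of_isCyclic hM hmax hab hcyc
  have hle := inertia_le_blockRank hM hmax hcyc hne
  have hP1 : ∃ w : b.1, w ≠ 1 := by
    haveI : Nontrivial b.1 := (Subgroup.nontrivial_iff_ne_bot b.1).2 hne
    exact exists_ne 1
  set e := (Subgroup.centralizer (b.1 : Set G)).relIndex (pairStab hmax.1.1.2) with he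
  by_cases hp2 : p = 2
  · -- the block is nilpotent
    have he1 : e = 1 := Nat.eq_one_of_dvd_one (by
      have := inertia_dvd hM hmax hcyc hne
      rw [← he] at this
      simpa [hp2] using this)
    have hT : ∀ g ∈ pairStab hmax.1.1.2, g ∈ Subgroup.centralizer (b.1 : Set G) :=
      Subgroup.relIndex_eq_one.1 he1
    have hl : blockRank p B = 1 := by
      rw [← blockRank_bu_of_mem_center hM hmax b.1.one_mem (Subgroup.one_mem _)]
      refine NilBlock.blockRank_eq_one hM ((LocalInertial.isNilpotentBlock_iff hM hab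
        (zpowers_le_pair b.1.one_mem) hmax
        (isInducedBlockIn_bu hM hmax hab b.1.one_mem)).2 fun g _ hgN hst =>
          hT g ((mem_pairStab_iff_stabilizesBlock hmax.1.1.2).2 ⟨hgN, hst⟩))
    refine ⟨hl.trans he1.symm, ?_⟩
    have h := FreeInertia.card_eq_rank_add hM hmax hab hfree
    rw [Finset.sum_congr rfl (g := fun _ => (1 : ℂ)) fun w hw => by
      rw [FreeInertia.card_orb hmax hfree (Finset.mem_erase.1 hw).1, card_iner, ← he, he1,
        Nat.cast_one, inv_one], Finset.sum_const, nsmul_one,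
      Finset.card_erase_of_mem (Finset.mem_univ _), Finset.card_univ, Fintype.card_eq_nat_card,
      ← Nat.card_eq_card_toFinset, hl] at h
    rw [he1, Nat.div_one]
    exact_mod_cast h
  · have hc := FreeInertia.counts hM hmax hab hfree
      (FreeInertia.hasSigns_odd hM hmax hab hfree hp2 hP1) hP1
    rw [card_iner hmax.1.1.2, ← he] at hc
    obtain ⟨h1, h2, -⟩ := hc
    exact ⟨by omega, by omega⟩

end Cfsg.Agent.Lib.CyclicDefect
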