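import Mathlib
import Cfsg.Agent.Lib.CyclicDefect.Rank
import Cfsg.Agent.Lib.BrauerPairs.KernelCore

/-!
# From a block of the centralizer of a cyclic defect group to a maximal pair
-/

set_option autoImplicit false
set_option linter.unusedSectionVars false

namespace Cfsg.Agent.Lib.CyclicDefect

open Cfsg
open Cfsg.Agent.Lib
open Cfsg.Agent.Lib.BrauerPairs

universe u

variable {G : Type u} [Group G] [Finite G]

theorem stabilizesBlock_iff_forall {D : Subgroup G}
    (b : Set (IrrCharacter (Subgroup.centralizer (D : Set G)))) {g : G}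
    (hg : g ∈ Subgroup.normalizer (D : Set G)) :
    StabilizesBlock (Subgroup.centralizer (D : Set G)) b g ↔
      ∀ θ ∈ b, ∀ θ' : IrrCharacter (Subgroup.centralizer (D : Set G)),
        (∀ h h' : Subgroup.centralizer (D : Set G), (h' : G) = g * h * g⁻¹ →
          (θ' : Subgroup.centralizer (D : Set G) → ℂ) h' =
            (θ : Subgroup.centralizer (D : Set G) → ℂ) h) → θ' ∈ b := by
  have hgC := BrauerMap.normalizer_le_normalizer_centralizer' D hg
  constructor
  · intro h θ hθ θ' hθ'
    obtain ⟨θ'', hθ''b, hθ''⟩ := h.2 θ hθ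
    rw [BrauerMap.eq_irrCongr_of_isConjCharOf g hgC hθ',
      ← BrauerMap.eq_irrCongr_of_isConjCharOf g hgC hθ'']
    exact hθ''b
  · exact fun h => ⟨hgC, fun θ hθ =>
      ⟨_, h θ hθ _ (BrauerMap.isConjCharOf_irrCongr g hgC θ),
        BrauerMap.isConjCharOf_irrCongr g hgC θ⟩⟩

theorem setup {p : ℕ} [Fact p.Prime] {M : Ideal AlgInt} [M.IsPrime] (hM : IsPModular p M)
    {D : Subgroup G} {B : Set (IrrCharacter G)} (hBD : IsDefectGroup p M B D)
    {a : ℕ} (hDa : Nat.card D = p ^ a)
    {b : Set (IrrCharacter (Subgroup.centralizer (D : Set G)))}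
    (hind : IsInducedBlock M (Subgroup.centralizer (D : Set G)) b B) {T : Subgroup G}
    (hT : ∀ g : G, g ∈ T ↔ (g ∈ Subgroup.normalizer (D : Set G) ∧
      StabilizesBlock (Subgroup.centralizer (D : Set G)) b g)) :
    ∃ hmax : IsMaximalBrauerPair p M B (⟨D, b⟩ : BrauerPairIdx G).1 b,
      T = pairStab (a := ⟨D, b⟩) hmax.1.1.2 := by
  haveI : Fintype G := Fintype.ofFinite G
  have hP : IsPGroup p D := IsPGroup.of_card hDa
  have hmax := KernelCore.isMaximal_of_defectGroup hM (a := ⟨D, b⟩)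
    (isBrauerPairOf_of_isInducedBlock hP hind) hBD
  refine ⟨hmax, Subgroup.ext fun g => ?_⟩
  rw [hT, mem_pairStab_iff_stabilizesBlock]

end Cfsg.Agent.Lib.CyclicDefect
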