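import Mathlib
import Cfsg.Agent.Lib.FreeInertia.Comb

/-!
# Rows with Gram matrix `e + δ` in the extremal case
-/

set_option autoImplicit false
set_option linter.unusedSectionVars false

namespace Cfsg.Agent.Lib.CyclicDefect.Shape

open Finset

variable {ι J : Type*} [Fintype ι] [Fintype J] [DecidableEq ι] [DecidableEq J] {m : ι → J → ℤ}
  {e : ℕ}

theorem sq_one {x : ℤ} (h : x * x = 1) : x = 1 ∨ x = -1 :=
  mul_self_eq_one_iff.1 h

/-- A nonzero vector attains the minimum only as a signed unit vector or a signed constant one. -/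
theorem eq_cases (x : J → ℤ) (hx : ∃ j, x j ≠ 0)
    (h : ((Fintype.card J : ℤ) + 1) * ∑ j, x j ^ 2 - (∑ j, x j) ^ 2 ≤ (Fintype.card J : ℤ)) :
    (∃ j, (x j = 1 ∨ x j = -1) ∧ ∀ i, i ≠ j → x i = 0) ∨
      ∃ w : ℤ, (w = 1 ∨ w = -1) ∧ ∀ j, x j = w := by
  set t : ℤ := (Fintype.card J : ℤ) with ht
  set F := univ.filter fun j => x j ≠ 0
  set s : ℤ := (F.card : ℤ) with hs
  have hs1 : 1 ≤ s := by
    obtain ⟨j, hj⟩ := hx
    have : 0 < F.card := Finset.card_pos.2 ⟨j, by simp [F, hj]⟩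
    omega
  have hst : s ≤ t := by
    have := Finset.card_le_univ F
    omega
  have hsum : ∑ j, x j = ∑ j ∈ F, x j := (Finset.sum_filter_ne_zero univ).symm
  have hsq : ∑ j, x j ^ 2 = ∑ j ∈ F, x j ^ 2 := by
    refine (Finset.sum_subset (Finset.subset_univ F) fun j _ hj => ?_).symm
    simp only [F, Finset.mem_filter, Finset.mem_univ, true_and, not_not] at hj
    rw [hj]; norm_num
  have hcs : (∑ j ∈ F, x j) ^ 2 ≤ s * ∑ j ∈ F, x j ^ 2 := sq_sum_le_card_mul_sum_sq
  have hone : ∀ j ∈ F, 1 ≤ x j ^ 2 := fun j hj => by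
    have hne : x j ≠ 0 := (Finset.mem_filter.1 hj).2
    have : 0 < x j ^ 2 := by positivity
    omega
  have hS : s ≤ ∑ j ∈ F, x j ^ 2 := by
    rw [hs, Finset.card_eq_sum_ones, Nat.cast_sum]
    push_cast
    exact Finset.sum_le_sum hone
  rw [hsum, hsq] at h
  have h1 : 0 ≤ (t + 1 - s) * (∑ j ∈ F, x j ^ 2 - s) := mul_nonneg (by linarith) (by linarith)
  have h2 : 0 ≤ (s - 1) * (t - s) := mul_nonneg (by linarith) (by linarith)
  have hA : ∑ j ∈ F, x j ^ 2 = s := by
    have : (t + 1 - s) * (∑ j ∈ F, x j ^ 2 - s) = 0 := by nlinarith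
    rcases mul_eq_zero.1 this with h' | h' <;> linarith
  have hst' : (s - 1) * (t - s) = 0 := by nlinarith
  have hS2 : (∑ j ∈ F, x j) * (∑ j ∈ F, x j) = s * s := by nlinarith
  have hpm : ∀ j ∈ F, x j = 1 ∨ x j = -1 := fun j hj => by
    refine sq_one ?_
    have hz : ∑ i ∈ F, (x i ^ 2 - 1) = 0 := by
      rw [Finset.sum_sub_distrib, hA]
      simp [hs]
    have := (Finset.sum_eq_zero_iff_of_nonneg fun i hi => by linarith [hone i hi]).1 hz j hj
    rw [← pow_two]
    linarith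
  rcases mul_eq_zero.1 hst' with hc | hc
  · -- one nonzero entry
    left
    obtain ⟨j, hj⟩ := Finset.card_eq_one.1 (show F.card = 1 by omega)
    refine ⟨j, hpm j (by simp [hj]), fun i hi => ?_⟩
    by_contra hxi
    have : i ∈ F := by simp [F, hxi]
    rw [hj, Finset.mem_singleton] at this
    exact hi this
  · -- no zero entry
    right
    have hF : F = univ := Finset.eq_univ_of_card F (by omega)
    obtain ⟨w, hw, hwS⟩ : ∃ w : ℤ, (w = 1 ∨ w = -1) ∧ ∑ j ∈ F, x j = w * s := by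
      rcases mul_self_eq_mul_self_iff.1 hS2 with h' | h'
      · exact ⟨1, Or.inl rfl, by rw [h']; ring⟩
      · exact ⟨-1, Or.inr rfl, by rw [h']; ring⟩
    refine ⟨w, hw, fun j => ?_⟩
    have hz : ∑ i ∈ F, (1 - w * x i) = 0 := by
      rw [Finset.sum_sub_distrib, ← Finset.mul_sum, hwS, ← mul_assoc]
      rcases hw with rfl | rfl <;> simp [hs]
    have hj : j ∈ F := hF ▸ Finset.mem_univ j
    have := (Finset.sum_eq_zero_iff_of_nonneg fun i hi => by
      rcases hw with rfl | rfl <;> rcases hpm i hi with h' | h' <;> rw [h'] <;> norm_num).1 hz j hj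
    rcases hw with rfl | rfl <;> linarith

/-- In the extremal case there are `e` constant rows and one unit row for each column. -/
theorem shape (hG : ∀ i j, ∑ χ, m χ i * m χ j = (e : ℤ) + if i = j then 1 else 0)
    (hne : ∀ χ, ∃ j, m χ j ≠ 0) (hcard : Fintype.card ι = e + Fintype.card J)
    (hJ : 0 < Fintype.card J) :
    ∃ (Y : J → ι) (σ : J → ℤ), Function.Injective Y ∧ (∀ a, σ a = 1 ∨ σ a = -1) ∧
      (∀ a b, m (Y a) b = if a = b then σ a else 0) ∧
      ∀ χ, χ ∉ Set.range Y → ∃ w : ℤ, (w = 1 ∨ w = -1) ∧ ∀ b, m χ b = w := by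
  set t : ℤ := (Fintype.card J : ℤ) with ht
  set Q : ι → ℤ := fun χ => (t + 1) * ∑ j, m χ j ^ 2 - (∑ j, m χ j) ^ 2 with hQ
  have hlow : ∀ χ, t ≤ Q χ := fun χ => FreeInertia.Comb.le_sum_sq (m χ) (hne χ)
  have htot : ∑ χ, Q χ = ∑ _χ : ι, t := by
    have h2 : ∑ χ, ∑ j, m χ j ^ 2 = t * ((e : ℤ) + 1) := by
      rw [Finset.sum_comm, Finset.sum_congr rfl (g := fun _ => (e : ℤ) + 1) fun j _ => by
        rw [← (show (e : ℤ) + (if j = j then 1 else 0) = e + 1 by simp), ← hG]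
        exact Finset.sum_congr rfl fun χ _ => sq _]
      simp [ht]
    have h3 : ∑ χ, (∑ j, m χ j) ^ 2 = t * (t * e + 1) := by
      simp only [sq, Finset.sum_mul_sum]
      rw [Finset.sum_comm, Finset.sum_congr rfl fun i _ => by
        rw [Finset.sum_comm, Finset.sum_congr rfl fun j _ => hG i j]]
      simp [Finset.sum_add_distrib, ht]
    simp only [hQ]
    rw [Finset.sum_sub_distrib, ← Finset.mul_sum, h2, h3, Finset.sum_const, Finset.card_univ, hcard,
      nsmul_eq_mul]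
    push_cast
    rw [← ht]
    ring
  have heq : ∀ χ, Q χ ≤ t := fun χ =>
    ((Finset.sum_eq_sum_iff_of_le fun χ _ => hlow χ).1 htot.symm χ (Finset.mem_univ _)).ge
  have hcases := fun χ => eq_cases (m χ) (hne χ) (heq χ)
  by_cases h1 : Fintype.card J = 1
  · obtain ⟨i0, hi0⟩ := Fintype.card_eq_one_iff.1 h1
    obtain ⟨χ0⟩ : Nonempty ι := Fintype.card_pos_iff.1 (by omega)
    have hall : ∀ χ, ∃ w : ℤ, (w = 1 ∨ w = -1) ∧ ∀ b, m χ b = w := fun χ => by
      rcases hcases χ with ⟨j, hj, -⟩ | h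
      · exact ⟨m χ j, hj, fun b => by rw [hi0 b, hi0 j]⟩
      · exact h
    refine ⟨fun _ => χ0, fun _ => m χ0 i0, fun a b _ => (hi0 a).trans (hi0 b).symm, fun a => ?_,
      fun a b => ?_, fun χ _ => hall χ⟩
    · obtain ⟨w, hw, h⟩ := hall χ0
      rwa [h i0]
    · rw [if_pos ((hi0 a).trans (hi0 b).symm), hi0 b]
  -- at least two columns
  set W := univ.filter fun χ => ∀ b, m χ b ≠ 0 with hW
  set P : J → Finset ι := fun a => univ.filter fun χ => m χ a ≠ 0 ∧ ∀ b, b ≠ a → m χ b = 0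
  have hmemP : ∀ {χ a}, χ ∈ P a ↔ m χ a ≠ 0 ∧ ∀ b, b ≠ a → m χ b = 0 := fun {χ a} => by simp [P]
  have hsplit : ∀ χ, (χ ∈ W ∧ ∃ w : ℤ, (w = 1 ∨ w = -1) ∧ ∀ b, m χ b = w) ∨
      ∃ a, χ ∈ P a ∧ (m χ a = 1 ∨ m χ a = -1) := fun χ => by
    rcases hcases χ with ⟨j, hj, hz⟩ | ⟨w, hw, h⟩
    · exact Or.inr ⟨j, hmemP.2 ⟨by rcases hj with h | h <;> rw [h] <;> norm_num, hz⟩, hj⟩
    · refine Or.inl ⟨?_, w, hw, h⟩
      simp only [hW, Finset.mem_filter, Finset.mem_univ, true_and, h]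
      rcases hw with rfl | rfl <;> intro _ <;> norm_num
  have hdisj : ∀ {χ a b}, a ≠ b → χ ∈ P a → m χ b = 0 := fun {χ a b} hab h =>
    (hmemP.1 h).2 b hab.symm
  have hnotW : ∀ {χ a}, χ ∈ P a → χ ∉ W := fun {χ a} h hW' => by
    obtain ⟨b, hb⟩ := Fintype.exists_ne_of_one_lt_card (show 1 < Fintype.card J by omega) a
    exact (Finset.mem_filter.1 hW').2 b ((hmemP.1 h).2 b hb)
  have hWe : (W.card : ℤ) = e := by
    obtain ⟨i, j, hij⟩ := Fintype.one_lt_card_iff.1 (show 1 < Fintype.card J by omega)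
    have h := hG i j
    rw [if_neg hij, add_zero, ← Finset.sum_subset (Finset.subset_univ W) (fun χ _ hχ => by
      rcases hsplit χ with ⟨h', -⟩ | ⟨a, ha, -⟩
      · exact absurd h' hχ
      · by_cases hai : a = i
        · subst hai
          rw [hdisj hij ha, mul_zero]
        · rw [hdisj hai ha, zero_mul]), Finset.sum_congr rfl (g := fun _ => (1 : ℤ)) (fun χ hχ => by
      rcases hsplit χ with ⟨-, w, hw, h'⟩ | ⟨a, ha, -⟩
      · rw [h', h']
        rcases hw with rfl | rfl <;> norm_num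
      · exact absurd hχ (hnotW ha))] at h
    simpa using h
  have hPa : ∀ a, (P a).card = 1 := fun a => by
    have hone_W : ∀ χ ∈ W, m χ a * m χ a = (fun _ => (1 : ℤ)) χ := fun χ hχ => by
      rcases hsplit χ with ⟨-, w, hw, h'⟩ | ⟨c, hc, -⟩
      · rw [h']
        rcases hw with rfl | rfl <;> norm_num
      · exact absurd hχ (hnotW hc)
    have hone_P : ∀ χ ∈ P a, m χ a * m χ a = (fun _ => (1 : ℤ)) χ := fun χ hχ => by
      rcases hsplit χ with ⟨h', -⟩ | ⟨c, hc, hpm⟩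
      · exact absurd h' (hnotW hχ)
      · have : c = a := by
          by_contra hca
          exact (hmemP.1 hχ).1 (hdisj hca hc)
        subst this
        rcases hpm with h' | h' <;> rw [h'] <;> norm_num
    have h := hG a a
    rw [if_pos rfl, ← Finset.sum_subset (Finset.subset_univ (W ∪ P a)) (fun χ _ hχ => by
      rw [Finset.mem_union, not_or] at hχ
      rcases hsplit χ with ⟨h', -⟩ | ⟨c, hc, -⟩
      · exact absurd h' hχ.1
      · rw [hdisj (fun h'' => hχ.2 (by rw [← h'']; exact hc)) hc, zero_mul]),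
      Finset.sum_union (Finset.disjoint_left.2 fun χ hχ hχ' => hnotW hχ' hχ),
      Finset.sum_congr rfl hone_W, Finset.sum_congr rfl hone_P] at h
    simp only [Finset.sum_const, nsmul_eq_mul, mul_one] at h
    omega
  choose Y hY using fun a => Finset.card_eq_one.1 (hPa a)
  have hYmem : ∀ a, Y a ∈ P a := fun a => by simp [hY a]
  refine ⟨Y, fun a => m (Y a) a, fun a b h => ?_, fun a => ?_, fun a b => ?_, fun χ hχ => ?_⟩
  · by_contra hab
    exact (hmemP.1 (hYmem b)).1 (h ▸ hdisj hab (hYmem a))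
  · rcases hsplit (Y a) with ⟨h', -⟩ | ⟨c, hc, hpm⟩
    · exact absurd h' (hnotW (hYmem a))
    · obtain rfl : c = a := by
        by_contra hca
        exact (hmemP.1 (hYmem a)).1 (hdisj hca hc)
      exact hpm
  · split_ifs with hab
    · rw [hab]
    · exact hdisj hab (hYmem a)
  · rcases hsplit χ with ⟨-, h⟩ | ⟨a, ha, -⟩
    · exact h
    · rw [hY a, Finset.mem_singleton] at ha
      exact absurd ⟨a, ha.symm⟩ hχ

end Cfsg.Agent.Lib.CyclicDefect.Shape
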