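import Mathlib
import Cfsg.Agent.Lib.FreeInertia.Rows
import Cfsg.Agent.Lib.CyclicDefect.Shape

/-!
# The rows of a block with as many characters as free inertial action allows
-/

set_option autoImplicit false
set_option linter.unusedSectionVars false

namespace Cfsg.Agent.Lib.CyclicDefect

open Finset Cfsg Cfsg.Agent.Lib Cfsg.Agent.Lib.BrauerPairs Cfsg.Agent.Lib.AbelianStar
open Cfsg.Agent.Lib.FreeInertia
open Cfsg.Agent.Lib.NilBlock (bu bu_fst centralizer_bu con)
open Cfsg.Agent.Lib.Blocks (localRing mem_localRing)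
open Cfsg.Agent.Lib.Star (Spn)
open scoped ComplexConjugate

universe u

attribute [local instance] Classical.propDecidable

variable {G : Type u} [Group G] [Fintype G] {p : ℕ} {M : Ideal AlgInt} [Fact p.Prime] [M.IsPrime]
  {B : Set (IrrCharacter G)} {b : BrauerPairIdx G}

/-- The linear characters of the pair, as a finite type. -/
noncomputable instance homFintype (P : Subgroup G) : Fintype (P →* ℂˣ) :=
  @Fintype.ofFinite _ (Finite.of_injective _ Chars.linIrr_injective)

/-- The rows of a block attaining the bound on the number of characters: `e` constant rows and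
one unit row for each orbit of nontrivial linear characters. -/
structure RowData (p : ℕ) [Fact p.Prime] (M : Ideal AlgInt) [M.IsPrime]
    (B : Set (IrrCharacter G)) (b : BrauerPairIdx G) (h : IsPBlock M b.2) where
  /-- the signs of the subsections -/
  ε : b.1 → ℤ
  /-- the rows -/
  N : IrrCharacter G → (b.1 →* ℂˣ) → ℤ
  /-- the constant rows -/
  X : Set (IrrCharacter G)
  /-- the unit rows -/
  Y : Set (IrrCharacter G)
  /-- the signs of the characters -/
  δ : IrrCharacter G → ℤ
  union_eq : B = X ∪ Y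
  disjoint : Disjoint X Y
  card_X : Nat.card X = Nat.card (iner h)
  card_Y : Nat.card Y = (Nat.card b.1 - 1) / Nat.card (iner h)
  ε_eq : ∀ w, ε w = 1 ∨ ε w = -1
  ε_iner : ∀ α ∈ iner h, ∀ w, ε (α w) = ε w
  N_eq : ∀ χ ∈ B, ∀ l : b.1 →* ℂˣ, (Nat.card b.1 : ℂ) * (N χ l : ℂ) =
    ∑ v ∈ univ.erase (1 : b.1), (ε v : ℂ) * val p M b χ v * ((l v⁻¹ : ℂ) - 1)
  N_iner : ∀ χ ∈ B, ∀ l : b.1 →* ℂˣ, ∀ α ∈ iner h, N χ (l.comp α.toMonoidHom) = N χ l
  val_eq : ∀ χ ∈ B, ∀ u : b.1, u ≠ 1 →
    (ε u : ℂ) * val p M b χ u = ∑ l : b.1 →* ℂˣ, (l u : ℂ) * (N χ l : ℂ)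
  δ_eq : ∀ χ ∈ B, δ χ = 1 ∨ δ χ = -1
  N_X : ∀ χ ∈ X, ∀ l : b.1 →* ℂˣ, l ≠ 1 → N χ l = δ χ
  N_Y : ∀ ψ ∈ Y, ∃ l₀ : b.1 →* ℂˣ, l₀ ≠ 1 ∧ ∀ l : b.1 →* ℂˣ, l ≠ 1 →
    N ψ l = if ∃ α ∈ iner h, l₀.comp α.toMonoidHom = l then δ ψ else 0
  unique_Y : ∀ l : b.1 →* ℂˣ, l ≠ 1 → ∃ ψ ∈ Y, N ψ l = δ ψ ∧ ∀ φ ∈ Y, φ ≠ ψ → N φ l = 0

variable (hM : IsPModular p M) (hmax : IsMaximalBrauerPair p M B b.1 b.2)
  (hab : ∀ x ∈ b.1, ∀ y ∈ b.1, x * y = y * x) (hfree : IsFree b)

include hM hmax hab hfree in
theorem exists_rowData (hS : HasSigns p M B b hmax.1.1.2) (hP1 : ∃ w : b.1, w ≠ 1)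
    (hk : Nat.card B = Nat.card (iner hmax.1.1.2) + (Nat.card b.1 - 1) / Nat.card (iner hmax.1.1.2)) :
    Nonempty (RowData p M B b hmax.1.1.2) := by
  obtain ⟨ε, hεv, hεA, hεG, hεS⟩ := hS
  set e := Nat.card (iner hmax.1.1.2) with he
  have hepos : 0 < e := card_iner_pos hmax
  letI : CommGroup b.1 :=
    { (inferInstance : Group b.1) with mul_comm := fun x y => Subtype.ext (hab _ x.2 _ y.2) }
  have hcomm : ∀ x y : b.1, x * y = y * x := mul_comm
  haveI : Finite (MulAut b.1) := Finite.of_injective _ DFunLike.coe_injective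
  haveI := Fintype.ofFinite (iner hmax.1.1.2)
  have hcardL : Fintype.card (b.1 →* ℂˣ) = Nat.card b.1 := by
    rw [← Nat.card_eq_fintype_card, Chars.card_monoidHom_units,
      show commutator b.1 = ⊥ from (commutator_eq_bot_iff_center_eq_top _).2
        CommGroup.center_eq_top, Subgroup.index_bot]
  have hne1 : ∀ {α : MulAut b.1} {x : b.1}, x ≠ 1 → α x ≠ 1 := fun {α x} hx h =>
    hx (α.injective (h.trans (map_one α).symm))
  -- the action on the linear characters
  let act : (b.1 →* ℂˣ) → MulAut b.1 → (b.1 →* ℂˣ) := fun l α => l.comp α.toMonoidHom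
  have hact : ∀ l α x, act l α x = l (α x) := fun _ _ _ => rfl
  have hact_mul : ∀ l α β, act (act l α) β = act l (α * β) := fun l α β => MonoidHom.ext fun x => rfl
  have hact_one : ∀ l, act l 1 = l := fun l => MonoidHom.ext fun x => rfl
  have hfreeL : ∀ {l : b.1 →* ℂˣ}, l ≠ 1 → ∀ {α : MulAut b.1}, α ∈ iner hmax.1.1.2 →
      act l α = l → α = 1 := by
    intro l hl α hα h
    by_contra hne
    let φ : b.1 →* b.1 := α.toMonoidHom / MonoidHom.id b.1
    have hinj : Function.Injective φ := (injective_iff_map_eq_one φ).2 fun x hx => by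
      by_contra hx1
      exact hne (eq_one_of_fixed hmax hfree hα hx1 (div_eq_one.1 hx))
    refine hl (MonoidHom.ext fun y => ?_)
    obtain ⟨x, rfl⟩ := (Finite.injective_iff_surjective.1 hinj) y
    have hx := DFunLike.congr_fun h x
    rw [hact] at hx
    rw [show φ x = α x / x from rfl, map_div, hx, div_self', MonoidHom.one_apply]
  let L := {l : b.1 →* ℂˣ // l ≠ 1}
  have hrel : Equivalence fun l l' : L => ∃ α ∈ iner hmax.1.1.2, act l.1 α = l'.1 := by
    refine ⟨fun l => ⟨1, one_mem _, hact_one _⟩, ?_, ?_⟩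
    · rintro l l' ⟨α, hα, h⟩
      exact ⟨α⁻¹, inv_mem hα, by rw [← h, hact_mul, mul_inv_cancel, hact_one]⟩
    · rintro l l' l'' ⟨α, hα, h⟩ ⟨β, hβ, h'⟩
      exact ⟨α * β, mul_mem hα hβ, by rw [← hact_mul, h, h']⟩
  let S : Setoid L := ⟨_, hrel⟩
  haveI : Fintype (Quotient S) := Fintype.ofFinite _
  let rep : Quotient S → L := fun j => j.out
  have ht : Fintype.card (Quotient S) * e = Nat.card b.1 - 1 := by
    have hfib : ∀ j : Quotient S,
        (univ.filter fun l : L => Quotient.mk S l = j).card = e := by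
      intro j
      rw [he, Nat.card_eq_fintype_card, ← Finset.card_univ]
      refine (Finset.card_bij (s := (univ : Finset (iner hmax.1.1.2)))
        (t := univ.filter fun l : L => Quotient.mk S l = j) (fun α _ => (⟨act (rep j).1 α, fun h => (rep j).2 (by
          have h' := congrArg (fun l => act l ((α : MulAut b.1)⁻¹)) h
          simp only [hact_mul, mul_inv_cancel, hact_one] at h'
          rw [h']
          exact MonoidHom.ext fun x => rfl)⟩ : L)) (fun α _ => ?_) (fun α _ β _ h => ?_) fun l hl => ?_).symm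
      · refine Finset.mem_filter.2 ⟨Finset.mem_univ _, ?_⟩
        exact (Quotient.sound (s := S) (b := rep j) (hrel.symm ⟨α, α.2, rfl⟩)).trans j.out_eq
      · have h' : act (rep j).1 α = act (rep j).1 β := congrArg Subtype.val h
        refine Subtype.ext (mul_inv_eq_one.1 (hfreeL (rep j).2 (mul_mem α.2 (inv_mem β.2)) ?_))
        rw [← hact_mul, h', hact_mul, mul_inv_cancel, hact_one]
      · have h1 : Quotient.mk S l = Quotient.mk S (rep j) :=
          (Finset.mem_filter.1 hl).2.trans j.out_eq.symm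
        obtain ⟨α, hα, h⟩ := hrel.symm (Quotient.exact h1)
        exact ⟨⟨α, hα⟩, Finset.mem_univ _, Subtype.ext h⟩
    have h := Finset.card_eq_sum_card_fiberwise (s := (univ : Finset L)) (t := univ)
      (f := Quotient.mk S) fun x _ => Finset.mem_univ _
    rw [Finset.sum_congr rfl fun j _ => hfib j, Finset.sum_const, smul_eq_mul, Finset.card_univ,
      Finset.card_univ, Fintype.card_subtype_compl, Fintype.card_subtype_eq, hcardL] at h
    exact h.symm
  set t := Fintype.card (Quotient S) with htdef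
  have hdiv : (Nat.card b.1 - 1) / e = t := by rw [← ht, Nat.mul_div_cancel _ hepos]
  -- the rows
  set D : IrrCharacter G → b.1 → ℂ := fun χ v => (ε v : ℂ) * val p M b χ v with hD
  have hDA : ∀ (χ : IrrCharacter G) (α : MulAut b.1), α ∈ iner hmax.1.1.2 → ∀ v : b.1, v ≠ 1 →
      D χ (α v) = D χ v := fun χ α hα v hv => by
    simp only [hD, hεA α hα, val_iner hM hmax hab hfree hα hv]
  set m : IrrCharacter G → (b.1 →* ℂˣ) → ℂ := fun χ l =>
    (Nat.card b.1 : ℂ)⁻¹ * ∑ v ∈ univ.erase (1 : b.1), D χ v * ((l v⁻¹ : ℂ) - 1) with hm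
  have hPne : (Nat.card b.1 : ℂ) ≠ 0 := Chars.natCard_ne_zero
  have hn := NilBlock.card_eq hM hmax
  have hint : ∀ χ ∈ B, ∀ l, ∃ n : ℤ, m χ l = n := by
    intro χ hχ l
    obtain ⟨F, hF, hFc⟩ := hεS χ hχ
    have hDs : Spn (localRing M) fun v => if v = 1 then F 1 else D χ v :=
      spn_congr rfl hcomm hF fun v => by
        split_ifs with h
        · subst h; exact Cong.refl _ _
        · exact hFc v h
    obtain ⟨o₁, ho₁, hs₁⟩ := Star.spn_sum_apply (Star.spn_mul hDs (spn_hom l⁻¹))
    obtain ⟨o₂, ho₂, hs₂⟩ := Star.spn_sum_apply hDs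
    have hmR : m χ l = o₁ - o₂ := by
      refine mul_left_cancel₀ hPne ?_
      rw [hm, mul_inv_cancel_left₀ hPne, mul_sub, ← hs₁, ← hs₂, ← Finset.sum_sub_distrib,
        ← Finset.add_sum_erase _ _ (Finset.mem_univ (1 : b.1))]
      simp only [Pi.mul_apply, if_pos, MonoidHom.inv_apply, map_one, map_inv, inv_one,
        Units.val_one, mul_one, sub_self, zero_add]
      refine Finset.sum_congr rfl fun v hv => ?_
      rw [if_neg (Finset.mem_erase.1 hv).1]
      ring
    obtain ⟨z, hz⟩ := Star.exists_int_of_maps (z := (Nat.card b.1 : ℂ) * m χ l) (by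
      rw [hm, mul_inv_cancel_left₀ hPne]
      refine IsIntegral.sum _ fun v _ => IsIntegral.mul ?_ (IsIntegral.sub ?_ isIntegral_one)
      · obtain ⟨j, hj⟩ := NilBlock.exists_orderOf_eq hM hmax v.2
        exact ((by simpa using isIntegral_algebraMap (R := ℤ) (A := ℂ) (x := ε v)) :
          IsIntegral ℤ ((ε v : ℂ))).mul (isIntegral_val χ hj)
      · refine IsIntegral.of_pow (n := Nat.card b.1) Nat.card_pos ?_
        rw [← Units.val_pow_eq_pow_val, ← map_pow, pow_card_eq_one', map_one, Units.val_one]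
        exact isIntegral_one) fun σ => by
      obtain ⟨k, hk, hkK⟩ := Star.exists_pow_char_subgroup (G := G) σ
      rw [hm, mul_inv_cancel_left₀ hPne]
      have hstep : ∀ v : b.1, Star.Maps σ (D χ v * ((l v⁻¹ : ℂ) - 1))
          (D χ (v ^ k) * ((l (v ^ k)⁻¹ : ℂ) - 1)) := by
        intro v
        refine Star.maps_mul (Star.maps_mul ?_ ?_) (maps_sub ?_ ?_)
        · rw [hεG k hk v]; exact maps_intCast _
        · rw [SubmonoidClass.coe_pow]; exact maps_val hM hmax hk hkK χ v.2
        · rw [← inv_pow]; exact hkK b.1 _ (Chars.isCharacter_hom l) v⁻¹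
        · simpa using Star.maps_natCast (ψ := σ) 1
      have h := Star.maps_sum (ψ := σ) (univ.erase (1 : b.1)) fun v _ => hstep v
      have hco : (Nat.card b.1).Coprime k :=
        (Nat.Coprime.coprime_dvd_right (Subgroup.card_subgroup_dvd_card b.1) hk).symm
      have hre : ∑ v ∈ univ.erase (1 : b.1), D χ (v ^ k) * ((l (v ^ k)⁻¹ : ℂ) - 1) =
          ∑ v ∈ univ.erase (1 : b.1), D χ v * ((l v⁻¹ : ℂ) - 1) := by
        refine Finset.sum_equiv (powCoprime hco) (fun v => ?_) fun v _ => rfl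
        simp only [Finset.mem_erase, Finset.mem_univ, and_true, ne_eq]
        refine not_congr ⟨fun h => by rw [h]; simp, fun h => (powCoprime hco).injective ?_⟩
        rw [h]; simp
      rw [hre] at h
      exact h
    rw [hmR, hn, Nat.cast_pow] at hz
    obtain ⟨q, hq⟩ := Star.pow_dvd_of_eq_mul hM _ (sub_mem ho₁ ho₂) hz.symm
    refine ⟨q, mul_left_cancel₀ (pow_ne_zero _ (Nat.cast_ne_zero.2 (Fact.out : p.Prime).ne_zero) :
      ((p : ℂ) ^ blockDefect p B) ≠ 0) ?_⟩
    rw [hmR, hz, hq]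
    push_cast
    rfl
  have hmA : ∀ χ l, ∀ α ∈ iner hmax.1.1.2, m χ (act l α) = m χ l := by
    intro χ l α hα
    simp only [hm]
    congr 1
    refine Finset.sum_equiv α.toEquiv (fun v => ?_) fun v hv => ?_
    · simp
    · show _ = D χ (α v) * ((l (α v)⁻¹ : ℂ) - 1)
      rw [hDA χ α hα v (Finset.mem_erase.1 hv).1, hact, map_inv α]
  have hgram : ∀ l l' : b.1 →* ℂˣ, l ≠ 1 → l' ≠ 1 →
      ∑ χ ∈ B.toFinset, m χ l * conj (m χ l') =
        ∑ α : iner hmax.1.1.2, ((if act l' α = l then (1 : ℂ) else 0) + 1) := by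
    intro l l' hl hl'
    have hinner : ∀ v ∈ univ.erase (1 : b.1), ∀ w ∈ univ.erase (1 : b.1),
        ∑ χ ∈ B.toFinset, D χ v * conj (D χ w) =
          if w ∈ orb b v then (Nat.card b.1 : ℂ) else 0 := by
      intro v hv w hw
      have hv1 := (Finset.mem_erase.1 hv).1
      have hw1 := (Finset.mem_erase.1 hw).1
      simp only [hD, map_mul, map_intCast]
      rw [Finset.sum_congr rfl (g := fun χ => ((ε v : ℂ) * (ε w : ℂ)) *
        (val p M b χ v * conj (val p M b χ w))) fun χ _ => by ring, ← Finset.mul_sum,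
        sum_val_mul_conj hM hmax hab hfree rfl hw1 hv1]
      by_cases h : w ∈ orb b v
      · obtain ⟨α, hα, rfl⟩ := (mem_orb_iff hmax).1 h
        rw [if_pos h, if_pos ((mem_orb_iff hmax).2 ⟨α⁻¹, inv_mem hα, MulAut.inv_apply_self _ _ _⟩),
          hεA α hα]
        rcases hεv v with h | h <;> simp [h]
      · rw [if_neg h, if_neg fun h' => h ?_, mul_zero]
        obtain ⟨α, hα, rfl⟩ := (mem_orb_iff hmax).1 h'
        exact (mem_orb_iff hmax).2 ⟨α⁻¹, inv_mem hα, MulAut.inv_apply_self _ _ _⟩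
    calc ∑ χ ∈ B.toFinset, m χ l * conj (m χ l')
        = (Nat.card b.1 : ℂ)⁻¹ * (Nat.card b.1 : ℂ)⁻¹ * ∑ v ∈ univ.erase (1 : b.1),
            ∑ w ∈ univ.erase (1 : b.1), (((l v⁻¹ : ℂ) - 1) * ((l' w : ℂ) - 1)) *
              ∑ χ ∈ B.toFinset, D χ v * conj (D χ w) := by
          simp only [hm, map_mul, map_inv₀, Complex.conj_natCast, map_sum, map_sub, map_one, conj_hom,
            inv_inv, Finset.mul_sum, Finset.sum_mul]
          conv_lhs => arg 2; ext χ; rw [Finset.sum_comm]
          rw [Finset.sum_comm]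
          refine Finset.sum_congr rfl fun v _ => ?_
          rw [Finset.sum_comm]
          refine Finset.sum_congr rfl fun w _ => Finset.sum_congr rfl fun χ _ => ?_
          ring
      _ = (Nat.card b.1 : ℂ)⁻¹ * ∑ v : b.1, ∑ α : iner hmax.1.1.2,
            ((l v⁻¹ : ℂ) - 1) * ((l' ((α : MulAut b.1) v) : ℂ) - 1) := by
          rw [mul_assoc, ← Finset.add_sum_erase univ
            (fun v : b.1 => ∑ α : iner hmax.1.1.2, _) (Finset.mem_univ (1 : b.1))]
          congr 1
          rw [Finset.mul_sum]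
          simp only [inv_one, map_one, Units.val_one, sub_self, zero_mul, Finset.sum_const_zero,
            zero_add]
          refine Finset.sum_congr rfl fun v hv => ?_
          have hv1 := (Finset.mem_erase.1 hv).1
          rw [Finset.sum_congr rfl fun w hw => by rw [hinner v hv w hw, mul_ite, mul_zero],
            ← Finset.sum_filter, Finset.mul_sum,
            show (univ.erase (1 : b.1)).filter (fun w => w ∈ orb b v) =
              univ.image fun α : iner hmax.1.1.2 => (α : MulAut b.1) v from ?_,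
            Finset.sum_image fun α _ β _ h => Subtype.ext (inv_mul_eq_one.1 (eq_one_of_fixed hmax
              hfree (mul_mem (inv_mem α.2) β.2) hv1 (by
                show (α : MulAut b.1)⁻¹ ((β : MulAut b.1) v) = v
                rw [← show (α : MulAut b.1) v = (β : MulAut b.1) v from h, MulAut.inv_apply_self])))]
          · refine Finset.sum_congr rfl fun α _ => ?_
            field_simp
          · ext w
            simp only [Finset.mem_filter, Finset.mem_erase, Finset.mem_univ, and_true,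
              Finset.mem_image, true_and]
            constructor
            · rintro ⟨-, h⟩
              obtain ⟨α, hα, h⟩ := (mem_orb_iff hmax).1 h
              exact ⟨⟨α, hα⟩, h⟩
            · rintro ⟨α, rfl⟩
              exact ⟨hne1 hv1, (mem_orb_iff hmax).2 ⟨α, α.2, rfl⟩⟩
      _ = _ := by
          rw [Finset.sum_comm, Finset.mul_sum]
          refine Finset.sum_congr rfl fun α _ => ?_
          have hexp : ∀ v : b.1, ((l v⁻¹ : ℂ) - 1) * ((l' ((α : MulAut b.1) v) : ℂ) - 1) =
              ((l⁻¹ * act l' α) v : ℂ) - ((l⁻¹) v : ℂ) - ((act l' α) v : ℂ) + 1 := fun v => by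
            simp only [MonoidHom.mul_apply, MonoidHom.inv_apply, hact, map_inv, Units.val_mul]
            ring
          have hl'α : act l' α ≠ 1 := fun h => hl' (by
            have := congrArg (fun x => act x ((α : MulAut b.1)⁻¹)) h
            simp only [hact_mul, mul_inv_cancel, hact_one] at this
            rw [this]; exact MonoidHom.ext fun x => rfl)
          simp only [hexp, Finset.sum_add_distrib, Finset.sum_sub_distrib, sum_hom_apply,
            if_neg hl'α, if_neg (fun h => hl (MonoidHom.ext fun x => by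
              simpa using DFunLike.congr_fun h x) : ¬ l⁻¹ = 1), Finset.sum_const, Finset.card_univ,
            nsmul_eq_mul, mul_one, sub_zero, Fintype.card_eq_nat_card, inv_mul_eq_one]
          rw [mul_add, inv_mul_cancel₀ hPne]
          congr 1
          by_cases h : act l' α = l
          · rw [if_pos h, if_pos (show l⁻¹ * act l' α = 1 from MonoidHom.ext fun x => by rw [h]; simp),
              inv_mul_cancel₀ hPne]
          · rw [if_neg h, if_neg (fun h' => h (MonoidHom.ext fun x =>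
              (inv_mul_eq_one.1 (DFunLike.congr_fun h' x : (l x)⁻¹ * act l' α x = 1)).symm)), mul_zero]
  choose! n hn' using hint
  let N : B → Quotient S → ℤ := fun χ j => n χ.1 (rep j).1
  have hG : ∀ i j, ∑ χ : B, N χ i * N χ j = (e : ℤ) + if i = j then 1 else 0 := by
    intro i j
    have h := hgram (rep i).1 (rep j).1 (rep i).2 (rep j).2
    rw [Finset.sum_congr rfl fun χ hχ => by
      rw [hn' χ (Set.mem_toFinset.1 hχ), hn' χ (Set.mem_toFinset.1 hχ), map_intCast]] at h
    rw [Finset.sum_add_distrib, Finset.sum_const, Finset.card_univ, nsmul_eq_mul, mul_one,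
      Fintype.card_eq_nat_card] at h
    have hcount : ∑ α : iner hmax.1.1.2, (if act (rep j).1 α = (rep i).1 then (1 : ℂ) else 0) =
        if i = j then 1 else 0 := by
      split_ifs with hij
      · subst hij
        rw [Finset.sum_eq_single (1 : iner hmax.1.1.2) (fun α _ hα => if_neg fun h' =>
          hα (Subtype.ext (hfreeL (rep i).2 α.2 h'))) (by simp)]
        rw [if_pos]
        exact hact_one _
      · refine Finset.sum_eq_zero fun α _ => if_neg fun h' => hij ?_
        rw [← i.out_eq, ← j.out_eq]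
        exact (Quotient.sound (s := S) (show ∃ β ∈ iner hmax.1.1.2, act (rep j).1 β = (rep i).1
          from ⟨α, α.2, h'⟩)).symm
    rw [hcount, ← he] at h
    have h' : ((∑ χ : B, N χ i * N χ j : ℤ) : ℂ) = (((e : ℤ) + if i = j then 1 else 0 : ℤ) : ℂ) := by
      push_cast
      rw [Finset.sum_subtype B.toFinset (p := fun χ => χ ∈ B) (fun χ => Set.mem_toFinset)] at h
      refine (Eq.trans ?_ h).trans (by split_ifs <;> ring)
      rfl
    exact_mod_cast h'
  have hinv : ∀ (χ : IrrCharacter G) (u : b.1), u ≠ 1 →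
      ∑ l : b.1 →* ℂˣ, (l u : ℂ) * m χ l = D χ u := by
    intro χ u hu
    have h0 : ∑ l : b.1 →* ℂˣ, (l u : ℂ) * m χ l = D χ u := by
      simp only [hm, Finset.mul_sum]
      rw [Finset.sum_comm, Finset.sum_eq_single u (fun v hv hne => ?_) (fun h => absurd
        (Finset.mem_erase.2 ⟨hu, Finset.mem_univ _⟩) h)]
      · rw [Finset.sum_congr rfl (g := fun l : b.1 →* ℂˣ => (Nat.card b.1 : ℂ)⁻¹ * D χ u *
          (1 - (l u : ℂ))) fun l _ => by
            rw [map_inv, Units.val_inv_eq_inv_val]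
            field_simp [Units.ne_zero (l u)], ← Finset.mul_sum, Finset.sum_sub_distrib,
          sum_monoidHom_units, if_neg hu, Finset.sum_const, Finset.card_univ, hcardL]
        simp only [nsmul_eq_mul, mul_one, sub_zero]
        field_simp
      · rw [Finset.sum_congr rfl (g := fun l : b.1 →* ℂˣ => (Nat.card b.1 : ℂ)⁻¹ * D χ v *
          ((l (u * v⁻¹) : ℂ) - (l u : ℂ))) fun l _ => by rw [map_mul, Units.val_mul]; ring,
          ← Finset.mul_sum, Finset.sum_sub_distrib, sum_monoidHom_units, sum_monoidHom_units,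
          if_neg hu, if_neg fun h => hne (mul_inv_eq_one.1 h).symm, sub_zero, mul_zero]
    exact h0
  have hrep : ∀ l : L, ∃ α ∈ iner hmax.1.1.2, act (rep (Quotient.mk S l)).1 α = l.1 := fun l =>
    Quotient.exact (Quotient.out_eq (Quotient.mk S l))
  have hrow : ∀ χ : B, ∃ j, N χ j ≠ 0 := by
    intro χ
    by_contra hc
    push Not at hc
    obtain ⟨u, hu⟩ := hP1
    have hall : ∀ l : b.1 →* ℂˣ, m χ.1 l = 0 := by
      intro l
      by_cases hl : l = 1
      · subst hl; simp [hm]
      · obtain ⟨α, hα, h⟩ := hrep ⟨l, hl⟩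
        change act _ α = l at h
        rw [← h, hmA _ _ α hα, hn' χ.1 χ.2, show n χ.1 (rep _).1 = 0 from hc _, Int.cast_zero]
    have h0 := hinv χ.1 u hu
    simp only [hall, mul_zero, Finset.sum_const_zero, hD] at h0
    refine val_ne_zero hM hmax hab hfree χ.2 hu ?_
    rcases mul_eq_zero.1 h0.symm with h | h
    · rcases hεv u with h' | h' <;> rw [h'] at h <;> simp at h
    · exact h
  have htpos : 0 < t := by
    rcases Nat.eq_zero_or_pos t with h | h
    · exfalso
      rw [h, zero_mul] at ht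
      obtain ⟨u, hu⟩ := hP1
      haveI : Nontrivial b.1 := ⟨u, 1, hu⟩
      have := (Finite.one_lt_card : 1 < Nat.card b.1)
      omega
    · exact h
  rw [hdiv] at hk
  obtain ⟨Y, σ, hYinj, hσ, hYN, hX⟩ := Shape.shape hG hrow
    (show Fintype.card B = e + Fintype.card (Quotient S) by rw [Fintype.card_eq_nat_card, hk]) htpos
  -- the rows, defined on all characters
  set Yset : Set (IrrCharacter G) := Set.range fun a => (Y a : IrrCharacter G) with hYset
  have hYB : Yset ⊆ B := by rintro _ ⟨a, rfl⟩; exact (Y a).2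
  have hnl : ∀ χ ∈ B, ∀ l, ∀ α ∈ iner hmax.1.1.2, n χ (act l α) = n χ l := fun χ hχ l α hα => by
    have h := hmA χ l α hα
    rw [hn' χ hχ, hn' χ hχ] at h
    exact_mod_cast h
  have hnrep : ∀ χ ∈ B, ∀ l : L, n χ l.1 = n χ (rep (Quotient.mk S l)).1 := fun χ hχ l => by
    obtain ⟨α, hα, h⟩ := hrep l
    rw [← h, hnl χ hχ _ α hα]
  set j₀ : Quotient S := Classical.choice (Fintype.card_pos_iff.1 htpos)
  set δ : IrrCharacter G → ℤ := fun χ =>
    if h : ∃ a, (Y a : IrrCharacter G) = χ then σ h.choose else n χ (rep j₀).1 with hδ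
  have hδY : ∀ a, δ (Y a) = σ a := fun a => by
    have h : ∃ a', (Y a' : IrrCharacter G) = Y a := ⟨a, rfl⟩
    simp only [hδ, dif_pos h]
    exact congrArg σ (hYinj (Subtype.ext h.choose_spec))
  have hδX : ∀ χ (hχ : χ ∈ B), χ ∉ Yset → (δ χ = 1 ∨ δ χ = -1) ∧ ∀ l : L, n χ l.1 = δ χ := by
    intro χ hχ hno
    obtain ⟨w, hw, hall⟩ := hX ⟨χ, hχ⟩ fun ⟨a, ha⟩ => hno ⟨a, congrArg Subtype.val ha⟩
    have hδχ : δ χ = w := by
      simp only [hδ, dif_neg (fun h => hno h : ¬ ∃ a, (Y a : IrrCharacter G) = χ)]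
      exact hall j₀
    exact ⟨hδχ ▸ hw, fun l => by rw [hδχ, hnrep χ hχ l]; exact hall _⟩
  refine ⟨{ ε := ε, N := n, X := B \ Yset, Y := Yset, δ := δ, union_eq := ?_, disjoint := ?_,
            card_X := ?_, card_Y := ?_, ε_eq := hεv, ε_iner := hεA, N_eq := ?_, N_iner := hnl,
            val_eq := ?_, δ_eq := ?_, N_X := ?_, N_Y := ?_, unique_Y := ?_ }⟩
  · exact (Set.diff_union_of_subset hYB).symm
  · exact Set.disjoint_left.2 fun χ h h' => h.2 h'
  · have h1 : Nat.card Yset = t := by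
      rw [hYset, Nat.card_range_of_injective fun a a' h => hYinj (Subtype.ext h),
        Nat.card_eq_fintype_card]
    rw [Nat.card_coe_set_eq, Set.ncard_diff hYB, ← Nat.card_coe_set_eq, ← Nat.card_coe_set_eq, h1,
      hk, ← he]
    omega
  · rw [hYset, Nat.card_range_of_injective fun a a' h => hYinj (Subtype.ext h),
      Nat.card_eq_fintype_card, ← he, hdiv]
  · intro χ hχ l
    rw [← hn' χ hχ, hm, mul_inv_cancel_left₀ hPne]
  · intro χ hχ u hu
    show D χ u = _
    rw [← hinv χ u hu]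
    exact Finset.sum_congr rfl fun l _ => by rw [hn' χ hχ]
  · intro χ hχ
    by_cases h : χ ∈ Yset
    · obtain ⟨a, rfl⟩ := h
      rw [hδY]
      exact hσ a
    · exact (hδX χ hχ h).1
  · exact fun χ hχ l hl => (hδX χ hχ.1 hχ.2).2 ⟨l, hl⟩
  · rintro _ ⟨a, rfl⟩
    refine ⟨(rep a).1, (rep a).2, fun l hl => ?_⟩
    show n (Y a) l = _
    rw [hδY, hnrep _ (Y a).2 ⟨l, hl⟩, show n (Y a) _ = _ from hYN a _]
    refine if_congr ⟨fun h => ?_, fun h => ?_⟩ rfl rfl
    · obtain ⟨α, hα, h'⟩ := hrep ⟨l, hl⟩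
      exact ⟨α, hα, by rw [h]; exact h'⟩
    · obtain ⟨α, hα, h'⟩ := h
      rw [← a.out_eq]
      exact Quotient.sound (s := S) ⟨α, hα, h'⟩
  · intro l hl
    refine ⟨Y (Quotient.mk S ⟨l, hl⟩), ⟨_, rfl⟩, ?_, ?_⟩
    · rw [hδY, hnrep _ (Y _).2 ⟨l, hl⟩]
      exact (hYN _ _).trans (if_pos rfl)
    · rintro _ ⟨a, rfl⟩ hne
      rw [hnrep _ (Y _).2 ⟨l, hl⟩]
      refine (hYN a _).trans (if_neg fun h => hne ?_)
      rw [h]

end Cfsg.Agent.Lib.CyclicDefect
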