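import Mathlib
import Cfsg.Agent.Lib.CyclicDefect.Rows
import Cfsg.Agent.Lib.CyclicDefect.Rank
import Cfsg.Agent.Lib.FreeInertia.SignsTwo
import Cfsg.Agent.Lib.Blocks.BlockOrth

/-!
# The characters of a block with cyclic defect group
-/

set_option autoImplicit false
set_option linter.unusedSectionVars false

namespace Cfsg.Agent.Lib.CyclicDefect

open Finset Cfsg Cfsg.Agent.Lib Cfsg.Agent.Lib.BrauerPairs Cfsg.Agent.Lib.AbelianStar
open Cfsg.Agent.Lib.FreeInertia
open Cfsg.Agent.Lib.NilBlock (bu bu_fst centralizer_bu con)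
open Cfsg.Agent.Lib.BrauerFeit (regCoef)
open scoped ComplexConjugate

universe u

attribute [local instance] Classical.propDecidable

variable {G : Type u} [Group G] [Fintype G] {p : ℕ} {M : Ideal AlgInt} [Fact p.Prime] [M.IsPrime]
  {B : Set (IrrCharacter G)} {b : BrauerPairIdx G}

variable (hM : IsPModular p M) (hmax : IsMaximalBrauerPair p M B b.1 b.2)
  (hab : ∀ x ∈ b.1, ∀ y ∈ b.1, x * y = y * x) (hfree : IsFree b)

include hM hmax hab hfree in
/-- A column is orthogonal to the values at `p`-regular elements. -/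
theorem sum_apply_mul_conj_val {g : G} (hg : ¬ p ∣ orderOf g) {v : b.1} (hv : v ≠ 1) :
    ∑ φ ∈ B.toFinset, (φ : G → ℂ) g * conj (val p M b φ v) = 0 := by
  have hv1 : (v : G) ≠ 1 := fun h => hv (Subtype.ext h)
  have hnil := isNilpotent_bu hM hmax hab hfree v.2 hv1
  obtain ⟨ξ, hξ⟩ := Blocks.isPBlock_nonempty hnil.1
  have hD : (Nat.card b.1 : ℂ) ≠ 0 := Chars.natCard_ne_zero
  have hval : ∀ φ : IrrCharacter G,
      val p M b φ v = (Nat.card b.1 : ℂ) * Contrib.secCoef p (v : G) φ ξ := fun φ => by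
    rw [secCoef_eq_val hM hmax hab v.2 hnil φ hξ, mul_div_cancel₀ _ hD]
  simp only [hval, Contrib.secCoef, classInner, map_mul, map_sum, Finset.mul_sum]
  rw [Finset.sum_comm]
  refine Finset.sum_eq_zero fun c _ => ?_
  by_cases hc : p ∣ orderOf c
  · refine Finset.sum_eq_zero fun φ _ => ?_
    simp [BrauerFeit.pRegularPart_apply, hc]
  have hcomm : Commute (v : G) (c : G) :=
    (Subgroup.mem_centralizer_singleton_iff.1
      ((centralizer_bu (p := p) (M := M) (b := b) (v : G)).le c.2)).symm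
  have horth : ∑ φ ∈ B.toFinset, (φ : G → ℂ) g * conj ((φ : G → ℂ) ((v : G) * c)) = 0 := by
    rw [← finsum_mem_eq_toFinset_sum]
    refine Blocks.block_orth_conj hM hmax.1.2.1 (Blocks.isPPart_one_of_pRegular hg)
      (Blocks.Sections.isPPart_mul p (NilBlock.exists_orderOf_eq hM hmax v.2) hcomm
        (by rwa [Subgroup.orderOf_coe])) fun h => hv1 (isConj_one_right.1 h)
  refine Eq.trans (Finset.sum_congr rfl (g := fun φ : IrrCharacter G =>
    ((φ : G → ℂ) g * conj ((φ : G → ℂ) ((v : G) * c))) *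
    ((Nat.card b.1 : ℂ) * conj ((Nat.card (Subgroup.centralizer ((bu p M b v).1 : Set G)) : ℂ)⁻¹) *
      conj (conj ((ξ : _ → ℂ) c)))) fun φ _ => ?_) (by rw [← Finset.sum_mul, horth, zero_mul])
  rw [BrauerFeit.pRegularPart_apply, if_neg hc, Complex.conj_natCast]
  ring

variable (R : RowData p M B b hmax.1.1.2)

theorem RowData.X_subset {h : IsPBlock M b.2} (R : RowData p M B b h) {χ : IrrCharacter G}
    (hχ : χ ∈ R.X) : χ ∈ B :=
  R.union_eq.symm ▸ Set.mem_union_left _ hχ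

theorem RowData.Y_subset {h : IsPBlock M b.2} (R : RowData p M B b h) {χ : IrrCharacter G}
    (hχ : χ ∈ R.Y) : χ ∈ B :=
  R.union_eq.symm ▸ Set.mem_union_right _ hχ

theorem RowData.N_one {h : IsPBlock M b.2} (R : RowData p M B b h) {χ : IrrCharacter G}
    (hχ : χ ∈ B) : R.N χ 1 = 0 := by
  have h1 := R.N_eq χ hχ 1
  simp only [MonoidHom.one_apply, Units.val_one, sub_self, mul_zero, Finset.sum_const_zero,
    mul_eq_zero, Nat.cast_eq_zero, Nat.card_pos.ne', false_or, Int.cast_eq_zero] at h1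
  exact h1

include hab in
/-- The constant rows have constant columns. -/
theorem RowData.val_X {h : IsPBlock M b.2} (R : RowData p M B b h) {χ : IrrCharacter G}
    (hχ : χ ∈ R.X) {u : b.1} (hu : u ≠ 1) :
    (R.ε u : ℂ) * val p M b χ u = -(R.δ χ : ℂ) := by
  letI : CommGroup b.1 :=
    { (inferInstance : Group b.1) with mul_comm := fun x y => Subtype.ext (hab _ x.2 _ y.2) }
  rw [R.val_eq χ (R.X_subset hχ) u hu, ← Finset.add_sum_erase _ _ (Finset.mem_univ 1),
    R.N_one (R.X_subset hχ), Int.cast_zero, mul_zero, zero_add,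
    Finset.sum_congr rfl fun l hl => by rw [R.N_X χ hχ l (Finset.mem_erase.1 hl).1],
    ← Finset.sum_mul, Finset.sum_erase_eq_sub (Finset.mem_univ _), sum_monoidHom_units u, if_neg hu,
    MonoidHom.one_apply, Units.val_one]
  ring

include hM hmax hab hfree in
/-- Every row is orthogonal to the values at `p`-regular elements. -/
theorem sum_apply_mul_N {g : G} (hg : ¬ p ∣ orderOf g) (l : b.1 →* ℂˣ) :
    ∑ φ ∈ B.toFinset, (φ : G → ℂ) g * (R.N φ l : ℂ) = 0 := by
  have hD : (Nat.card b.1 : ℂ) ≠ 0 := Chars.natCard_ne_zero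
  refine mul_left_cancel₀ hD ?_
  have hN : ∀ φ ∈ B.toFinset, (Nat.card b.1 : ℂ) * ((φ : G → ℂ) g * (R.N φ l : ℂ)) =
      ∑ v ∈ univ.erase (1 : b.1), (R.ε v : ℂ) * conj ((l v⁻¹ : ℂ) - 1) *
        ((φ : G → ℂ) g * conj (val p M b φ v)) := fun φ hφ => by
    rw [mul_left_comm, ← map_intCast (starRingEnd ℂ), ← Complex.conj_natCast, ← map_mul,
      R.N_eq φ (Set.mem_toFinset.1 hφ) l, map_sum, Finset.mul_sum]
    refine Finset.sum_congr rfl fun v _ => ?_
    simp only [map_mul, map_intCast]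
    ring
  rw [Finset.mul_sum, Finset.sum_congr rfl hN, Finset.sum_comm, mul_zero]
  refine Finset.sum_eq_zero fun v hv => ?_
  rw [← Finset.mul_sum, sum_apply_mul_conj_val hM hmax hab hfree hg (Finset.mem_erase.1 hv).1,
    mul_zero]

include hM hmax hab hfree in
/-- The relation between the unit rows and the constant rows at `p`-regular elements. -/
theorem reg_relation {ψ : IrrCharacter G} (hψ : ψ ∈ R.Y) {g : G} (hg : ¬ p ∣ orderOf g) :
    (R.δ ψ : ℂ) * (ψ : G → ℂ) g + ∑ χ ∈ R.X.toFinset, (R.δ χ : ℂ) * (χ : G → ℂ) g = 0 := by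
  obtain ⟨l, hl, hlN⟩ := R.N_Y ψ hψ
  have hψl : R.N ψ l = R.δ ψ := by
    rw [hlN l hl, if_pos ⟨1, one_mem _, MonoidHom.ext fun x => rfl⟩]
  obtain ⟨ψ', hψ', h1, h2⟩ := R.unique_Y l hl
  obtain rfl : ψ' = ψ := by
    by_contra hne
    have := h2 ψ hψ (Ne.symm hne)
    rw [hψl] at this
    rcases R.δ_eq ψ (R.Y_subset hψ) with h | h <;> omega
  have h := sum_apply_mul_N hM hmax hab hfree R hg l
  have hsplit : B.toFinset = R.X.toFinset ∪ R.Y.toFinset := by
    ext x
    simp [R.union_eq]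
  rw [hsplit, Finset.sum_union (Set.disjoint_toFinset.2 R.disjoint),
    Finset.sum_eq_single ψ' (s := R.Y.toFinset) (fun φ hφ hne => by
      rw [h2 φ (Set.mem_toFinset.1 hφ) hne, Int.cast_zero, mul_zero])
      (fun h' => absurd (Set.mem_toFinset.2 hψ) h')] at h
  rw [h1] at h
  rw [← h, add_comm, Finset.sum_congr rfl fun χ hχ => by
    rw [← R.N_X χ (Set.mem_toFinset.1 hχ) l hl]]
  simp only [mul_comm]

include hM hmax hab hfree in
theorem sign_Y_eq {ψ ψ' : IrrCharacter G} (hψ : ψ ∈ R.Y) (hψ' : ψ' ∈ R.Y) :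
    R.δ ψ = R.δ ψ' := by
  have hp1 : ¬ p ∣ orderOf (1 : G) := by
    rw [orderOf_one]; exact (Fact.out : p.Prime).not_dvd_one
  have h := (reg_relation hM hmax hab hfree R hψ hp1).trans
    (reg_relation hM hmax hab hfree R hψ' hp1).symm
  rw [add_left_inj, ← (Blocks.HeightZero.charDegree_eq ψ).1,
    ← (Blocks.HeightZero.charDegree_eq ψ').1] at h
  have h' : R.δ ψ * (charDegree (ψ : G → ℂ) : ℤ) = R.δ ψ' * (charDegree (ψ' : G → ℂ) : ℤ) := by
    exact_mod_cast h
  have h1 : 0 < (charDegree (ψ : G → ℂ) : ℤ) := by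
    exact_mod_cast Nat.pos_of_ne_zero (Blocks.HeightZero.charDegree_eq ψ).2
  have h2 : 0 < (charDegree (ψ' : G → ℂ) : ℤ) := by
    exact_mod_cast Nat.pos_of_ne_zero (Blocks.HeightZero.charDegree_eq ψ').2
  rcases R.δ_eq ψ (R.Y_subset hψ) with a | a <;> rcases R.δ_eq ψ' (R.Y_subset hψ') with c | c <;>
    rw [a, c] at h' ⊢ <;> linarith

include hM hmax hab hfree in
/-- The signed difference of two constant rows vanishes at the `p`-singular elements. -/
theorem vanish_X {χ χ' : IrrCharacter G} (hχ : χ ∈ R.X) (hχ' : χ' ∈ R.X) {g : G}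
    (hg : p ∣ orderOf g) :
    (R.δ χ : ℂ) * (χ : G → ℂ) g - (R.δ χ' : ℂ) * (χ' : G → ℂ) g = 0 := by
  set F : G → ℂ := fun y => (R.δ χ : ℂ) * (χ : G → ℂ) y - (R.δ χ' : ℂ) * (χ' : G → ℂ) y with hF
  set e := Nat.card (iner hmax.1.1.2) with he
  have he0 : (e : ℂ) ≠ 0 := Nat.cast_ne_zero.2 (card_iner_pos hmax).ne'
  have hD : (Nat.card b.1 : ℂ) ≠ 0 := Chars.natCard_ne_zero
  have hreg : ∀ ψ : IrrCharacter G,
      (R.δ χ : ℂ) * regCoef p χ ψ - (R.δ χ' : ℂ) * regCoef p χ' ψ =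
        (R.δ χ : ℂ) * (if χ = ψ then 1 else 0) - (R.δ χ' : ℂ) * (if χ' = ψ then 1 else 0) := by
    intro ψ
    by_cases hψ : ψ ∈ B
    · have h1 : ∀ φ ∈ B, frm p M b 1 φ ψ = regCoef p φ ψ := fun φ hφ => by
        have h := W_one hM hmax hab (e := e) hφ ψ
        rw [W, mul_assoc] at h
        exact mul_left_cancel₀ hD (mul_left_cancel₀ he0 h)
      have hrest : ∀ w : b.1, w ≠ 1 →
          (R.δ χ : ℂ) * frm p M b w χ ψ = (R.δ χ' : ℂ) * frm p M b w χ' ψ := fun w hw => by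
        refine mul_left_cancel₀ (mul_ne_zero he0 hD) ?_
        have hW := W_eq_val hM hmax hab hfree rfl hw χ ψ
        have hW' := W_eq_val hM hmax hab hfree rfl hw χ' ψ
        rw [W, ← he] at hW hW'
        have hv := R.val_X hab hχ hw
        have hv' := R.val_X hab hχ' hw
        have hεsq : (R.ε w : ℂ) * (R.ε w : ℂ) = 1 := by
          rcases R.ε_eq w with h | h <;> simp [h]
        have hδ : (R.δ χ : ℂ) * (R.δ χ : ℂ) = 1 := by
          rcases R.δ_eq χ (R.X_subset hχ) with h | h <;> simp [h]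
        have hδ' : (R.δ χ' : ℂ) * (R.δ χ' : ℂ) = 1 := by
          rcases R.δ_eq χ' (R.X_subset hχ') with h | h <;> simp [h]
        have hv2 : (R.δ χ : ℂ) * val p M b χ w = (R.δ χ' : ℂ) * val p M b χ' w := by
          linear_combination (R.ε w : ℂ) * (R.δ χ : ℂ) * hv - (R.ε w : ℂ) * (R.δ χ' : ℂ) * hv' -
            ((R.δ χ : ℂ) * val p M b χ w) * hεsq + ((R.δ χ' : ℂ) * val p M b χ' w) * hεsq -
            (R.ε w : ℂ) * hδ + (R.ε w : ℂ) * hδ'
        linear_combination (R.δ χ : ℂ) * hW - (R.δ χ' : ℂ) * hW' +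
          conj (val p M b ψ w) * hv2
      rw [← sum_frm hM hmax hab (R.X_subset hχ) ψ, ← sum_frm hM hmax hab (R.X_subset hχ') ψ,
        ← h1 χ (R.X_subset hχ), ← h1 χ' (R.X_subset hχ'),
        ← Finset.add_sum_erase _ _ (Finset.mem_univ (1 : b.1)),
        ← Finset.add_sum_erase _ (fun w => frm p M b w χ' ψ) (Finset.mem_univ (1 : b.1))]
      have hsum : (R.δ χ : ℂ) * ∑ w ∈ univ.erase (1 : b.1), frm p M b w χ ψ =
          (R.δ χ' : ℂ) * ∑ w ∈ univ.erase (1 : b.1), frm p M b w χ' ψ := by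
        rw [Finset.mul_sum, Finset.mul_sum]
        exact Finset.sum_congr rfl fun w hw => hrest w (Finset.mem_erase.1 hw).1
      linear_combination -hsum
    · rw [BrauerFeit.regCoef_eq_zero_of_not_mem (BrauerFeit.regOrth hM) hmax.1.2.1
          (R.X_subset hχ) hψ, BrauerFeit.regCoef_eq_zero_of_not_mem (BrauerFeit.regOrth hM)
          hmax.1.2.1 (R.X_subset hχ') hψ, if_neg (fun h : χ = ψ => hψ (h ▸ R.X_subset hχ)),
        if_neg (fun h : χ' = ψ => hψ (h ▸ R.X_subset hχ'))]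
  have hcl : IsClassFunction G F := fun a c => by
    simp only [hF, Chars.irr_isClassFunction χ a c, Chars.irr_isClassFunction χ' a c]
  have hinner : ∀ ψ : IrrCharacter G,
      classInner (pRegularPart p F) (ψ : G → ℂ) = classInner F (ψ : G → ℂ) := fun ψ => by
    have h := hreg ψ
    rw [← Chars.classInner_irr, ← Chars.classInner_irr] at h
    simp only [regCoef, classInner, Finset.mul_sum, ← Finset.sum_sub_distrib] at h
    simp only [classInner, Finset.mul_sum]
    refine Eq.trans ?_ (h.trans ?_) <;> refine Finset.sum_congr rfl fun y _ => ?_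
    · simp only [BrauerFeit.pRegularPart_apply, hF]
      split_ifs <;> ring
    · simp only [hF]
      ring
  have heq : pRegularPart p F = F := by
    rw [Chars.isClassFunction_eq_sum_classInner (BrauerFeit.isClassFunction_pRegularPart p hcl)]
    conv_rhs => rw [Chars.isClassFunction_eq_sum_classInner hcl]
    exact Finset.sum_congr rfl fun ψ _ => by rw [hinner]
  have := congrFun heq g
  rw [BrauerFeit.pRegularPart_apply, if_pos hg] at this
  exact this.symm

include hM hmax hab hfree in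
/-- The signed degrees of the constant rows are congruent modulo the `p`-part of the order. -/
theorem degree_congr {χ χ' : IrrCharacter G} (hχ : χ ∈ R.X) (hχ' : χ' ∈ R.X) :
    R.δ χ * (charDegree (χ : G → ℂ) : ℤ) ≡ R.δ χ' * (charDegree (χ' : G → ℂ) : ℤ)
      [ZMOD (p : ℤ) ^ (Nat.card G).factorization p] := by
  have S : Sylow p G := default
  have hcardS : Nat.card (S : Subgroup G) = p ^ (Nat.card G).factorization p := S.card_eq_multiplicity
  have hres : ∀ φ : IrrCharacter G, ∃ n : ℕ,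
      ∑ s : (S : Subgroup G), (φ : G → ℂ) s = (Nat.card (S : Subgroup G) : ℂ) * n := fun φ => by
    obtain ⟨n, hn⟩ := Chars.isCharacter_classInner_nat
      (Chars.isCharacter_restrict (S : Subgroup G) (Chars.irr_isCharacter φ))
      (Chars.isCharacter_hom (1 : (S : Subgroup G) →* ℂˣ))
    refine ⟨n, ?_⟩
    rw [← hn, classInner, ← mul_assoc, mul_inv_cancel₀ Chars.natCard_ne_zero, one_mul]
    simp
  obtain ⟨n, hn⟩ := hres χ
  obtain ⟨n', hn'⟩ := hres χ'
  have hsum : ∑ s : (S : Subgroup G),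
      ((R.δ χ : ℂ) * (χ : G → ℂ) s - (R.δ χ' : ℂ) * (χ' : G → ℂ) s) =
        (R.δ χ : ℂ) * (χ : G → ℂ) 1 - (R.δ χ' : ℂ) * (χ' : G → ℂ) 1 := by
    rw [Finset.sum_eq_single (1 : (S : Subgroup G)) (fun s _ hs => ?_) (by simp)]
    · simp
    refine vanish_X hM hmax hab hfree R hχ hχ' ?_
    obtain ⟨k, hk⟩ := IsPGroup.iff_orderOf.1 S.isPGroup' s
    rw [Subgroup.orderOf_coe, hk]
    refine dvd_pow_self p fun h => hs ?_
    rw [h, pow_zero, orderOf_eq_one_iff] at hk
    exact hk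
  rw [Finset.sum_sub_distrib, ← Finset.mul_sum, ← Finset.mul_sum, hn, hn',
    ← (Blocks.HeightZero.charDegree_eq χ).1, ← (Blocks.HeightZero.charDegree_eq χ').1] at hsum
  refine (Int.modEq_iff_dvd.2 ⟨R.δ χ * n - R.δ χ' * n', ?_⟩).symm
  have hcast : (((R.δ χ * (charDegree (χ : G → ℂ) : ℤ) - R.δ χ' * (charDegree (χ' : G → ℂ) : ℤ) : ℤ)) : ℂ)
      = (((p : ℤ) ^ (Nat.card G).factorization p * (R.δ χ * n - R.δ χ' * n') : ℤ) : ℂ) := by
    push_cast
    rw [← hsum, hcardS]
    push_cast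
    ring
  exact_mod_cast hcast

include hM hmax hab hfree in
theorem degree_congr_Y {ψ χ : IrrCharacter G} (hψ : ψ ∈ R.Y) (hχ : χ ∈ R.X) :
    R.δ ψ * (charDegree (ψ : G → ℂ) : ℤ) ≡
      -((Nat.card (iner hmax.1.1.2) : ℤ) * (R.δ χ * (charDegree (χ : G → ℂ) : ℤ)))
      [ZMOD (p : ℤ) ^ (Nat.card G).factorization p] := by
  have hp1 : ¬ p ∣ orderOf (1 : G) := by
    rw [orderOf_one]; exact (Fact.out : p.Prime).not_dvd_one
  have h := reg_relation hM hmax hab hfree R hψ hp1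
  simp only [← (Blocks.HeightZero.charDegree_eq _).1] at h
  have h' : R.δ ψ * (charDegree (ψ : G → ℂ) : ℤ) =
      -∑ φ ∈ R.X.toFinset, R.δ φ * (charDegree (φ : G → ℂ) : ℤ) :=
    eq_neg_of_add_eq_zero_left (by exact_mod_cast h)
  rw [h']
  refine Int.ModEq.neg ?_
  have hc : (R.X.toFinset.card : ℤ) = (Nat.card (iner hmax.1.1.2) : ℤ) := by
    rw [← R.card_X, ← Nat.card_eq_card_toFinset]
  rw [← hc, ← nsmul_eq_mul, ← Finset.sum_const]
  exact Int.ModEq.sum fun φ hφ => degree_congr hM hmax hab hfree R (Set.mem_toFinset.1 hφ) hχ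

include hM hmax hab hfree R in
/-- All heights vanish. -/
theorem height_eq_zero (hP1 : ∃ w : b.1, w ≠ 1) {χ : IrrCharacter G} (hχ : χ ∈ B) :
    blockHeight p B (χ : G → ℂ) = 0 := by
  have hp : p.Prime := Fact.out
  set n := (Nat.card G).factorization p
  set d := blockDefect p B
  have hd : 1 ≤ d := by
    obtain ⟨u, hu⟩ := hP1
    haveI : Nontrivial b.1 := ⟨u, 1, hu⟩
    have h : 1 < Nat.card b.1 := Finite.one_lt_card
    rw [NilBlock.card_eq hM hmax] at h
    by_contra h0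
    rw [show blockDefect p B = 0 by omega] at h
    simp at h
  obtain ⟨x, hx⟩ : (RowData.X R).Nonempty := by
    rw [← Set.ncard_pos, ← Nat.card_coe_set_eq, R.card_X]
    exact card_iner_pos hmax
  set z : ℤ := R.δ x * (charDegree (x : G → ℂ) : ℤ)
  -- each degree has the same divisibility as `z`
  have hkey : ∀ φ ∈ B, ∀ k ≤ n,
      (p ^ k ∣ charDegree (φ : G → ℂ) ↔ (p : ℤ) ^ k ∣ z) := by
    intro φ hφ k hk
    have hd' : ∀ {s c : ℤ}, (s = 1 ∨ s = -1) → IsCoprime ((p : ℤ) ^ k) c →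
        s * (charDegree (φ : G → ℂ) : ℤ) ≡ c * z [ZMOD (p : ℤ) ^ n] →
        (p ^ k ∣ charDegree (φ : G → ℂ) ↔ (p : ℤ) ^ k ∣ z) := by
      intro s c hs hc h
      have h1 := Int.ModEq.of_dvd (pow_dvd_pow (p : ℤ) hk) h
      rw [← Int.natCast_dvd_natCast, Nat.cast_pow]
      have h2 : (p : ℤ) ^ k ∣ (charDegree (φ : G → ℂ) : ℤ) ↔
          (p : ℤ) ^ k ∣ s * (charDegree (φ : G → ℂ) : ℤ) := by
        rcases hs with rfl | rfl <;> simp
      rw [h2, Int.ModEq.dvd_iff h1]
      exact ⟨hc.dvd_of_dvd_mul_left, fun h => h.mul_left c⟩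
    rw [R.union_eq] at hφ
    rcases hφ with hφ | hφ
    · refine hd' (R.δ_eq φ (R.X_subset hφ)) isCoprime_one_right ?_
      rw [one_mul]
      exact degree_congr hM hmax hab hfree R hφ hx
    · refine hd' (R.δ_eq φ (R.Y_subset hφ)) (c := -(Nat.card (iner hmax.1.1.2) : ℤ)) ?_ ?_
      · refine (IsCoprime.pow_left ?_).neg_right
        exact Nat.Coprime.isCoprime
          (hp.coprime_iff_not_dvd.2 (not_dvd_card_aut hM hmax hab))
      · rw [neg_mul]
        exact degree_congr_Y hM hmax hab hfree R hφ hx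
  obtain ⟨χ₀, hχ₀, h0⟩ := Blocks.exists_height_zero (p := p) hmax.1.2.1
  have hf0 := Blocks.factorization_degree_add_blockDefect hM hmax.1.2.1 hχ₀
  have hf := Blocks.factorization_degree_add_blockDefect hM hmax.1.2.1 hχ
  rw [h0] at hf0
  set k := (charDegree (χ₀ : G → ℂ)).factorization p
  have hχ0 := (Blocks.HeightZero.charDegree_eq χ₀).2
  have hχne := (Blocks.HeightZero.charDegree_eq χ).2
  have h1 : p ^ k ∣ charDegree (χ : G → ℂ) :=
    (hkey χ hχ k (by omega)).2 ((hkey χ₀ hχ₀ k (by omega)).1 (Nat.ordProj_dvd _ _))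
  have h2 : ¬ p ^ (k + 1) ∣ charDegree (χ : G → ℂ) := fun h =>
    Nat.pow_succ_factorization_not_dvd hχ0 hp
      ((hkey χ₀ hχ₀ _ (by omega)).2 ((hkey χ hχ _ (by omega)).1 h))
  rw [hp.pow_dvd_iff_le_factorization hχne] at h1 h2
  omega

end Cfsg.Agent.Lib.CyclicDefect
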