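import Mathlib
import Cfsg.Agent.Lib.CyclicDefect.Structure
import Cfsg.Agent.Lib.CyclicDefect.Setup

/-!
# Blocks with cyclic defect group: the summary
-/

set_option autoImplicit false
set_option linter.unusedSectionVars false

namespace Cfsg.Agent.Lib.CyclicDefect

open Finset Cfsg Cfsg.Agent.Lib Cfsg.Agent.Lib.BrauerPairs Cfsg.Agent.Lib.AbelianStar
open Cfsg.Agent.Lib.FreeInertia

universe u

attribute [local instance] Classical.propDecidable

variable {G : Type u} [Group G] [Fintype G] {p : ℕ} {M : Ideal AlgInt} [Fact p.Prime] [M.IsPrime]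
  {B : Set (IrrCharacter G)} {b : BrauerPairIdx G}

/-- A block with nontrivial cyclic defect group has row data. -/
theorem exists_rowData_of_isCyclic (hM : IsPModular p M)
    (hmax : IsMaximalBrauerPair p M B b.1 b.2) (hcyc : IsCyclic b.1) (hne : b.1 ≠ ⊥) :
    Nonempty (RowData p M B b hmax.1.1.2) := by
  have hab := comm_of_isCyclic hcyc
  have hfree := FreeInertia.isFree_of_isCyclic hM hmax hab hcyc
  have hP1 : ∃ w : b.1, w ≠ 1 := by
    haveI : Nontrivial b.1 := (Subgroup.nontrivial_iff_ne_bot b.1).2 hne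
    exact exists_ne 1
  refine exists_rowData hM hmax hab hfree (FreeInertia.hasSigns hM hmax hab hfree hP1) hP1 ?_
  rw [card_iner hmax.1.1.2]
  exact (rank_and_card hM hmax hcyc hne).2

/-- The ordinary characters of a block with nontrivial cyclic defect group. -/
theorem characters (hM : IsPModular p M) (hmax : IsMaximalBrauerPair p M B b.1 b.2)
    (hcyc : IsCyclic b.1) (hne : b.1 ≠ ⊥) {e : ℕ}
    (he : (Subgroup.centralizer (b.1 : Set G)).relIndex (pairStab hmax.1.1.2) = e) {a : ℕ}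
    (ha : Nat.card b.1 = p ^ a) :
    (∀ χ ∈ B, blockHeight p B (χ : G → ℂ) = 0) ∧
    ∃ X Y : Set (IrrCharacter G), B = X ∪ Y ∧ Disjoint X Y ∧ Nat.card X = e ∧
      Nat.card Y = (p ^ a - 1) / e ∧
      (∀ ψ ∈ Y, ∀ ψ' ∈ Y, ∀ g : G, ¬ p ∣ orderOf g → (ψ : G → ℂ) g = (ψ' : G → ℂ) g) ∧
      ∃ (δ : IrrCharacter G → ℤ) (δ₀ : ℤ), (∀ χ ∈ X, δ χ = 1 ∨ δ χ = -1) ∧ (δ₀ = 1 ∨ δ₀ = -1) ∧
        (∀ ψ ∈ Y, ∀ g : G, ¬ p ∣ orderOf g →
          (δ₀ : ℂ) * (ψ : G → ℂ) g + ∑ᶠ χ ∈ X, (δ χ : ℂ) * (χ : G → ℂ) g = 0) ∧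
        (∀ χ ∈ X, ∀ χ' ∈ X, δ χ * (charDegree (χ : G → ℂ) : ℤ) ≡
          δ χ' * (charDegree (χ' : G → ℂ) : ℤ) [ZMOD (p : ℤ) ^ a]) ∧
        (∀ ψ ∈ Y, ∀ χ ∈ X, (charDegree (ψ : G → ℂ) : ℤ) ≡
          -((e : ℤ) * δ₀ * δ χ * (charDegree (χ : G → ℂ) : ℤ)) [ZMOD (p : ℤ) ^ a]) := by
  have hab := comm_of_isCyclic hcyc
  have hfree := FreeInertia.isFree_of_isCyclic hM hmax hab hcyc
  have hP1 : ∃ w : b.1, w ≠ 1 := by
    haveI : Nontrivial b.1 := (Subgroup.nontrivial_iff_ne_bot b.1).2 hne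
    exact exists_ne 1
  obtain ⟨R⟩ := exists_rowData_of_isCyclic hM hmax hcyc hne
  have hiner : Nat.card (iner hmax.1.1.2) = e := (card_iner hmax.1.1.2).trans he
  have han : a ≤ (Nat.card G).factorization p := by
    refine ((Fact.out : p.Prime).pow_dvd_iff_le_factorization Nat.card_pos.ne').1 ?_
    rw [← ha]
    exact Subgroup.card_subgroup_dvd_card b.1
  have hdvd := pow_dvd_pow (p : ℤ) han
  -- the sign shared by the unit rows
  obtain ⟨ψ₀, hψ₀⟩ : (RowData.Y R).Nonempty := by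
    obtain ⟨u, hu⟩ := hP1
    haveI : Finite b.1 := inferInstance
    obtain ⟨l, hl⟩ : ∃ l : b.1 →* ℂˣ, l ≠ 1 := by
      letI : CommGroup b.1 :=
        { (inferInstance : Group b.1) with mul_comm := fun x y => Subtype.ext (hab _ x.2 _ y.2) }
      obtain ⟨φ, hφ⟩ := CommGroup.exists_apply_ne_one_of_hasEnoughRootsOfUnity b.1 ℂ hu
      exact ⟨φ, fun h => hφ (by rw [h, MonoidHom.one_apply])⟩
    obtain ⟨ψ, hψ, -⟩ := R.unique_Y l hl
    exact ⟨ψ, hψ⟩
  refine ⟨fun χ hχ => height_eq_zero hM hmax hab hfree R hP1 hχ, R.X, R.Y, R.union_eq, R.disjoint,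
    R.card_X.trans hiner, ?_, fun ψ hψ ψ' hψ' g hg => ?_, R.δ, R.δ ψ₀,
    fun χ hχ => R.δ_eq χ (R.X_subset hχ), R.δ_eq ψ₀ (R.Y_subset hψ₀), fun ψ hψ g hg => ?_,
    fun χ hχ χ' hχ' => Int.ModEq.of_dvd hdvd (degree_congr hM hmax hab hfree R hχ hχ'),
    fun ψ hψ χ hχ => ?_⟩
  · rw [R.card_Y, hiner, ha]
  · have h := (reg_relation hM hmax hab hfree R hψ hg).trans
      (reg_relation hM hmax hab hfree R hψ' hg).symm
    rw [add_left_inj, sign_Y_eq hM hmax hab hfree R hψ hψ'] at h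
    refine mul_left_cancel₀ ?_ h
    rcases R.δ_eq ψ' (R.Y_subset hψ') with h' | h' <;> rw [h'] <;> norm_num
  · rw [sign_Y_eq hM hmax hab hfree R hψ₀ hψ, finsum_mem_eq_toFinset_sum]
    exact reg_relation hM hmax hab hfree R hψ hg
  · have h := Int.ModEq.of_dvd hdvd (degree_congr_Y hM hmax hab hfree R hψ hχ)
    rw [hiner] at h
    rw [sign_Y_eq hM hmax hab hfree R hψ₀ hψ]
    rcases R.δ_eq ψ (R.Y_subset hψ) with h' | h' <;> rw [h'] at h ⊢
    · rw [one_mul] at h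
      rwa [mul_one, mul_assoc]
    · have h2 := h.neg
      rw [neg_mul, one_mul, neg_neg, neg_neg] at h2
      rw [show -((e : ℤ) * -1 * R.δ χ * (charDegree (χ : G → ℂ) : ℤ)) =
        (e : ℤ) * (R.δ χ * (charDegree (χ : G → ℂ) : ℤ)) by ring]
      exact h2

end Cfsg.Agent.Lib.CyclicDefect
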